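import Cfsg.Agent.OddHalf.D5.Defs
import Cfsg.Agent.OddHalf.D6.Harada

/-!
# ODD D5, `n = 7`: `C_G(t) = ⟨t⟩ × A₇` (helper905)

`T = ⟨t⟩ × D₈` is a Sylow 2-subgroup of `C_G(t)`, `T/⟨t⟩` is dihedral, so the sectional 2-rank of `G` is at most four
(`D6.Harada`).
-/

set_option autoImplicit false

namespace Cfsg.Agent.OddHalf.D5.Seven.Clean

open Subgroup Equiv Cfsg

/-- `(0 1 2 3)(4 5)` -/
def cc : Perm (Fin 7) := swap 0 1 * swap 1 2 * swap 2 3 * swap 4 5
/-- `(0 2)(4 5)` -/
def ss : Perm (Fin 7) := swap 0 2 * swap 4 5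

/-- the dihedral group of order eight in `A₇` -/
def rhoFun : DihedralGroup 4 → Perm (Fin 7)
  | .r i => cc ^ i.val
  | .sr i => ss * cc ^ i.val

theorem rho_mul : ∀ x y, rhoFun (x * y) = rhoFun x * rhoFun y := by decide +kernel

theorem rho_inj : ∀ x, rhoFun x = 1 → x = 1 := by decide +kernel

theorem rho_even : ∀ x, Perm.sign (rhoFun x) = 1 := by decide +kernel

/-- the dihedral group of order eight in `A₇` -/
def rho : DihedralGroup 4 →* An 7 :=
  MonoidHom.mk' (fun x => ⟨rhoFun x, Perm.mem_alternatingGroup.2 (rho_even x)⟩)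
    (fun x y => Subtype.ext (rho_mul x y))

theorem rho_injective : Function.Injective rho := by
  rw [injective_iff_map_eq_one]
  intro x hx
  exact rho_inj x (congrArg Subtype.val hx)

/-- a four-group -/
def vFun (x : ℤˣ × ℤˣ) : DihedralGroup 4 := (if x.1 = 1 then 1 else .r 2) * (if x.2 = 1 then 1 else .sr 0)

/-- a four-group -/
def vHom : ℤˣ × ℤˣ →* DihedralGroup 4 := MonoidHom.mk' vFun (by decide +kernel)

theorem vHom_injective : Function.Injective vHom := by
  rw [injective_iff_map_eq_one]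
  decide +kernel

variable {G : Type*} [Group G] {t : G} {ι : An 7 →* G}

/-- the isomorphism `ℤˣ × A₇ → C(t)` -/
theorem exists_equiv (h : Spl t (An 7) ι) :
    ∃ E : ℤˣ × An 7 ≃* centralizer ({t} : Set G), ∀ x, (E x : G) = (if x.1 = 1 then 1 else t) * ι x.2 := by
  classical
  have h1 : (-1 : ℤˣ) ≠ 1 := by decide
  have h2 : (-1 : ℤˣ) * -1 = 1 := by decide
  let f : ℤˣ × An 7 →* G :=
    { toFun := fun x => (if x.1 = 1 then 1 else t) * ι x.2
      map_one' := by simp
      map_mul' := by
        rintro ⟨e, a⟩ ⟨e', b⟩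
        rcases Int.units_eq_one_or e with he | he <;> rcases Int.units_eq_one_or e' with he' | he'
        · simp [he, he']
        · simp only [he, he', Prod.mk_mul_mk, one_mul, if_neg h1, if_true, map_mul]
          rw [← mul_assoc, h.comm a, mul_assoc]
        · simp only [he, he', Prod.mk_mul_mk, one_mul, mul_one, if_neg h1, if_true, map_mul, mul_assoc]
        · simp only [he, he', Prod.mk_mul_mk, one_mul, if_neg h1, if_true, map_mul, h2]
          calc ι a * ι b = (t * t) * ι a * ι b := by rw [h.tt, one_mul]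
            _ = t * (t * ι a) * ι b := by group
            _ = t * (ι a * t) * ι b := by rw [h.comm a]
            _ = t * ι a * (t * ι b) := by group }
  have hf : ∀ x, f x = (if x.1 = 1 then 1 else t) * ι x.2 := fun _ => rfl
  have hmem : ∀ x, f x ∈ centralizer ({t} : Set G) := by
    rintro ⟨e, a⟩
    rw [mem_centralizer_singleton_iff, hf]
    rcases Int.units_eq_one_or e with he | he
    · simp only [he, if_true, one_mul]; exact h.comm' a
    · simp only [he, if_neg h1]
      rw [mul_assoc, ← h.comm a]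
  let F : ℤˣ × An 7 →* centralizer ({t} : Set G) := f.codRestrict _ hmem
  have hFc : ∀ x, (F x : G) = (if x.1 = 1 then 1 else t) * ι x.2 := fun _ => rfl
  have hF : Function.Bijective F := by
    constructor
    · rintro ⟨e, a⟩ ⟨e', b⟩ hab
      have hab' : (F (e, a) : G) = F (e', b) := congrArg Subtype.val hab
      rw [hFc, hFc] at hab'
      rcases Int.units_eq_one_or e with he | he <;> rcases Int.units_eq_one_or e' with he' | he'
      · simp only [he, he', if_true, one_mul] at hab'
        rw [he, he', h.inj hab']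
      · simp only [he, he', if_true, one_mul, if_neg h1] at hab'
        exact absurd hab' (h.tne _ _)
      · simp only [he, he', if_true, one_mul, if_neg h1] at hab'
        exact absurd hab'.symm (h.tne _ _)
      · simp only [he, he', if_neg h1] at hab'
        rw [he, he', h.inj (mul_left_cancel hab')]
    · rintro ⟨x, hx⟩
      obtain ⟨a, ha | ha⟩ := h.cases (mem_centralizer_singleton_iff.1 hx)
      · refine ⟨(1, a), Subtype.ext ?_⟩
        rw [hFc, if_pos rfl, one_mul]
        exact ha.symm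
      · refine ⟨(-1, a), Subtype.ext ?_⟩
        rw [hFc, if_neg h1]
        exact ha.symm
  exact ⟨MulEquiv.ofBijective F hF, hFc⟩

/-- **The clean case: sectional 2-rank at most four.** -/
theorem rank_four [Finite G] (h : Spl t (An 7) ι) : SectionalPRankLE 2 4 G := by
  classical
  obtain ⟨E, hE⟩ := exists_equiv h
  have h0 : (-1 : ℤˣ) ≠ 1 := by decide
  -- the embedding of `ℤˣ × D₈`
  let F : ℤˣ × DihedralGroup 4 →* G := ((centralizer ({t} : Set G)).subtype.comp E.toMonoidHom).comp
    ((MonoidHom.id ℤˣ).prodMap rho)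
  have hF : Function.Injective F := by
    have h1 : Function.Injective ((MonoidHom.id ℤˣ).prodMap rho) := by
      rintro ⟨a, b⟩ ⟨a', b'⟩ e
      have e1 : a = a' := congrArg Prod.fst e
      have e2 : rho b = rho b' := congrArg Prod.snd e
      rw [e1, rho_injective e2]
    exact (Subtype.val_injective.comp E.injective).comp h1
  have hFt : F (-1, 1) = t := by
    show (E (-1, rho 1) : G) = t
    rw [hE, if_neg h0, map_one, map_one, mul_one]
  have hFC : ∀ x, F x ∈ centralizer ({t} : Set G) := fun x => (E (x.1, rho x.2)).2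
  obtain ⟨T, hT⟩ : ∃ T, T = F.range := ⟨_, rfl⟩
  have hcardT : Nat.card T = 16 := by
    rw [hT, ← Nat.card_congr (MonoidHom.ofInjective hF).toEquiv, Nat.card_prod, DihedralGroup.nat_card,
      Nat.card_eq_fintype_card]
    rfl
  have htT : t ∈ T := by rw [hT]; exact ⟨_, hFt⟩
  have hcardC : Nat.card (centralizer ({t} : Set G)) = 5040 := by
    rw [← Nat.card_congr E.toEquiv, Nat.card_prod, nat_card_alternatingGroup, Nat.card_eq_fintype_card, Nat.card_fin]
    simp [Nat.factorial]
  have hTC : T ≤ centralizer ({t} : Set G) := by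
    rw [hT]
    rintro _ ⟨x, rfl⟩
    exact hFC x
  have ho : orderOf t = 2 := orderOf_eq_prime (by rw [pow_two, h.tt]) h.t1
  have hodd : Odd (T.relIndex (centralizer ({t} : Set G))) := by
    have h1 := (T.subgroupOf (centralizer ({t} : Set G))).card_mul_index
    rw [Nat.card_congr (subgroupOfEquivOfLe hTC).toEquiv, hcardT, hcardC] at h1
    change 16 * T.relIndex (centralizer ({t} : Set G)) = 5040 at h1
    rw [Nat.odd_iff]
    omega
  have hcen : ∀ y : T, y * ⟨t, htT⟩ = ⟨t, htT⟩ * y := fun y =>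
    Subtype.ext (mem_centralizer_singleton_iff.1 (hTC y.2))
  have hn : (zpowers (⟨t, htT⟩ : T)).Normal := by
    refine ⟨fun y hy g => ?_⟩
    obtain ⟨k, rfl⟩ := mem_zpowers_iff.1 hy
    have h1 : g * (⟨t, htT⟩ : T) ^ k * g⁻¹ = (⟨t, htT⟩ : T) ^ k := by
      have h2 : Commute g ((⟨t, htT⟩ : T) ^ k) := Commute.zpow_right (hcen g) k
      rw [h2.eq, mul_inv_cancel_right]
    rw [h1]
    exact hy
  -- the quotient
  obtain ⟨q, hq⟩ : ∃ q : T →* DihedralGroup 4, ∀ x : ℤˣ × DihedralGroup 4, ∀ hx : F x ∈ T, q ⟨F x, hx⟩ = x.2 := by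
    subst hT
    refine ⟨(MonoidHom.snd _ _).comp (MonoidHom.ofInjective hF).symm.toMonoidHom, ?_⟩
    intro x hx
    show ((MonoidHom.ofInjective hF).symm ⟨F x, hx⟩).2 = x.2
    have : (MonoidHom.ofInjective hF).symm ⟨F x, hx⟩ = x := by
      rw [MulEquiv.symm_apply_eq]
      rfl
    rw [this]
  have hrep : ∀ y : T, ∃ x, ∃ hx : F x ∈ T, y = ⟨F x, hx⟩ := by
    intro y
    obtain ⟨x, hx⟩ := hT.le y.2
    exact ⟨x, by rw [hx]; exact y.2, Subtype.ext hx.symm⟩
  have hFT : ∀ x, F x ∈ T := fun x => by rw [hT]; exact ⟨x, rfl⟩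
  have hqs : Function.Surjective q := fun d => ⟨⟨F (1, d), hFT _⟩, hq _ _⟩
  have hker : q.ker = zpowers (⟨t, htT⟩ : T) := by
    ext y
    rw [MonoidHom.mem_ker]
    constructor
    · intro hy
      obtain ⟨⟨ε, d⟩, hx, rfl⟩ := hrep y
      rw [hq] at hy
      have hd : d = 1 := hy
      subst hd
      rcases Int.units_eq_one_or ε with he | he
      · subst he
        have : (⟨F (1, 1), hx⟩ : T) = 1 := Subtype.ext (map_one F)
        rw [this]
        exact one_mem _
      · subst he
        have : (⟨F (-1, 1), hx⟩ : T) = ⟨t, htT⟩ := Subtype.ext hFt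
        rw [this]
        exact mem_zpowers _
    · intro hy
      have h1 : zpowers (⟨t, htT⟩ : T) ≤ q.ker := by
        rw [zpowers_le, MonoidHom.mem_ker]
        have : (⟨t, htT⟩ : T) = ⟨F (-1, 1), hFT _⟩ := Subtype.ext hFt.symm
        rw [this, hq]
      exact MonoidHom.mem_ker.1 (h1 hy)
  have hiso : Nonempty (↥T ⧸ zpowers (⟨t, htT⟩ : T) ≃* DihedralGroup 4) :=
    ⟨(QuotientGroup.quotientMulEquivOfEq hker.symm).trans (QuotientGroup.quotientKerEquivOfSurjective q hqs)⟩
  -- the elementary abelian subgroup of order eight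
  let F2 : ℤˣ × (ℤˣ × ℤˣ) →* G := F.comp ((MonoidHom.id ℤˣ).prodMap vHom)
  have hF2 : Function.Injective F2 := by
    have h1 : Function.Injective ((MonoidHom.id ℤˣ).prodMap vHom) := by
      rintro ⟨a, b⟩ ⟨a', b'⟩ e
      have e1 : a = a' := congrArg Prod.fst e
      have e2 : vHom b = vHom b' := congrArg Prod.snd e
      rw [e1, vHom_injective e2]
    exact hF.comp h1
  refine D6.Harada.rank_of_dihedral ho (IsPGroup.of_card (n := 4) (by rw [hcardT]; norm_num)) hTC hodd htT hn
    (Or.inl ⟨4, by norm_num, hiso⟩) F2.range ?_ ?_ ?_ ?_ ?_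
  · rintro _ ⟨x, rfl⟩
    exact hFT _
  · rintro _ ⟨x, rfl⟩ _ ⟨y, rfl⟩
    rw [← map_mul, ← map_mul, mul_comm]
  · rintro _ ⟨x, rfl⟩
    rw [← map_mul]
    have : ∀ x : ℤˣ × (ℤˣ × ℤˣ), x * x = 1 := by decide
    rw [this, map_one]
  · rw [← Nat.card_congr (MonoidHom.ofInjective hF2).toEquiv, Nat.card_eq_fintype_card]
    rfl
  · refine ⟨(-1, 1, 1), ?_⟩
    show F (-1, vHom (1, 1)) = t
    rw [show vHom (1, 1) = 1 from map_one vHom, hFt]

end Cfsg.Agent.OddHalf.D5.Seven.Clean
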