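import Mathlib

/-!
# ODD half, D5, `K = A₇` (bb ODD 9179): the frames

* `Shape0 t ψ`: `ψ : A₇ → C(t)` injective, `K = range ψ` normal in `C(t)`, `C(t) ∩ C(K) = ⟨t⟩`.
* `Frame0 t φ`: `C(t) = ⟨t⟩ × φ(S₇)`.
* `Frame t φ`: moreover `t^G ∩ C(t) = t · {x ∈ φ(S₇) : x² = 1}` (pattern "all").
* `Fus φ t n`: the element `n` of `C(s) ∩ C(z)`, `s = (4 5)`, `z = (0 1)(2 3)`, with `t ^ n = t z`.
-/

set_option autoImplicit false

namespace Cfsg.Agent.OddHalf.D5.Seven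

open Equiv Subgroup

variable {G : Type*} [Group G]

/-- the transposition `s` -/
def s7 : Perm (Fin 7) := swap 4 5
/-- the involution `z` of `A₇` -/
def z7 : Perm (Fin 7) := swap 0 1 * swap 2 3
/-- the involution `v` of `A₇` -/
def v7 : Perm (Fin 7) := swap 0 2 * swap 1 3
/-- the 3-cycle `0 → 1 → 2 → 0` -/
def r7 : Perm (Fin 7) := swap 0 1 * swap 1 2

/-- `C(t) ⊇ K = ψ(A₇)`, normal, with centralizer `⟨t⟩`; elements of order 3 of `C(t)` lie in `K`. -/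
structure Shape0 (t : G) (ψ : alternatingGroup (Fin 7) →* G) : Prop where
  inj : Function.Injective ψ
  tt : t * t = 1
  t1 : t ≠ 1
  comm : ∀ a, ψ a * t = t * ψ a
  nt : ∀ a, ψ a ≠ t
  nrm : ∀ c, c * t = t * c → ∀ a, ∃ b, c * ψ a * c⁻¹ = ψ b
  cen : ∀ c, c * t = t * c → (∀ a, c * ψ a = ψ a * c) → c = 1 ∨ c = t
  three : ∀ c, c * t = t * c → c ^ 3 = 1 → ∃ a, c = ψ a

/-- `C(t) = ⟨t⟩ × φ(S₇)` -/
structure Frame0 (t : G) (φ : Perm (Fin 7) →* G) : Prop where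
  inj : Function.Injective φ
  tt : t * t = 1
  t1 : t ≠ 1
  comm : ∀ g, φ g * t = t * φ g
  nt : ∀ g, φ g ≠ t
  cen : ∀ c, c * t = t * c → ∃ g, c = φ g ∨ c = φ g * t

/-- `C(t) = ⟨t⟩ × φ(S₇)`, pattern "all" -/
structure Frame (t : G) (φ : Perm (Fin 7) →* G) : Prop extends Frame0 t φ where
  all : ∀ g, g * g = 1 → IsConj t (t * φ g)
  none : ∀ g, ¬ IsConj t (φ g)

/-- the fusion element `n` -/
structure Fus (t : G) (φ : Perm (Fin 7) →* G) (n : G) : Prop where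
  ns : n * φ s7 = φ s7 * n
  nt : n * t * n⁻¹ = t * φ z7
  nz : n * φ z7 * n⁻¹ = φ z7
  nv : n * φ v7 * n⁻¹ = φ v7 ∨ n * φ v7 * n⁻¹ = φ v7 * φ s7

end Cfsg.Agent.OddHalf.D5.Seven
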