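import Mathlib
import Cfsg.Agent.OddHalf.D5.Setup
import Cfsg.Agent.OddHalf.D5.IsoRow
import Cfsg.Agent.OddHalf.D5.Seven.Frame

/-!
# ODD D5, `n = 7`: the front glue

`front`: for `K ≅ A₇`: `Shape0 t ψ`, `K = range ψ`, and `C(t) = ⟨t⟩ × K` or `C(t) = ⟨t⟩ × φ(S₇)`, `φ` extending `ψ`.
-/

set_option autoImplicit false

namespace Cfsg.Agent.OddHalf.D5.Seven

open Equiv Subgroup Cfsg Cfsg.Agent.OddHalf.Iface

universe u

section

variable {G : Type*} [Group G] {t : G} {φ : centralizer ({t} : Set G) →* Perm (Fin 7)} {K : Subgroup G}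

theorem shape0_of_spl (h : Gen t φ K) {A : Subgroup (Perm (Fin 7))} (hA : An 7 ≤ A) {ι : A →* G} (hs : Spl t A ι)
    (hK : ∀ a : A, (a : Perm (Fin 7)) ∈ An 7 → ι a ∈ K)
    (hφ : ∀ a : A, ∃ h : ι a ∈ centralizer ({t} : Set G), φ ⟨ι a, h⟩ = a) :
    Shape0 t (ι.comp (inclusion hA)) ∧ (ι.comp (inclusion hA)).range = K := by
  have hKr : ∀ k ∈ K, ∃ a : An 7, ι (inclusion hA a) = k := by
    intro k hk
    have hkC := h.le hk
    have hev := h.even ⟨k, hkC⟩ hk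
    refine ⟨⟨φ ⟨k, hkC⟩, hev⟩, ?_⟩
    obtain ⟨h1, h2⟩ := hφ (inclusion hA ⟨φ ⟨k, hkC⟩, hev⟩)
    have h3 := h.inj (x := ⟨ι (inclusion hA ⟨φ ⟨k, hkC⟩, hev⟩), h1⟩) (y := ⟨k, hkC⟩) (hK _ hev) hk h2
    exact congrArg Subtype.val h3
  have hψK : ∀ a : An 7, ι (inclusion hA a) ∈ K := fun a => hK _ a.2
  refine ⟨⟨?_, h.tt, h.t1, ?_, ?_, ?_, ?_, ?_⟩, ?_⟩
  · intro a b e
    exact inclusion_injective hA (hs.inj e)
  · intro a
    exact hs.comm' _
  · intro a
    exact hs.ne _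
  · intro c hc a
    obtain ⟨b, hb⟩ := hKr _ (h.norm c hc _ (hψK a))
    exact ⟨b, hb.symm⟩
  · intro c hc hcen
    have hcC : c ∈ centralizer ({t} : Set G) := mem_centralizer_singleton_iff.2 hc
    apply (h.ker ⟨c, hcC⟩).1
    -- `φ c` centralizes `A₇`
    apply StandardComponent.AltAut.eq_one_of_centralizes (m := 5) (by norm_num)
    intro x
    obtain ⟨h1, h2⟩ := hφ (inclusion hA x)
    have h3 : (⟨c, hcC⟩ : centralizer ({t} : Set G)) * ⟨ι (inclusion hA x), h1⟩ =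
        ⟨ι (inclusion hA x), h1⟩ * ⟨c, hcC⟩ := Subtype.ext (hcen x)
    have h4 := congrArg φ h3
    rw [map_mul, map_mul, h2] at h4
    rw [mul_inv_eq_iff_eq_mul]
    exact h4
  · intro c hc hc3
    have hcC : c ∈ centralizer ({t} : Set G) := mem_centralizer_singleton_iff.2 hc
    have h1 : Perm.sign (φ ⟨c, hcC⟩) = 1 := by
      have h2 : (φ ⟨c, hcC⟩) ^ 3 = 1 := by
        rw [← map_pow]
        have : (⟨c, hcC⟩ : centralizer ({t} : Set G)) ^ 3 = 1 := Subtype.ext hc3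
        rw [this, map_one]
      have h3 := congrArg Perm.sign h2
      rw [map_pow, map_one] at h3
      rcases Int.units_eq_one_or (Perm.sign (φ ⟨c, hcC⟩)) with h4 | h4
      · exact h4
      · rw [h4] at h3
        exact absurd h3 (by decide)
    rcases h.mem ⟨c, hcC⟩ (Perm.mem_alternatingGroup.2 h1) with h2 | h2
    · obtain ⟨a, ha⟩ := hKr c h2
      exact ⟨a, ha.symm⟩
    · exfalso
      apply h.notMem
      have h3 : (t * c) ^ 3 = t := by
        have h4 : Commute t c := hc.symm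
        rw [h4.mul_pow, hc3, mul_one, pow_succ, pow_two, h.tt, one_mul]
      rw [← h3]
      exact K.pow_mem h2 3
  · ext k
    constructor
    · rintro ⟨a, rfl⟩
      exact hψK a
    · intro hk
      obtain ⟨a, ha⟩ := hKr k hk
      exact ⟨a, ha⟩

/-- The shapes of `C(t)`. -/
theorem shapes [Finite G] (h : Gen t φ K)
    (hz : ∃ x : G, x * t * x⁻¹ ≠ t ∧ x * t * x⁻¹ * t = t * (x * t * x⁻¹)) :
    (∃ ψ : alternatingGroup (Fin 7) →* G, Shape0 t ψ ∧ ψ.range = K ∧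
      ∀ c, c * t = t * c → ∃ a, c = ψ a ∨ c = ψ a * t) ∨
    ∃ (ψ : alternatingGroup (Fin 7) →* G) (η : Perm (Fin 7) →* G), Shape0 t ψ ∧ ψ.range = K ∧ Frame0 t η ∧
      ∀ a : alternatingGroup (Fin 7), η a = ψ a := by
  rcases h.tri with h1 | ⟨g, hg, hgg⟩ | h1
  · left
    obtain ⟨ι, hs, hK, hφ⟩ := h.clean h1
    obtain ⟨h2, h3⟩ := shape0_of_spl h le_rfl hs (fun a _ => hK a) hφ
    refine ⟨_, h2, h3, ?_⟩
    intro c hc
    obtain ⟨a, ha⟩ := hs.cases hc
    refine ⟨a, ?_⟩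
    have e : ι (inclusion le_rfl a) = ι a := rfl
    rcases ha with ha | ha
    · left; exact ha
    · right
      show c = ι (inclusion le_rfl a) * t
      rw [e, hs.comm', ha]
  · right
    obtain ⟨ι, hs, hK, hφ⟩ := h.sym g hg hgg
    obtain ⟨h2, h3⟩ := shape0_of_spl h le_top hs hK hφ
    refine ⟨_, ι.comp (topEquiv (G := Perm (Fin 7))).symm.toMonoidHom, h2, h3, ⟨?_, h.tt, h.t1, ?_, ?_, ?_⟩, ?_⟩
    · exact hs.inj.comp (topEquiv (G := Perm (Fin 7))).symm.injective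
    · intro a
      exact hs.comm' _
    · intro a
      exact hs.ne _
    · intro c hc
      obtain ⟨a, ha⟩ := hs.cases hc
      refine ⟨a, ?_⟩
      have e : ι ((topEquiv (G := Perm (Fin 7))).symm (a : Perm (Fin 7))) = ι a := rfl
      rcases ha with ha | ha
      · left; exact ha
      · right
        show c = ι ((topEquiv (G := Perm (Fin 7))).symm (a : Perm (Fin 7))) * t
        rw [e, hs.comm', ha]
    · intro a
      rfl
  · exact (h1.false (by norm_num) hz).elim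

end

/-- **The front end for `K ≅ A₇`.** -/
theorem front {G : Type u} [Group G] (C : Ctx G) {K : Subgroup G} (S : IsStandardSubgroup K)
    (hcomp : ∃ t : G, orderOf t = 2 ∧ CompOf t K) (hcyc : Cyc K) (e : ↥K ≃* ↥(alternatingGroup (Fin 7))) :
    ∃ t : G, Front t K ∧
      ((∃ ψ : alternatingGroup (Fin 7) →* G, Shape0 t ψ ∧ ψ.range = K ∧
        ∀ c, c * t = t * c → ∃ a, c = ψ a ∨ c = ψ a * t) ∨
      ∃ (ψ : alternatingGroup (Fin 7) →* G) (η : Perm (Fin 7) →* G), Shape0 t ψ ∧ ψ.range = K ∧ Frame0 t η ∧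
        ∀ a : alternatingGroup (Fin 7), η a = ψ a) := by
  haveI := C.fin
  obtain ⟨t, φ, F, h⟩ := front_gen C S hcomp hcyc (by norm_num) e
  exact ⟨t, F, shapes h F.hz⟩

end Cfsg.Agent.OddHalf.D5.Seven
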