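import Cfsg.Agent.OddHalf.D5.Seven.Defs
import Cfsg.Agent.StdL3.OneParity
import Cfsg.Agent.StandardComponent.AltAut

/-!
# ODD D5, `n = 7`: the end (helper905; text: `blueprints/ODD-D5-n7-helper858.md`, section 4)

`false_of_two`: `H` = the stabiliser of `{K₁, K₁ᵗ}` contains `C_G(t)`, every conjugate of `t` in `H` which interchanges
`K₁` and `K₁ᵗ` is `H`-conjugate to `t`; the transfer of the sign of `H` at `t` is `-1`.
-/

set_option autoImplicit false

namespace Cfsg.Agent.OddHalf.D5.Seven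

namespace End

open Subgroup Equiv Cfsg.Agent.OddHalf.D3 Cfsg.Agent.OddHalf.D5.Seven
open scoped commutatorElement

/-! ### generalities -/

/-- Two epimorphisms with the same kernel differ by an automorphism of the image. -/
theorem exists_aut {K A : Type*} [Group K] [Group A] (f g : K →* A) (hf : Function.Surjective f)
    (hg : Function.Surjective g) (hk : f.ker = g.ker) : ∃ e : MulAut A, ∀ k, e (f k) = g k := by
  refine ⟨((QuotientGroup.quotientKerEquivOfSurjective f hf).symm.trans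
    (QuotientGroup.quotientMulEquivOfEq hk)).trans (QuotientGroup.quotientKerEquivOfSurjective g hg), ?_⟩
  intro k
  have h1 : (QuotientGroup.quotientKerEquivOfSurjective f hf).symm (f k) = (k : K ⧸ f.ker) := by
    rw [MulEquiv.symm_apply_eq]
    rfl
  show (QuotientGroup.quotientKerEquivOfSurjective g hg) ((QuotientGroup.quotientMulEquivOfEq hk)
    ((QuotientGroup.quotientKerEquivOfSurjective f hf).symm (f k))) = g k
  rw [h1]
  rfl

/-- The centraliser of `A₇` in `S₇` is trivial. -/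
theorem eq_one_of_comm {a : S7} (h : ∀ s : S7, Perm.sign s = 1 → a * s = s * a) : a = 1 := by
  by_contra hne
  have h1 : ∃ i, a i ≠ i := by
    by_contra hcon
    push Not at hcon
    exact hne (Equiv.ext hcon)
  obtain ⟨i, hi⟩ := h1
  have h2 : ∀ i m : Fin 7, ∃ j k : Fin 7, j ≠ i ∧ j ≠ m ∧ k ≠ i ∧ k ≠ m ∧ j ≠ k := by decide
  obtain ⟨j, k, hji, hjm, hki, hkm, hjk⟩ := h2 i (a i)
  have h3 := congrArg (fun f : S7 => f i) (h (swap (a i) j * swap j k) (by
    rw [map_mul, Perm.sign_swap hjm.symm, Perm.sign_swap hjk]; rfl))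
  simp only [Perm.mul_apply] at h3
  rw [swap_apply_of_ne_of_ne hji.symm hki.symm, swap_apply_of_ne_of_ne hi.symm hji.symm,
    swap_apply_of_ne_of_ne hjm.symm hkm.symm, swap_apply_left] at h3
  exact hjm h3.symm

/-- A group without subgroup of index two has no sign. -/
theorem hom_eq_one {G : Type*} [Group G] (hG : ∀ H : Subgroup G, H.index ≠ 2) (f : G →* ℤˣ) (u : G) :
    f u = 1 := by
  by_contra hne
  have h1 : f u = -1 := (Int.units_eq_one_or (f u)).resolve_left hne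
  have h2 : Function.Surjective f := by
    intro y
    rcases Int.units_eq_one_or y with rfl | rfl
    · exact ⟨1, map_one f⟩
    · exact ⟨u, h1⟩
  apply hG f.ker
  rw [index_ker, MonoidHom.range_eq_top.2 h2, card_top]
  simp

variable {G : Type*} [Group G] {t : G} {ι : S7 →* G} {K₁ : Subgroup G}

/-! ### The two factors -/

theorem com (T : Two t ι K₁) {x z : G} (hx : x ∈ K₁) (hz : z ∈ cj t K₁) : x * z = z * x := by
  rw [mem_cj] at hz
  have h1 := T.comm x hx _ hz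
  have h2 : t * (t⁻¹ * z * t) * t⁻¹ = z := by group
  rwa [h2] at h1

theorem cj_tt (h : Spl t ι) (K : Subgroup G) : cj t (cj t K) = K := by
  rw [cj_cj, h.tt, cj_one]

theorem not_comm (h : Spl t ι) (T : Two t ι K₁) : ¬ ∀ x ∈ K₁, ∀ y ∈ K₁, x * y = y * x := by
  intro hc
  have h1 : K₁ = ⊥ := by
    rw [eq_bot_iff, ← T.perf, commutator_le]
    intro x hx y hy
    rw [commutatorElement_eq_one_iff_mul_comm.2 (hc x hx y hy)]
    exact one_mem _
  have h2 : (swap 0 1 * swap 1 2 : S7) ≠ 1 := by decide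
  obtain ⟨x, hx, hs⟩ := T.ex (swap 0 1 * swap 1 2) (by
    rw [map_mul, Perm.sign_swap (by decide), Perm.sign_swap (by decide)]; rfl)
  rw [h1, mem_bot] at hx
  rw [hx, mul_one, mul_inv_cancel, mul_one] at hs
  exact h2 (h.iota_eq_one hs.symm)

theorem ne (h : Spl t ι) (T : Two t ι K₁) : cj t K₁ ≠ K₁ := by
  intro e
  apply not_comm h T
  intro x hx y hy
  apply com T hx
  rwa [e]

/-! ### The map `φ` -/

/-- the value of `φ` -/
noncomputable def val (T : Two t ι K₁) (k : K₁) : S7 := (T.mem k k.2).choose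

theorem val_sign (T : Two t ι K₁) (k : K₁) : Perm.sign (val T k) = 1 := (T.mem k k.2).choose_spec.1

theorem val_eq (T : Two t ι K₁) (k : K₁) : (k : G) * (t * k * t⁻¹) = ι (val T k) :=
  (T.mem k k.2).choose_spec.2

theorem mul_form (T : Two t ι K₁) {k l : G} (hk : k ∈ K₁) (hl : l ∈ K₁) :
    (k * l) * (t * (k * l) * t⁻¹) = k * (t * k * t⁻¹) * (l * (t * l * t⁻¹)) := by
  have h1 := T.comm l hl k hk
  calc (k * l) * (t * (k * l) * t⁻¹) = k * (l * (t * k * t⁻¹)) * (t * l * t⁻¹) := by group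
    _ = k * (t * k * t⁻¹ * l) * (t * l * t⁻¹) := by rw [h1]
    _ = k * (t * k * t⁻¹) * (l * (t * l * t⁻¹)) := by group

/-- `k ↦ k kᵗ` -/
noncomputable def phi (h : Spl t ι) (T : Two t ι K₁) : K₁ →* alternatingGroup (Fin 7) :=
  MonoidHom.mk' (fun k => ⟨val T k, val_sign T k⟩) (by
    intro k l
    apply Subtype.ext
    apply h.inj
    show ι (val T (k * l)) = ι (val T k * val T l)
    rw [map_mul, ← val_eq, ← val_eq, ← val_eq, coe_mul]
    exact mul_form T k.2 l.2)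

theorem phi_eq (h : Spl t ι) (T : Two t ι K₁) (k : K₁) :
    (k : G) * (t * k * t⁻¹) = ι ((phi h T k : alternatingGroup (Fin 7)) : S7) := val_eq T k

theorem phi_surj (h : Spl t ι) (T : Two t ι K₁) : Function.Surjective (phi h T) := by
  intro s
  obtain ⟨x, hx, hs⟩ := T.ex s (Perm.mem_alternatingGroup.1 s.2)
  refine ⟨⟨x, hx⟩, Subtype.ext (h.inj ?_)⟩
  rw [← phi_eq h T ⟨x, hx⟩]
  exact hs

theorem mem_ker (h : Spl t ι) (T : Two t ι K₁) (k : K₁) : k ∈ (phi h T).ker ↔ ∀ l : K₁, k * l = l * k := by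
  constructor
  · intro hk l
    have h1 := phi_eq h T k
    rw [MonoidHom.mem_ker.1 hk, coe_one, map_one] at h1
    have h2 := T.comm l l.2 k k.2
    rw [eq_inv_of_mul_eq_one_right h1] at h2
    apply Subtype.ext
    show (k : G) * l = l * k
    calc (k : G) * l = k * (l * (k : G)⁻¹) * k := by group
      _ = k * ((k : G)⁻¹ * l) * k := by rw [h2]
      _ = l * k := by group
  · intro hk
    rw [MonoidHom.mem_ker]
    apply Subtype.ext
    apply eq_one_of_comm
    intro s hs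
    obtain ⟨l, hl⟩ := phi_surj h T ⟨s, hs⟩
    have h1 := congrArg (phi h T) (hk l)
    rw [map_mul, map_mul, hl] at h1
    exact congrArg (Subtype.val) h1

/-! ### The action of `g` on `K₁/Z(K₁) = A₇` -/

/-- `g` acts on the image of `φ` as conjugation by `σ`. -/
def Psi (t : G) (ι : S7 →* G) (K₁ : Subgroup G) (g : G) (σ : S7) : Prop :=
  ∀ k ∈ K₁, ∀ s : S7, k * (t * k * t⁻¹) = ι s →
    (g * k * g⁻¹) * (t * (g * k * g⁻¹) * t⁻¹) = ι (σ * s * σ⁻¹)

theorem conj_mem {g k : G} (hg : cj g K₁ = K₁) (hk : k ∈ K₁) : g * k * g⁻¹ ∈ K₁ := by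
  have := conj_mem_cj (g := g) hk
  rwa [hg] at this

theorem cj_inv_eq {g : G} {K : Subgroup G} (hg : cj g K = K) : cj g⁻¹ K = K := by
  conv_lhs => rw [← hg]
  rw [cj_inv_cj]

theorem inv_conj_mem {g k : G} (hg : cj g K₁ = K₁) (hk : k ∈ K₁) : g⁻¹ * k * g ∈ K₁ := by
  have := conj_mem (cj_inv_eq hg) hk
  rwa [inv_inv] at this

/-- conjugation on `K₁` -/
def conjHom (g : G) (hg : cj g K₁ = K₁) : K₁ →* K₁ :=
  MonoidHom.mk' (fun k => ⟨g * k * g⁻¹, conj_mem hg k.2⟩) (by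
    intro k l
    apply Subtype.ext
    show g * (k * l) * g⁻¹ = (g * k * g⁻¹) * (g * l * g⁻¹)
    group)

theorem conjHom_surj (g : G) (hg : cj g K₁ = K₁) : Function.Surjective (conjHom g hg) := by
  intro k
  refine ⟨⟨g⁻¹ * k * g, inv_conj_mem hg k.2⟩, Subtype.ext ?_⟩
  show g * (g⁻¹ * k * g) * g⁻¹ = k
  group

theorem conjHom_inj (g : G) (hg : cj g K₁ = K₁) : Function.Injective (conjHom g hg) := by
  intro k l hkl
  have h1 : g * k * g⁻¹ = g * l * g⁻¹ := congrArg Subtype.val hkl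
  exact Subtype.ext (mul_left_cancel (mul_right_cancel h1))

theorem exists_psi (h : Spl t ι) (T : Two t ι K₁) {g : G} (hg : cj g K₁ = K₁) : ∃ σ, Psi t ι K₁ g σ := by
  have hk : (phi h T).ker = ((phi h T).comp (conjHom g hg)).ker := by
    ext k
    rw [mem_ker, MonoidHom.mem_ker, MonoidHom.comp_apply, ← MonoidHom.mem_ker, mem_ker]
    constructor
    · intro hk l
      obtain ⟨m, rfl⟩ := conjHom_surj g hg l
      rw [← map_mul, ← map_mul, hk m]
    · intro hk l
      apply conjHom_inj g hg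
      rw [map_mul, map_mul, hk]
  obtain ⟨e, he⟩ := exists_aut (phi h T) ((phi h T).comp (conjHom g hg)) (phi_surj h T)
    ((phi_surj h T).comp (conjHom_surj g hg)) hk
  obtain ⟨σ, hσ⟩ := StandardComponent.AltAut.exists_conj (m := 5) le_rfl e
  refine ⟨σ, ?_⟩
  intro k hk s hs
  have h1 := phi_eq h T ⟨k, hk⟩
  have h2 := phi_eq h T (conjHom g hg ⟨k, hk⟩)
  have h3 := he ⟨k, hk⟩
  rw [MonoidHom.comp_apply] at h3
  rw [← h3, hσ] at h2
  have h4 : ((phi h T ⟨k, hk⟩ : alternatingGroup (Fin 7)) : S7) = s := h.inj (h1.symm.trans hs)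
  rw [h4] at h2
  exact h2

theorem Psi.mul {g g' : G} {σ σ' : S7} (hg : Psi t ι K₁ g σ) (hg' : Psi t ι K₁ g' σ')
    (hn : cj g' K₁ = K₁) : Psi t ι K₁ (g * g') (σ * σ') := by
  intro k hk s hs
  have h1 := hg _ (conj_mem hn hk) _ (hg' k hk s hs)
  have e1 : g * g' * k * (g * g')⁻¹ = g * (g' * k * g'⁻¹) * g⁻¹ := by group
  have e2 : σ * σ' * s * (σ * σ')⁻¹ = σ * (σ' * s * σ'⁻¹) * σ⁻¹ := by group
  rw [e1, e2]
  exact h1

theorem Psi.inv (h : Spl t ι) (T : Two t ι K₁) {g : G} {σ : S7} (hg : Psi t ι K₁ g σ)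
    (hn : cj g K₁ = K₁) : Psi t ι K₁ g⁻¹ σ⁻¹ := by
  intro k hk s hs
  have hk' := inv_conj_mem hn hk
  obtain ⟨s', _, hs'⟩ := T.mem _ hk'
  have h1 := hg _ hk' _ hs'
  have e1 : g * (g⁻¹ * k * g) * g⁻¹ = k := by group
  rw [e1] at h1
  have e2 : s = σ * s' * σ⁻¹ := h.inj (hs.symm.trans h1)
  rw [inv_inv, hs', e2, inv_inv]
  congr 1
  group

theorem psi_iota (h : Spl t ι) (e : S7) : Psi t ι K₁ (ι e) e := by
  intro k _ s hs
  have h1 := h.comm e
  have h2 : t * (ι e)⁻¹ = (ι e)⁻¹ * t := by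
    rw [← map_inv]; exact h.comm e⁻¹
  have h3 : (ι e)⁻¹ * t⁻¹ = t⁻¹ * (ι e)⁻¹ := by
    rw [h.t_inv]; exact h2.symm
  rw [map_mul, map_mul, map_inv, ← hs]
  calc ι e * k * (ι e)⁻¹ * (t * (ι e * k * (ι e)⁻¹) * t⁻¹)
      = ι e * k * (ι e)⁻¹ * ((t * ι e) * k * ((ι e)⁻¹ * t⁻¹)) := by group
    _ = ι e * k * (ι e)⁻¹ * ((ι e * t) * k * (t⁻¹ * (ι e)⁻¹)) := by rw [h1, h3]
    _ = ι e * (k * (t * k * t⁻¹)) * (ι e)⁻¹ := by group

/-! ### Involutions outside -/

/-- Elements which act trivially modulo the centre act trivially. -/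
theorem comm_of_psi_one (h : Spl t ι) (T : Two t ι K₁) {c : G} (hn : cj c K₁ = K₁) (hc : Psi t ι K₁ c 1) :
    ∀ k ∈ K₁, c * k = k * c := by
  have h1 : ∀ k ∈ K₁, ∃ z, (∀ l ∈ K₁, z * l = l * z) ∧ c * k * c⁻¹ = z * k := by
    intro k hk
    refine ⟨c * k * c⁻¹ * k⁻¹, ?_, by group⟩
    have hck := conj_mem hn hk
    obtain ⟨s, _, hs⟩ := T.mem k hk
    have h2 := hc k hk s hs
    rw [one_mul, inv_one, mul_one] at h2
    have h3 : (⟨c * k * c⁻¹, hck⟩ : K₁) * ⟨k, hk⟩⁻¹ ∈ (phi h T).ker := by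
      rw [MonoidHom.mem_ker, map_mul, map_inv, mul_inv_eq_one]
      apply Subtype.ext
      apply h.inj
      rw [← phi_eq h T, ← phi_eq h T]
      exact h2.trans hs.symm
    intro l hl
    exact congrArg Subtype.val ((mem_ker h T _).1 h3 ⟨l, hl⟩)
  have h2 : K₁ ≤ centralizer ({c} : Set G) := by
    conv_lhs => rw [← T.perf]
    rw [commutator_le]
    intro a ha b hb
    rw [mem_cs]
    obtain ⟨y, hy, hya⟩ := h1 a ha
    obtain ⟨z, hz, hzb⟩ := h1 b hb
    have e1 : c * ⁅a, b⁆ * c⁻¹ = ⁅y * a, z * b⁆ := by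
      rw [← hya, ← hzb, commutatorElement_def, commutatorElement_def]; group
    have hyz : y * z = z * y := by
      have hz1 : z ∈ K₁ := by
        have : z = c * b * c⁻¹ * b⁻¹ := by rw [hzb]; group
        rw [this]
        exact mul_mem (conj_mem hn hb) (inv_mem hb)
      exact hy z hz1
    have e2 : ⁅y * a, z * b⁆ = ⁅a, b⁆ := by
      rw [commutatorElement_def, commutatorElement_def, mul_inv_rev, mul_inv_rev]
      have hya' := hy a ha
      have hyb := hy b hb
      have hza := hz a ha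
      have hzb' := hz b hb
      calc y * a * (z * b) * (a⁻¹ * y⁻¹) * (b⁻¹ * z⁻¹)
          = y * (a * z) * b * a⁻¹ * y⁻¹ * b⁻¹ * z⁻¹ := by group
        _ = y * (z * a) * b * a⁻¹ * y⁻¹ * b⁻¹ * z⁻¹ := by rw [hza]
        _ = (y * z) * a * b * a⁻¹ * y⁻¹ * b⁻¹ * z⁻¹ := by group
        _ = (z * y) * a * b * a⁻¹ * y⁻¹ * b⁻¹ * z⁻¹ := by rw [hyz]
        _ = z * (y * (a * b * a⁻¹)) * y⁻¹ * b⁻¹ * z⁻¹ := by group
        _ = z * ((a * b * a⁻¹) * y) * y⁻¹ * b⁻¹ * z⁻¹ := by
            rw [hy (a * b * a⁻¹) (mul_mem (mul_mem ha hb) (inv_mem ha))]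
        _ = (z * (a * b * a⁻¹ * b⁻¹)) * z⁻¹ := by group
        _ = ((a * b * a⁻¹ * b⁻¹) * z) * z⁻¹ := by
            rw [hz (a * b * a⁻¹ * b⁻¹) (mul_mem (mul_mem (mul_mem ha hb) (inv_mem ha)) (inv_mem hb))]
        _ = a * b * a⁻¹ * b⁻¹ := by group
    rw [e2] at e1
    calc ⁅a, b⁆ * c = (c * ⁅a, b⁆ * c⁻¹) * c := by rw [e1]
      _ = c * ⁅a, b⁆ := by group
  intro k hk
  exact (mem_cs.1 (h2 hk)).symm

/-- `t` has no fixed points on the centraliser of `K₁K₂`. -/
theorem fix_eq_one (h : Spl t ι) (T : Two t ι K₁) {b : G} (h1 : ∀ k ∈ K₁, b * k = k * b)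
    (h2 : ∀ k ∈ cj t K₁, b * k = k * b) (hb : b * t = t * b) : b = 1 := by
  have key : ∀ s : S7, Perm.sign s = 1 → b * ι s = ι s * b := by
    intro s hs
    obtain ⟨x, hx, hxs⟩ := T.ex s hs
    rw [← hxs]
    have e1 := h1 x hx
    have e2 := h2 _ (conj_mem_cj (g := t) hx)
    calc b * (x * (t * x * t⁻¹)) = (b * x) * (t * x * t⁻¹) := by group
      _ = (x * b) * (t * x * t⁻¹) := by rw [e1]
      _ = x * (b * (t * x * t⁻¹)) := by group
      _ = x * ((t * x * t⁻¹) * b) := by rw [e2]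
      _ = x * (t * x * t⁻¹) * b := by group
  obtain ⟨a, ha | ha⟩ := h.cases hb
  · have : a = 1 := by
      apply eq_one_of_comm
      intro s hs
      apply h.inj
      rw [map_mul, map_mul, ← ha]
      exact key s hs
    rw [ha, this, map_one]
  · exfalso
    have : a = 1 := by
      apply eq_one_of_comm
      intro s hs
      apply h.inj
      rw [map_mul, map_mul]
      have h3 := key s hs
      rw [ha] at h3
      have h4 : t * (ι a * ι s) = t * (ι s * ι a) := by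
        calc t * (ι a * ι s) = t * ι a * ι s := by group
          _ = ι s * (t * ι a) := h3
          _ = (ι s * t) * ι a := by group
          _ = (t * ι s) * ι a := by rw [h.comm s]
          _ = t * (ι s * ι a) := by group
      exact mul_left_cancel h4
    rw [this, map_one, mul_one] at ha
    rw [ha] at h1
    exact ne h T (cj_eq_of_mem_centralizer (by
      rw [mem_centralizer_iff]
      intro k hk
      exact (h1 k hk).symm))

/-- `g` fixes both factors. -/
structure Good (t : G) (K₁ : Subgroup G) (g : G) : Prop where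
  one : cj g K₁ = K₁
  two : cj g (cj t K₁) = cj t K₁

theorem Good.mul {g g' : G} (h1 : Good t K₁ g) (h2 : Good t K₁ g') : Good t K₁ (g * g') where
  one := by rw [← cj_cj, h2.one, h1.one]
  two := by rw [← cj_cj, h2.two, h1.two]

theorem Good.inv {g : G} (h1 : Good t K₁ g) : Good t K₁ g⁻¹ where
  one := cj_inv_eq h1.one
  two := cj_inv_eq h1.two

theorem good_iota (h : Spl t ι) (T : Two t ι K₁) (a : S7) : Good t K₁ (ι a) where
  one := T.norm a
  two := by rw [cj_cj, ← h.comm a, ← cj_cj, T.norm]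

theorem good_of_comm {b : G} (h1 : ∀ k ∈ K₁, b * k = k * b) (h2 : ∀ k ∈ cj t K₁, b * k = k * b) :
    Good t K₁ b where
  one := cj_eq_of_mem_centralizer (by
      rw [mem_centralizer_iff]
      intro k hk
      exact (h1 k hk).symm)
  two := cj_eq_of_mem_centralizer (by
      rw [mem_centralizer_iff]
      intro k hk
      exact (h2 k hk).symm)

theorem even_case [Finite G] (h : Spl t ι) (T : Two t ι K₁) {g : G} (hg : Good t K₁ g) {σ : S7}
    (hσ : Psi t ι K₁ g σ) (hs : Perm.sign σ = 1) (h2 : (t * g) * (t * g) = 1) :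
    ∃ y, Good t K₁ y ∧ t * g = y⁻¹ * t * y := by
  obtain ⟨k, hk, hkσ⟩ := T.ex σ hs
  -- `c = k⁻¹ g` centralises `K₁`
  have hn : cj (k⁻¹ * g) K₁ = K₁ := by
    rw [← cj_cj, hg.one, cj_eq_of_mem (inv_mem hk)]
  have hpk : Psi t ι K₁ k⁻¹ σ⁻¹ := by
    intro l hl s hls
    rw [inv_inv, mul_form T (mul_mem (inv_mem hk) hl) hk, mul_form T (inv_mem hk) hl, hls, hkσ]
    have e1 : k⁻¹ * (t * k⁻¹ * t⁻¹) = ι σ⁻¹ := by
      rw [map_inv, ← hkσ]
      have e2 := T.comm k hk k hk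
      have e3 : (k * (t * k * t⁻¹))⁻¹ = (t * k * t⁻¹ * k)⁻¹ := by rw [e2]
      rw [e3]
      group
    rw [e1, map_mul, map_mul, inv_inv]
  have hc1 : Psi t ι K₁ (k⁻¹ * g) 1 := by
    have := hpk.mul hσ hg.one
    rwa [inv_mul_cancel] at this
  have hc := comm_of_psi_one h T hn hc1
  obtain ⟨c, hcdef⟩ : ∃ c, c = k⁻¹ * g := ⟨_, rfl⟩
  rw [← hcdef] at hc
  have hgkc : g = k * c := by rw [hcdef]; group
  obtain ⟨u, hu⟩ : ∃ u, u = t * k * t⁻¹ := ⟨_, rfl⟩
  have hu2 : u ∈ cj t K₁ := by rw [hu]; exact conj_mem_cj hk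
  -- `h1 = c u`
  obtain ⟨d, hd⟩ : ∃ d, d = c * u := ⟨_, rfl⟩
  have hd1 : ∀ l ∈ K₁, d * l = l * d := by
    intro l hl
    rw [hd]
    calc c * u * l = c * (u * l) := by group
      _ = c * (l * u) := by rw [com T hl hu2]
      _ = (c * l) * u := by group
      _ = (l * c) * u := by rw [hc l hl]
      _ = l * (c * u) := by group
  have hx : u⁻¹ * (t * g) * u = t * d := by
    rw [hgkc, hd, hu]; group
  have hdd : (t * d) * (t * d) = 1 := by
    rw [← hx]
    calc u⁻¹ * (t * g) * u * (u⁻¹ * (t * g) * u) = u⁻¹ * ((t * g) * (t * g)) * u := by group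
      _ = 1 := by rw [h2]; group
  have hti := h.t_inv
  have htd : t * d * t⁻¹ = d⁻¹ := by
    rw [hti, eq_inv_iff_mul_eq_one, ← hdd]; group
  have hd2 : ∀ l ∈ cj t K₁, d * l = l * d := by
    intro l hl
    rw [mem_cj] at hl
    have e1 := hd1 _ hl
    have e2 : d⁻¹ * l = l * d⁻¹ := by
      calc d⁻¹ * l = t * (d * (t⁻¹ * l * t)) * t⁻¹ := by rw [← htd]; group
        _ = t * ((t⁻¹ * l * t) * d) * t⁻¹ := by rw [e1]
        _ = l * d⁻¹ := by rw [← htd]; group
    calc d * l = d * (l * d⁻¹) * d := by group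
      _ = d * (d⁻¹ * l) * d := by rw [e2]
      _ = l * d := by group
  -- the map `b ↦ (t b⁻¹ t⁻¹) b`
  let B : Subgroup G := centralizer (K₁ : Set G) ⊓ centralizer ((cj t K₁ : Subgroup G) : Set G)
  have hB : ∀ b : G, b ∈ B ↔ (∀ k ∈ K₁, b * k = k * b) ∧ ∀ k ∈ cj t K₁, b * k = k * b := by
    intro b
    rw [mem_inf, mem_centralizer_iff, mem_centralizer_iff]
    constructor
    · rintro ⟨e1, e2⟩
      exact ⟨fun k hk => (e1 k hk).symm, fun k hk => (e2 k hk).symm⟩
    · rintro ⟨e1, e2⟩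
      exact ⟨fun k hk => (e1 k hk).symm, fun k hk => (e2 k hk).symm⟩
  have hBt : ∀ b ∈ B, t * b * t⁻¹ ∈ B := by
    have e1 : cj t B = B := by
      show cj t (centralizer (K₁ : Set G) ⊓ centralizer ((cj t K₁ : Subgroup G) : Set G)) =
        centralizer (K₁ : Set G) ⊓ centralizer ((cj t K₁ : Subgroup G) : Set G)
      rw [show cj t (centralizer (K₁ : Set G) ⊓ centralizer ((cj t K₁ : Subgroup G) : Set G)) =
        cj t (centralizer (K₁ : Set G)) ⊓ cj t (centralizer ((cj t K₁ : Subgroup G) : Set G)) from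
          Subgroup.map_inf _ _ _ (MulAut.conj t).injective, cj_centralizer, cj_centralizer, cj_tt h, inf_comm]
    intro b hb
    have := conj_mem_cj (g := t) hb
    rwa [e1] at this
  let f : B → B := fun b => ⟨t * (b : G)⁻¹ * t⁻¹ * b, mul_mem (hBt _ (inv_mem b.2)) b.2⟩
  have hf : Function.Injective f := by
    intro b b' e
    have e1 : t * (b : G)⁻¹ * t⁻¹ * b = t * (b' : G)⁻¹ * t⁻¹ * b' := congrArg Subtype.val e
    have e2 : ((b' : G) * (b : G)⁻¹) * t = t * ((b' : G) * (b : G)⁻¹) := by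
      calc ((b' : G) * (b : G)⁻¹) * t = t * b' * t⁻¹ * (t * (b' : G)⁻¹ * t⁻¹ * b') * (b : G)⁻¹ * t := by group
        _ = t * b' * t⁻¹ * (t * (b : G)⁻¹ * t⁻¹ * b) * (b : G)⁻¹ * t := by rw [e1]
        _ = t * ((b' : G) * (b : G)⁻¹) := by group
    have e3 : (b' : G) * (b : G)⁻¹ ∈ B := mul_mem b'.2 (inv_mem b.2)
    have e4 := fix_eq_one h T ((hB _).1 e3).1 ((hB _).1 e3).2 e2
    exact Subtype.ext (mul_inv_eq_one.1 e4).symm
  obtain ⟨b, hb⟩ := (Finite.surjective_of_injective hf) ⟨d, (hB d).2 ⟨hd1, hd2⟩⟩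
  have hb' : t * (b : G)⁻¹ * t⁻¹ * b = d := congrArg Subtype.val hb
  refine ⟨b * u⁻¹, ?_, ?_⟩
  · refine (good_of_comm ((hB _).1 b.2).1 ((hB _).1 b.2).2).mul (Good.inv ⟨?_, cj_eq_of_mem hu2⟩)
    exact cj_eq_of_mem_centralizer (by
      rw [mem_centralizer_iff]
      intro k hk
      exact com T hk hu2)
  · have e1 : t * g = u * (t * d) * u⁻¹ := by rw [← hx]; group
    rw [e1, ← hb']
    calc u * (t * (t * (b : G)⁻¹ * t⁻¹ * b)) * u⁻¹ = u * ((t * t) * (b : G)⁻¹ * t⁻¹ * b) * u⁻¹ := by group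
      _ = u * ((b : G)⁻¹ * t * b) * u⁻¹ := by rw [h.tt, hti]; group
      _ = (b * u⁻¹)⁻¹ * t * (b * u⁻¹) := by group

theorem all_case [Finite G] (h : Spl t ι) (T : Two t ι K₁) {g : G} (hg : Good t K₁ g)
    (h2 : (t * g) * (t * g) = 1) : ∃ y, Good t K₁ y ∧ t * g = y⁻¹ * t * y := by
  obtain ⟨σ, hσ⟩ := exists_psi h T hg.one
  by_cases hs : Perm.sign σ = 1
  · exact even_case h T hg hσ hs h2
  · have hs' : Perm.sign σ = -1 := (Int.units_eq_one_or _).resolve_left hs
    obtain ⟨w, hw, hw1, hw2⟩ := T.sw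
    have hwg : Good t K₁ w := ⟨hw1, hw2⟩
    obtain ⟨τ, hτ⟩ := exists_psi h T hw1
    have hp : Psi t ι K₁ (ι (swap 0 1) * (w * g * w⁻¹)) (swap 0 1 * (τ * σ * τ⁻¹)) := by
      refine (psi_iota h _).mul ?_ ((hwg.mul hg).mul hwg.inv).one
      exact (hτ.mul hσ hg.one).mul (hτ.inv h T hw1) hwg.inv.one
    have hgood : Good t K₁ (ι (swap 0 1) * (w * g * w⁻¹)) :=
      (good_iota h T _).mul ((hwg.mul hg).mul hwg.inv)
    have hsg : Perm.sign (swap 0 1 * (τ * σ * τ⁻¹) : S7) = 1 := by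
      rw [map_mul, map_mul, map_mul, map_inv, hs', Perm.sign_swap (by decide)]
      rcases Int.units_eq_one_or (Perm.sign τ) with e | e <;> rw [e] <;> decide
    have e1 : t * (ι (swap 0 1) * (w * g * w⁻¹)) = w * (t * g) * w⁻¹ := by
      calc t * (ι (swap 0 1) * (w * g * w⁻¹)) = (t * ι (swap 0 1)) * (w * g * w⁻¹) := by group
        _ = (w * t * w⁻¹) * (w * g * w⁻¹) := by rw [hw]
        _ = w * (t * g) * w⁻¹ := by group
    obtain ⟨y, hy, hye⟩ := even_case h T hgood hp hsg (by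
      rw [e1]
      calc w * (t * g) * w⁻¹ * (w * (t * g) * w⁻¹) = w * ((t * g) * (t * g)) * w⁻¹ := by group
        _ = 1 := by rw [h2]; group)
    refine ⟨y * w, hy.mul hwg, ?_⟩
    rw [e1] at hye
    calc t * g = w⁻¹ * (w * (t * g) * w⁻¹) * w := by group
      _ = w⁻¹ * (y⁻¹ * t * y) * w := by rw [hye]
      _ = (y * w)⁻¹ * t * (y * w) := by group

/-! ### The stabiliser and its sign -/

/-- `g` interchanges the factors. -/
structure Bad (t : G) (K₁ : Subgroup G) (g : G) : Prop where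
  one : cj g K₁ = cj t K₁
  two : cj g (cj t K₁) = K₁

theorem Bad.mul_bad {g g' : G} (h1 : Bad t K₁ g) (h2 : Bad t K₁ g') : Good t K₁ (g * g') where
  one := by rw [← cj_cj, h2.one, h1.two]
  two := by rw [← cj_cj, h2.two, h1.one]

theorem Bad.mul_good {g g' : G} (h1 : Bad t K₁ g) (h2 : Good t K₁ g') : Bad t K₁ (g * g') where
  one := by rw [← cj_cj, h2.one, h1.one]
  two := by rw [← cj_cj, h2.two, h1.two]

theorem Good.mul_bad {g g' : G} (h1 : Good t K₁ g) (h2 : Bad t K₁ g') : Bad t K₁ (g * g') where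
  one := by rw [← cj_cj, h2.one, h1.two]
  two := by rw [← cj_cj, h2.two, h1.one]

theorem Bad.inv {g : G} (h1 : Bad t K₁ g) : Bad t K₁ g⁻¹ where
  one := by
    conv_lhs => rw [← h1.two]
    rw [cj_inv_cj]
  two := by rw [← h1.one, cj_inv_cj]

theorem bad_t (h : Spl t ι) : Bad t K₁ t where
  one := rfl
  two := cj_tt h _

/-- the stabiliser -/
def stab (t : G) (K₁ : Subgroup G) : Subgroup G where
  carrier := {g | Good t K₁ g ∨ Bad t K₁ g}
  mul_mem' := by
    rintro a b (ha | ha) (hb | hb)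
    · exact Or.inl (ha.mul hb)
    · exact Or.inr (ha.mul_bad hb)
    · exact Or.inr (ha.mul_good hb)
    · exact Or.inl (ha.mul_bad hb)
  one_mem' := Or.inl ⟨cj_one _, cj_one _⟩
  inv_mem' := by
    rintro a (ha | ha)
    · exact Or.inl ha.inv
    · exact Or.inr ha.inv

open Classical in
/-- the sign -/
noncomputable def sgn (h : Spl t ι) (T : Two t ι K₁) : stab t K₁ →* ℤˣ :=
  MonoidHom.mk' (fun g => if Good t K₁ (g : G) then 1 else -1) (by
    have hex : ∀ g : G, Bad t K₁ g → ¬ Good t K₁ g := fun g hb hg => ne h T (hb.one.symm.trans hg.one)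
    rintro ⟨a, ha⟩ ⟨b, hb⟩
    show (if Good t K₁ (a * b) then (1 : ℤˣ) else -1) =
      (if Good t K₁ a then 1 else -1) * (if Good t K₁ b then 1 else -1)
    rcases ha with ha | ha <;> rcases hb with hb | hb
    · rw [if_pos ha, if_pos hb, if_pos (ha.mul hb), mul_one]
    · rw [if_pos ha, if_neg (hex _ hb), if_neg (hex _ (ha.mul_bad hb)), one_mul]
    · rw [if_pos hb, if_neg (hex _ ha), if_neg (hex _ (ha.mul_good hb)), mul_one]
    · rw [if_neg (hex _ hb), if_neg (hex _ ha), if_pos (ha.mul_bad hb)]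
      rfl)

end End

open End Subgroup Equiv Cfsg.Agent.OddHalf.D3 in
/-- **Piece F.** -/
theorem false_of_two {G : Type*} [Group G] {t : G} {ι : S7 →* G} {K₁ : Subgroup G} [Finite G]
    (hG : ∀ H : Subgroup G, H.index ≠ 2) (h : Spl t ι) (T : Two t ι K₁) : False := by
  classical
  have hex : ∀ g : G, Bad t K₁ g → ¬ Good t K₁ g := fun g hb hg => End.ne h T (hb.one.symm.trans hg.one)
  have htH : t ∈ stab t K₁ := Or.inr (bad_t h)
  have h1 : MonoidHom.transfer (sgn h T) t = sgn h T ⟨t, htH⟩ := by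
    apply StdL3.OneParity.transfer_eq_of_one_class (stab t K₁) (sgn h T) t h.tt htH
    · intro g hg hne
      have hbad : Bad t K₁ (g⁻¹ * t * g) := by
        rcases hg with hg' | hg'
        · exact absurd (show (if Good t K₁ (g⁻¹ * t * g) then (1 : ℤˣ) else -1) = 1 from if_pos hg') hne
        · exact hg'
      have hgood : Good t K₁ (t * (g⁻¹ * t * g)) := (bad_t h).mul_bad hbad
      have e1 : t * (t * (g⁻¹ * t * g)) = g⁻¹ * t * g := by
        rw [← mul_assoc, h.tt, one_mul]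
      obtain ⟨y, hy, hye⟩ := all_case h T hgood (by
        rw [e1]
        calc g⁻¹ * t * g * (g⁻¹ * t * g) = g⁻¹ * (t * t) * g := by group
          _ = 1 := by rw [h.tt]; group)
      rw [e1] at hye
      exact ⟨y, Or.inl hy, hye⟩
    · have h2 : Subgroup.centralizer ({t} : Set G) ≤ stab t K₁ := by
        intro g hg
        obtain ⟨a, ha | ha⟩ := h.cases (mem_cs.1 hg)
        · rw [ha]; exact Or.inl (good_iota h T a)
        · rw [ha]; exact Or.inr ((bad_t h).mul_good (good_iota h T a))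
      rw [Subgroup.subgroupOf_eq_top.2 h2, Subgroup.index_top]
      exact odd_one
  rw [hom_eq_one hG] at h1
  have h3 : sgn h T ⟨t, htH⟩ = -1 := if_neg (hex t (bad_t h))
  rw [h3] at h1
  exact absurd h1 (by decide)

end Cfsg.Agent.OddHalf.D5.Seven
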