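import Cfsg.Agent.OddHalf.D5.Seven.Diag
import Cfsg.Agent.OddHalf.D5.Seven.End
import Cfsg.Agent.Schreier.Tools

/-!
# ODD D5, `n = 7`: the parity end (helper905; text: bb ODD 9179 (5), helper307)

`s = ι (4 5)`, `D` a component of `C(s)` with `Dᵗ ≠ D`. The transfer of the sign of the permutation representation of
`C(s)` on its components, evaluated at `t`, is the product over `s' ∈ s^G ∩ C(t)` of the sign of `t` on the components of
`C(s')`. It is `-1` if `s' = ι (a transposition)` (21 elements) and `1` otherwise.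
-/

set_option autoImplicit false

namespace Cfsg.Agent.OddHalf.D5.Seven

open Subgroup Equiv Cfsg Cfsg.Agent.OddHalf.D3 Cfsg.Agent.SignalizersComponents
open scoped commutatorElement

namespace Parity

open Five Diag

variable {G : Type*} [Group G] {t : G} {ι : S7 →* G}

/-! ### The diagonal -/

theorem diag_hom {M : Subgroup G} (hc : ∀ x ∈ M, ∀ y ∈ M, x * (t * y * t⁻¹) = (t * y * t⁻¹) * x) :
    ∃ δ : M →* G, ∀ x : M, δ x = (x : G) * (t * x * t⁻¹) := by
  refine ⟨MonoidHom.mk' (fun x : M => (x : G) * (t * x * t⁻¹)) ?_, fun _ => rfl⟩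
  intro x y
  have h1 := hc y y.2 x x.2
  show ((x * y : M) : G) * (t * ((x * y : M) : G) * t⁻¹) = (x : G) * (t * x * t⁻¹) * ((y : G) * (t * y * t⁻¹))
  rw [coe_mul]
  calc (x : G) * y * (t * (x * y) * t⁻¹) = x * (y * (t * x * t⁻¹)) * (t * y * t⁻¹) := by group
    _ = x * (t * x * t⁻¹ * y) * (t * y * t⁻¹) := by rw [h1]
    _ = _ := by group

/-- a perfect group has no nontrivial homomorphism with commutative image -/
theorem eq_one_of_comm' {M : Subgroup G} (hM : ⁅M, M⁆ = M) (δ : M →* G) (hc : ∀ x y : M, δ x * δ y = δ y * δ x)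
    (x : M) : δ x = 1 := by
  have h1 : (⊤ : Subgroup M) ≤ δ.ker := by
    have h2 : ⁅(⊤ : Subgroup M), ⊤⁆ = ⊤ := Schreier.Tools.top_perfect hM
    rw [← h2, commutator_le]
    intro a _ b _
    rw [MonoidHom.mem_ker, map_commutatorElement, commutatorElement_eq_one_iff_mul_comm]
    exact hc a b
  exact MonoidHom.mem_ker.1 (h1 (mem_top x))

/-- If `δ` is trivial then `M` is normalised by `t`. -/
theorem cj_eq_of_trivial {M : Subgroup G} (ht : t * t = 1)
    (h : ∀ x ∈ M, x * (t * x * t⁻¹) = 1) : cj t M = M := by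
  have key : ∀ x ∈ M, t * x * t⁻¹ ∈ M := by
    intro x hx
    rw [(eq_inv_of_mul_eq_one_right (h x hx))]
    exact M.inv_mem hx
  have hti : t⁻¹ = t := inv_eq_of_mul_eq_one_left ht
  ext x
  rw [mem_cj]
  constructor
  · intro hx
    have := key _ hx
    have e : t * (t⁻¹ * x * t) * t⁻¹ = x := by group
    rwa [e] at this
  · intro hx
    have := key _ hx
    rwa [hti] at this ⊢

/-! ### The projection of `C(t)` to `S₇` -/

/-- the projection -/
theorem exists_pi (h : Spl t ι) :
    ∃ π : centralizer ({t} : Set G) →* S7, ∀ x : centralizer ({t} : Set G), (x : G) = ι (π x) ∨ (x : G) = t * ι (π x) := by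
  choose π hπ using fun x : centralizer ({t} : Set G) => h.cases (mem_cs.1 x.2)
  refine ⟨MonoidHom.mk' π ?_, hπ⟩
  have huniq : ∀ (x : G) (a b : S7), (x = ι a ∨ x = t * ι a) → (x = ι b ∨ x = t * ι b) → a = b := by
    rintro x a b (ha | ha) (hb | hb)
    · exact h.inj (ha.symm.trans hb)
    · exact (h.tne a b (ha.symm.trans hb)).elim
    · exact (h.tne b a (hb.symm.trans ha)).elim
    · exact h.inj (mul_left_cancel (ha.symm.trans hb))
  intro x y
  apply huniq ((x * y : centralizer ({t} : Set G)) : G) _ _ (hπ (x * y))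
  rw [coe_mul, map_mul]
  rcases hπ x with hx | hx <;> rcases hπ y with hy | hy
  · left; rw [← hx, ← hy]
  · right
    calc (x : G) * y = ι (π x) * (t * ι (π y)) := by rw [← hx, ← hy]
      _ = ι (π x) * t * ι (π y) := by group
      _ = t * (ι (π x) * ι (π y)) := by rw [h.comm' (π x)]; group
  · right
    calc (x : G) * y = t * ι (π x) * ι (π y) := by rw [← hx, ← hy]
      _ = t * (ι (π x) * ι (π y)) := by group
  · left
    calc (x : G) * y = (t * ι (π x)) * (t * ι (π y)) := by rw [← hx, ← hy]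
      _ = t * (ι (π x) * t) * ι (π y) := by group
      _ = (t * t) * (ι (π x) * ι (π y)) := by rw [h.comm' (π x)]; group
      _ = ι (π x) * ι (π y) := by rw [h.tt, one_mul]

/-- the involutions with `k ≥ 2` transpositions have a solvable centraliser -/
theorem solvable_of_not_swap {a : S7} (ha : a * a = 1) (ha1 : a ≠ 1) (hs : ¬ a.IsSwap) :
    Group.IsSolvable ↥(centralizer ({a} : Set S7)) := by
  have ho : orderOf a = 2 := orderOf_eq_prime (by rw [pow_two, ha]) ha1
  obtain ⟨n, hn⟩ := Perm.cycleType_prime_order (σ := a) (by rw [ho]; exact Nat.prime_two)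
  rw [ho] at hn
  have h7 := Perm.sum_cycleType_le a
  rw [hn] at h7
  simp only [Multiset.sum_replicate, smul_eq_mul, Fintype.card_fin] at h7
  have hn0 : n ≠ 0 := by
    rintro rfl
    apply hs
    rw [← Perm.card_support_eq_two, ← Perm.sum_cycleType, hn]
    rfl
  have h12 : n = 1 ∨ n = 2 := by omega
  have hcard : Nat.card ↥(centralizer ({a} : Set S7)) = 48 := by
    rw [Perm.nat_card_centralizer, hn]
    rcases h12 with rfl | rfl <;> decide
  exact Cfsg.Agent.S0144.result 2 3 4 1 Nat.prime_two Nat.prime_three (by rw [hcard]; norm_num)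

/-- the involutions conjugate to `s` in `C(t)` -/
theorem eq_iota (A : All t ι) {g : G} (hg : (g * ι (swap 4 5) * g⁻¹) * t = t * (g * ι (swap 4 5) * g⁻¹)) :
    ∃ a : S7, a * a = 1 ∧ a ≠ 1 ∧ g * ι (swap 4 5) * g⁻¹ = ι a := by
  have hsq : (g * ι (swap 4 5) * g⁻¹) * (g * ι (swap 4 5) * g⁻¹) = 1 := by
    calc (g * ι (swap 4 5) * g⁻¹) * (g * ι (swap 4 5) * g⁻¹) = g * (ι (swap 4 5) * ι (swap 4 5)) * g⁻¹ := by group
      _ = 1 := by rw [← map_mul, swap_mul_self, map_one]; group
  have hss : (swap 4 5 : S7) ≠ 1 := by decide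
  have hno := A.no (swap 4 5) (swap_mul_self _ _) hss
  have hcj : IsConj (ι (swap 4 5)) (g * ι (swap 4 5) * g⁻¹) := isConj_iff.2 ⟨g, rfl⟩
  obtain ⟨a, ha | ha⟩ := A.toSpl.cases hg
  · refine ⟨a, ?_, ?_, ha⟩
    · apply A.inj
      rw [map_mul, ← ha, hsq, map_one]
    · rintro rfl
      rw [map_one, mul_inv_eq_one] at ha
      have h1 : ι (swap 4 5) = 1 := mul_eq_left.1 ha
      exact hss (A.toSpl.iota_eq_one h1)
  · exfalso
    have h2 : a * a = 1 := by
      apply A.inj
      rw [map_mul, map_one]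
      rw [ha] at hsq
      calc ι a * ι a = (t * t) * (ι a * ι a) := by rw [A.tt, one_mul]
        _ = t * (t * ι a) * ι a := by group
        _ = t * (ι a * t) * ι a := by rw [A.comm a]
        _ = 1 := by rw [← hsq]; group
    have h3 : IsConj t (t * ι a) := by
      by_cases h1 : a = 1
      · rw [h1, map_one, mul_one]
      · exact A.yes a h2 h1
    rw [← ha] at h3
    exact hno (h3.trans hcj.symm)

/-- **Only the transpositions matter.** -/
theorem isSwap_of_moved (A : All t ι) {g : G} (hg : (g * ι (swap 4 5) * g⁻¹) * t = t * (g * ι (swap 4 5) * g⁻¹))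
    {M : Subgroup G} (hM : Comp (g * ι (swap 4 5) * g⁻¹) M) (hne : cj t M ≠ M) :
    ∃ a : S7, a.IsSwap ∧ g * ι (swap 4 5) * g⁻¹ = ι a := by
  obtain ⟨a, ha, ha1, hga⟩ := eq_iota A hg
  refine ⟨a, ?_, hga⟩
  by_contra hs
  have hsol := solvable_of_not_swap ha ha1 hs
  have hMt := hM.conj_of_comm hg.symm
  have hcomm := hM.comm hMt (fun e => hne e.symm)
  have hc : ∀ x ∈ M, ∀ y ∈ M, x * (t * y * t⁻¹) = (t * y * t⁻¹) * x := fun x hx y hy =>
    comm_elt hcomm hx (conj_mem_cj hy)
  obtain ⟨δ, hδ⟩ := diag_hom hc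
  have hδt : ∀ x : M, δ x ∈ centralizer ({t} : Set G) := by
    intro x
    rw [mem_cs, hδ]
    have e1 := hc x x.2 x x.2
    calc (x : G) * (t * x * t⁻¹) * t = (t * x * t⁻¹ * x) * t := by rw [e1]
      _ = t * (x * (t⁻¹ * x * t)) := by group
      _ = t * (x * (t * x * t⁻¹)) := by rw [A.toSpl.t_inv]
  obtain ⟨π, hπ⟩ := exists_pi A.toSpl
  have hδs : ∀ x : M, δ x * ι a = ι a * δ x := by
    intro x
    rw [← hga, hδ]
    have e1 := mem_cs.1 (hM.le x.2)
    have e2 := mem_cs.1 (hMt.le (conj_mem_cj (g := t) x.2))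
    calc (x : G) * (t * x * t⁻¹) * (g * ι (swap 4 5) * g⁻¹) = x * ((t * x * t⁻¹) * (g * ι (swap 4 5) * g⁻¹)) := by group
      _ = (x * (g * ι (swap 4 5) * g⁻¹)) * (t * x * t⁻¹) := by rw [e2]; group
      _ = (g * ι (swap 4 5) * g⁻¹) * (x * (t * x * t⁻¹)) := by rw [e1]; group
  let ρ : M →* centralizer ({a} : Set S7) := (π.comp (δ.codRestrict _ hδt)).codRestrict _ (by
    intro x
    rw [mem_centralizer_singleton_iff]
    apply A.inj
    rw [map_mul, map_mul]
    have h1 := hδs x
    have h2 := hπ ⟨δ x, hδt x⟩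
    show ι (π ⟨δ x, hδt x⟩) * ι a = ι a * ι (π ⟨δ x, hδt x⟩)
    rcases h2 with h2 | h2
    · rw [← h2]; exact h1
    · have h3 : δ x = t * ι (π ⟨δ x, hδt x⟩) := h2
      rw [h3] at h1
      apply mul_left_cancel (a := t)
      calc t * (ι (π ⟨δ x, hδt x⟩) * ι a) = t * ι (π ⟨δ x, hδt x⟩) * ι a := by group
        _ = ι a * (t * ι (π ⟨δ x, hδt x⟩)) := h1
        _ = ι a * t * ι (π ⟨δ x, hδt x⟩) := by group
        _ = t * (ι a * ι (π ⟨δ x, hδt x⟩)) := by rw [A.comm' a]; group)
  have hρ : ∀ x, π ⟨δ x, hδt x⟩ = 1 := fun x =>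
    congrArg Subtype.val (Schreier.Tools.hom_eq_one hM.perfect ρ x)
  have h1 : ∀ x : M, δ x = 1 := by
    apply eq_one_of_comm' hM.perfect
    have key : ∀ x : M, δ x = 1 ∨ δ x = t := by
      intro x
      have h2 := hπ ⟨δ x, hδt x⟩
      rw [hρ x, map_one, mul_one] at h2
      exact h2
    intro x y
    rcases key x with hx | hx <;> rcases key y with hy | hy <;> rw [hx, hy] <;> group
  apply hne
  apply cj_eq_of_trivial A.tt
  intro x hx
  rw [← hδ ⟨x, hx⟩]
  exact h1 ⟨x, hx⟩

/-- a permutation commuting with `A₅` is `1` or `(4 5)` -/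
theorem eq_of_comm_em {c : S7} (h : ∀ a, Perm.sign a = 1 → c * em a = em a * c) : c = 1 ∨ c = swap 4 5 := by
  -- `c` preserves the fixed points of the elements of `A₅`
  have h1 : ∀ (a : Perm (Fin 5)) (x : Fin 7), Perm.sign a = 1 → em a x = x → em a (c x) = c x := by
    intro a x ha hx
    have := congrArg (fun f : S7 => f x) (h a ha)
    simp only [Perm.mul_apply] at this
    rw [← this, hx]
  have h2 : ∀ x : Fin 7, x ≠ 4 → x ≠ 5 → c x = x := by
    intro x h4 h5
    by_contra hne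
    -- an element of `A₅` fixing `x` and moving `c x`, or `c x ∈ {4, 5}`
    have key : ∀ x y : Fin 7, x ≠ 4 → x ≠ 5 → y ≠ x → y ≠ 4 → y ≠ 5 →
        ∃ a : Perm (Fin 5), Perm.sign a = 1 ∧ em a x = x ∧ em a y ≠ y := by decide +kernel
    by_cases hy : c x = 4 ∨ c x = 5
    · -- an element moving `x`
      have key2 : ∀ x : Fin 7, x ≠ 4 → x ≠ 5 → ∃ a : Perm (Fin 5), Perm.sign a = 1 ∧ em a x ≠ x := by
        decide +kernel
      obtain ⟨a, ha, hax⟩ := key2 x h4 h5
      have h3 := congrArg (fun f : S7 => f x) (h a ha)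
      simp only [Perm.mul_apply] at h3
      rw [em_fix a hy] at h3
      exact hax (c.injective h3)
    · push Not at hy
      obtain ⟨a, ha, hax, hay⟩ := key x (c x) h4 h5 hne hy.1 hy.2
      exact hay (h1 a x ha hax)
  have h45 : c 4 = 4 ∨ c 4 = 5 := by
    by_contra hcon
    push Not at hcon
    exact hcon.1 (c.injective (h2 (c 4) hcon.1 hcon.2))
  have h54 : c 5 = 4 ∨ c 5 = 5 := by
    by_contra hcon
    push Not at hcon
    exact hcon.2 (c.injective (h2 (c 5) hcon.1 hcon.2))
  rcases h45 with h4 | h4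
  · left
    have h5 : c 5 = 5 := by
      rcases h54 with h5 | h5
      · exact absurd (c.injective (h5.trans h4.symm)) (by decide)
      · exact h5
    ext x
    by_cases hx4 : x = 4
    · rw [hx4, h4]; rfl
    by_cases hx5 : x = 5
    · rw [hx5, h5]; rfl
    rw [h2 x hx4 hx5]; rfl
  · right
    have h5 : c 5 = 4 := by
      rcases h54 with h5 | h5
      · exact h5
      · exact absurd (c.injective (h5.trans h4.symm)) (by decide)
    ext x
    by_cases hx4 : x = 4
    · rw [hx4, h4, swap_apply_left]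
    by_cases hx5 : x = 5
    · rw [hx5, h5, swap_apply_right]
    rw [h2 x hx4 hx5, swap_apply_of_ne_of_ne hx4 hx5]

/-- **The moved pair of components of `C(s)` is unique.** -/
theorem unique_pair (h : Spl t ι) {D : Subgroup G} (hD : Comp (ι (swap 4 5)) D)
    (hJ : ∀ k ∈ JJ ι, ∃ d ∈ D, k = d * (t * d * t⁻¹)) {M : Subgroup G} (hM : Comp (ι (swap 4 5)) M)
    (hne : cj t M ≠ M) : M = D ∨ M = cj t D := by
  by_contra hcon
  push Not at hcon
  have hts : t * ι (swap 4 5) = ι (swap 4 5) * t := h.comm _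
  have hMt := hM.conj_of_comm hts
  have hDt := hD.conj_of_comm hts
  have hcomm := hM.comm hMt (fun e => hne e.symm)
  have hc : ∀ x ∈ M, ∀ y ∈ M, x * (t * y * t⁻¹) = (t * y * t⁻¹) * x := fun x hx y hy =>
    comm_elt hcomm hx (conj_mem_cj hy)
  obtain ⟨δ, hδ⟩ := diag_hom hc
  have hti := h.t_inv
  have hδt : ∀ x : M, δ x * t = t * δ x := by
    intro x
    rw [hδ]
    have e1 := hc x x.2 x x.2
    calc (x : G) * (t * x * t⁻¹) * t = (t * x * t⁻¹ * x) * t := by rw [e1]
      _ = t * (x * (t⁻¹ * x * t)) := by group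
      _ = t * (x * (t * x * t⁻¹)) := by rw [hti]
  -- `M` commutes with `J`
  have hMD := hM.comm hD hcon.1
  have hMDt := hM.comm hDt hcon.2
  have hMJ : ∀ x ∈ M, ∀ k ∈ JJ ι, x * k = k * x := by
    intro x hx k hk
    obtain ⟨d, hd, rfl⟩ := hJ k hk
    have e1 := comm_elt hMD hx hd
    have e2 := comm_elt hMDt hx (conj_mem_cj (g := t) hd)
    calc x * (d * (t * d * t⁻¹)) = (x * d) * (t * d * t⁻¹) := by group
      _ = d * (x * (t * d * t⁻¹)) := by rw [e1]; group
      _ = d * (t * d * t⁻¹) * x := by rw [e2]; group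
  have hJt : ∀ k ∈ JJ ι, t * k * t⁻¹ = k := by
    intro k hk
    obtain ⟨a, -, rfl⟩ := mem_JJ.1 hk
    rw [h.comm (em a)]; group
  have hδJ : ∀ (x : M), ∀ k ∈ JJ ι, δ x * k = k * δ x := by
    intro x k hk
    rw [hδ]
    have e1 := hMJ x x.2 k hk
    have e2 : (t * x * t⁻¹) * k = k * (t * x * t⁻¹) := by
      calc (t * x * t⁻¹) * k = (t * x * t⁻¹) * (t * k * t⁻¹) := by rw [hJt k hk]
        _ = t * (x * k) * t⁻¹ := by group
        _ = (t * k * t⁻¹) * (t * x * t⁻¹) := by rw [e1]; group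
        _ = k * (t * x * t⁻¹) := by rw [hJt k hk]
    calc (x : G) * (t * x * t⁻¹) * k = x * ((t * x * t⁻¹) * k) := by group
      _ = (x * k) * (t * x * t⁻¹) := by rw [e2]; group
      _ = k * (x * (t * x * t⁻¹)) := by rw [e1]; group
  -- the values of `δ` lie in `⟨t, s⟩`
  have hval : ∀ x : M, ∃ c : S7, (c = 1 ∨ c = swap 4 5) ∧ (δ x = ι c ∨ δ x = t * ι c) := by
    intro x
    obtain ⟨c, hc'⟩ := h.cases (hδt x)
    refine ⟨c, eq_of_comm_em ?_, hc'⟩
    intro a ha
    have h1 := hδJ x _ (mem_JJ.2 ⟨a, ha, rfl⟩)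
    apply h.inj
    rw [map_mul, map_mul]
    rcases hc' with hc' | hc'
    · rw [← hc']; exact h1
    · rw [hc'] at h1
      apply mul_left_cancel (a := t)
      calc t * (ι c * ι (em a)) = t * ι c * ι (em a) := by group
        _ = ι (em a) * (t * ι c) := h1
        _ = ι (em a) * t * ι c := by group
        _ = t * (ι (em a) * ι c) := by rw [h.comm' (em a)]; group
  have h1 : ∀ x : M, δ x = 1 := by
    apply eq_one_of_comm' hM.perfect
    have hst : Commute (ι (swap 4 5)) t := hts.symm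
    have key : ∀ x : M, ∀ g : G, Commute g t → Commute g (ι (swap 4 5)) → Commute g (δ x) := by
      intro x g g1 g2
      obtain ⟨c, hc1, hc2⟩ := hval x
      have g3 : Commute g (ι c) := by
        rcases hc1 with rfl | rfl
        · rw [map_one]; exact Commute.one_right g
        · exact g2
      rcases hc2 with hc2 | hc2
      · rw [hc2]; exact g3
      · rw [hc2]; exact g1.mul_right g3
    intro x y
    exact (key y (δ x) (key x t (Commute.refl t) hst.symm).symm (key x _ hst (Commute.refl _)).symm)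
  apply hne
  apply cj_eq_of_trivial h.tt
  intro x hx
  rw [← hδ ⟨x, hx⟩]
  exact h1 ⟨x, hx⟩

/-! ### The permutation representation on the components -/

/-- the components of `C(s)` -/
abbrev Cs (s : G) := {M : Subgroup G // Comp s M}

/-- `C(s)` permutes its components. -/
def rep (s : G) : centralizer ({s} : Set G) →* Perm (Cs s) where
  toFun g :=
    { toFun := fun M => ⟨cj (g : G) M, M.2.conj_of_comm (mem_cs.1 g.2)⟩
      invFun := fun M => ⟨cj (g : G)⁻¹ M, M.2.conj_of_comm (mem_cs.1 (inv_mem g.2))⟩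
      left_inv := fun M => Subtype.ext (cj_inv_cj _ _)
      right_inv := fun M => Subtype.ext (cj_cj_inv _ _) }
  map_one' := by
    ext1 M
    exact Subtype.ext (cj_one _)
  map_mul' := by
    intro g g'
    ext1 M
    exact Subtype.ext (cj_cj _ _ _).symm

theorem rep_apply {s : G} (g : centralizer ({s} : Set G)) (M : Cs s) : ((rep s g M : Cs s) : Subgroup G) = cj (g : G) M :=
  rfl

theorem rep_t (h : Spl t ι) {D : Subgroup G} (hD : Comp (ι (swap 4 5)) D)
    (hJ : ∀ k ∈ JJ ι, ∃ d ∈ D, k = d * (t * d * t⁻¹)) (ht : t ∈ centralizer ({ι (swap 4 5)} : Set G))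
    [DecidableEq (Cs (ι (swap 4 5)))] :
    rep (ι (swap 4 5)) ⟨t, ht⟩ = swap ⟨D, hD⟩ ⟨cj t D, hD.conj_of_comm (h.comm _)⟩ := by
  ext1 M
  apply Subtype.ext
  rw [rep_apply]
  show cj t M = _
  by_cases h1 : M = ⟨D, hD⟩
  · rw [h1, swap_apply_left]
  by_cases h2 : M = ⟨cj t D, hD.conj_of_comm (h.comm _)⟩
  · rw [h2, swap_apply_right]
    exact End.cj_tt h D
  rw [swap_apply_of_ne_of_ne h1 h2]
  by_contra hne
  rcases unique_pair h hD hJ M.2 hne with h3 | h3
  · exact h1 (Subtype.ext h3)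
  · exact h2 (Subtype.ext h3)

theorem cycleType_s : (swap 4 5 : S7).cycleType = {2} := (Perm.isSwap_iff_cycleType.1 ⟨4, 5, by decide, rfl⟩)

theorem card_swaps : (Finset.univ.filter (fun a : S7 => a.cycleType = {2})).card = 21 := by
  rw [Perm.card_of_cycleType]
  simp [Nat.factorial]

theorem exists_b {a : S7} (ha : a.cycleType = {2}) : ∃ b : S7, b * swap 4 5 * b⁻¹ = a := by
  have h1 : IsConj (swap 4 5 : S7) a := Perm.isConj_iff_cycleType_eq.2 (cycleType_s.trans ha.symm)
  exact isConj_iff.1 h1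

end Parity

open Parity Diag in
/-- **(5)** The parity end. -/
theorem false_of_diag {G : Type*} [Group G] [Finite G] {t : G} {ι : S7 →* G}
    (hG : ∀ H : Subgroup G, H.index ≠ 2) (A : All t ι) {D : Subgroup G} (hD : Comp (ι (swap 4 5)) D)
    (hne : cj t D ≠ D) (hJ : ∀ k ∈ JJ ι, ∃ d ∈ D, k = d * (t * d * t⁻¹)) : False := by
  classical
  have h := A.toSpl
  obtain ⟨s, hs⟩ : ∃ s, s = ι (swap 4 5) := ⟨_, rfl⟩
  have hfin : Fintype (Cs s) := Fintype.ofFinite _
  have hfq : Fintype (G ⧸ centralizer ({s} : Set G)) := Fintype.ofFinite _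
  let lam : centralizer ({s} : Set G) →* ℤˣ := Perm.sign.comp (rep s)
  have htN : t ∈ centralizer ({s} : Set G) := by rw [hs, mem_cs]; exact h.comm _
  have hti := h.t_inv
  have hlt : lam ⟨t, htN⟩ = -1 := by
    subst hs
    show Perm.sign (rep (ι (swap 4 5)) ⟨t, htN⟩) = -1
    rw [rep_t h hD hJ htN]
    exact Perm.sign_swap (fun e => hne (congrArg Subtype.val e).symm)
  obtain ⟨f, hf, hprod⟩ := StdL3.OneParity.transfer_eq_prod_fixed (centralizer ({s} : Set G)) lam t h.tt
  rw [End.hom_eq_one hG] at hprod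
  choose! b hb using fun a : S7 => fun ha : a.cycleType = {2} => exists_b ha
  have hmem : ∀ q : G ⧸ centralizer ({s} : Set G), ∀ g : G, (g : G ⧸ centralizer ({s} : Set G)) = q → t • q = q →
      g⁻¹ * t * g ∈ centralizer ({s} : Set G) := by
    rintro q g rfl hq
    rw [MulAction.Quotient.smul_mk, smul_eq_mul, QuotientGroup.eq] at hq
    have e : (t * g)⁻¹ * g = g⁻¹ * t * g := by rw [mul_inv_rev, hti]
    rwa [e] at hq
  have hcard : (Finset.filter (fun q => f q ≠ 1)
      (Finset.univ.filter (fun q : G ⧸ centralizer ({s} : Set G) => t • q = q))).card = 21 := by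
    rw [← card_swaps]
    symm
    apply Finset.card_bij (fun a _ => ((ι (b a) : G) : G ⧸ centralizer ({s} : Set G)))
    · intro a ha
      have hq : t • ((ι (b a) : G) : G ⧸ centralizer ({s} : Set G)) = (ι (b a) : G) := by
        rw [MulAction.Quotient.smul_mk, smul_eq_mul, QuotientGroup.eq]
        have e : (t * ι (b a))⁻¹ * ι (b a) = t := by
          rw [h.comm (b a), mul_inv_rev, hti]; group
        rw [e]; exact htN
      rw [Finset.mem_filter, Finset.mem_filter]
      refine ⟨⟨Finset.mem_univ _, hq⟩, ?_⟩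
      rw [hf _ _ rfl (hmem _ _ rfl hq)]
      have e : (⟨(ι (b a))⁻¹ * t * ι (b a), hmem _ _ rfl hq⟩ : centralizer ({s} : Set G)) = ⟨t, htN⟩ := by
        apply Subtype.ext
        show (ι (b a))⁻¹ * t * ι (b a) = t
        rw [mul_assoc, h.comm (b a)]; group
      rw [e, hlt]
      decide
    · intro a ha a' ha' e
      have ha1 : a.cycleType = {2} := (Finset.mem_filter.1 ha).2
      have ha1' : a'.cycleType = {2} := (Finset.mem_filter.1 ha').2
      have e1 : ((ι (b a) : G) : G ⧸ centralizer ({s} : Set G)) = (ι (b a') : G) := e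
      rw [QuotientGroup.eq, mem_cs, hs, ← map_inv, ← map_mul, ← map_mul, ← map_mul] at e1
      have e2 := h.inj e1
      rw [← hb a ha1, ← hb a' ha1']
      calc b a * swap 4 5 * (b a)⁻¹ = b a * (swap 4 5 * ((b a)⁻¹ * b a')) * (b a')⁻¹ := by group
        _ = b a * (((b a)⁻¹ * b a') * swap 4 5) * (b a')⁻¹ := by rw [e2]
        _ = b a' * swap 4 5 * (b a')⁻¹ := by group
    · intro q hq
      rw [Finset.mem_filter, Finset.mem_filter] at hq
      obtain ⟨⟨-, hq1⟩, hq2⟩ := hq
      obtain ⟨g, rfl⟩ := QuotientGroup.mk_surjective q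
      have hgN := hmem _ g rfl hq1
      rw [hf _ g rfl hgN] at hq2
      have h1 : ∃ M : Cs s, cj (g⁻¹ * t * g) (M : Subgroup G) ≠ M := by
        by_contra hcon
        push Not at hcon
        apply hq2
        have : rep s ⟨g⁻¹ * t * g, hgN⟩ = 1 := by
          ext1 M
          exact Subtype.ext (hcon M)
        show Perm.sign (rep s ⟨g⁻¹ * t * g, hgN⟩) = 1
        rw [this, map_one]
      obtain ⟨M, hM⟩ := h1
      have hgs : (g * ι (swap 4 5) * g⁻¹) * t = t * (g * ι (swap 4 5) * g⁻¹) := by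
        have e := mem_cs.1 hgN
        rw [hs] at e
        calc (g * ι (swap 4 5) * g⁻¹) * t = g * (ι (swap 4 5) * (g⁻¹ * t * g)) * g⁻¹ := by group
          _ = g * ((g⁻¹ * t * g) * ι (swap 4 5)) * g⁻¹ := by rw [e]
          _ = t * (g * ι (swap 4 5) * g⁻¹) := by group
      have hM1 : Comp (g * ι (swap 4 5) * g⁻¹) (cj g M) := by
        rw [← hs]
        exact M.2.conj g
      have hM2 : cj t (cj g (M : Subgroup G)) ≠ cj g M := by
        intro e
        apply hM
        apply cj_injective g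
        rw [← e, D3.cj_cj, D3.cj_cj]
        congr 1
        group
      obtain ⟨a, ha, hga⟩ := isSwap_of_moved A hgs hM1 hM2
      have ha' : a.cycleType = {2} := Perm.isSwap_iff_cycleType.1 ha
      refine ⟨a, Finset.mem_filter.2 ⟨Finset.mem_univ _, ha'⟩, ?_⟩
      rw [QuotientGroup.eq, mem_cs, hs]
      have e1 : ι (b a) * ι (swap 4 5) * (ι (b a))⁻¹ = g * ι (swap 4 5) * g⁻¹ := by
        rw [hga, ← map_inv, ← map_mul, ← map_mul, hb a ha']
      calc (ι (b a))⁻¹ * g * ι (swap 4 5) = (ι (b a))⁻¹ * (g * ι (swap 4 5) * g⁻¹) * g := by group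
        _ = (ι (b a))⁻¹ * (ι (b a) * ι (swap 4 5) * (ι (b a))⁻¹) * g := by rw [e1]
        _ = ι (swap 4 5) * ((ι (b a))⁻¹ * g) := by group
  have h2 : ∏ q ∈ Finset.univ.filter (fun q : G ⧸ centralizer ({s} : Set G) => t • q = q), f q = (-1) ^ 21 := by
    rw [← Finset.prod_filter_ne_one, Finset.prod_congr rfl (g := fun _ => (-1 : ℤˣ)), Finset.prod_const, hcard]
    intro q hq
    exact (Int.units_eq_one_or (f q)).resolve_left (Finset.mem_filter.1 hq).2
  rw [h2] at hprod
  exact absurd hprod (by decide)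

end Cfsg.Agent.OddHalf.D5.Seven
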