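import Cfsg.Agent.OddHalf.D5.Seven.Four

/-!
# ODD D5, `n = 7`: the pattern (helper905; text: bb ODD 9179, helper307, (0)-(2))

`exists_all`: `t^G ∩ C(t) = {t} ∪ t I(ι(S₇))` for a suitable complement.
-/

set_option autoImplicit false

namespace Cfsg.Agent.OddHalf.D5.Seven

open Subgroup Equiv Cfsg Cfsg.Agent.OddHalf.D3 Five Four
open Cfsg.Agent.OddHalf.D5.Seven.Count

namespace Pattern

/-! ### (0) -/

/-- `|G|₂ ≤ 2⁵` and an element of order four: sectional 2-rank at most four -/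
theorem sect_four {G : Type*} [Group G] [Finite G] (h6 : ¬ 2 ^ 6 ∣ Nat.card G) {x : G} (hx : x ^ 4 = 1)
    (hx2 : x ^ 2 ≠ 1) : SectionalPRankLE 2 4 G := by
  have : Fact (Nat.Prime 2) := ⟨Nat.prime_two⟩
  intro H N _ A _ hA
  by_contra hcon
  push Not at hcon
  have hp : IsPGroup 2 ↥A := fun a => ⟨1, by rw [pow_one]; exact Subtype.ext (hA a a.2)⟩
  obtain ⟨n, hn⟩ := hp.exists_card_eq
  rw [hn] at hcon
  have hk : 5 ≤ n := (Nat.pow_lt_pow_iff_right (by norm_num)).1 hcon
  have h32 : 2 ^ 5 ∣ Nat.card A := by rw [hn]; exact pow_dvd_pow 2 hk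
  set A' : Subgroup H := A.comap (QuotientGroup.mk' N) with hA'
  have hcA' : Nat.card A' = Nat.card A * Nat.card N := by
    have h1 : A'.index = A.index := index_comap_of_surjective A (QuotientGroup.mk'_surjective N)
    have h2 := A'.card_mul_index
    have h3 := A.card_mul_index
    have h4 := N.card_mul_index
    have h5 : Nat.card (↥H ⧸ N) = N.index := rfl
    have h6 : 0 < A.index := Nat.pos_of_ne_zero index_ne_zero_of_finite
    rw [h1] at h2
    rw [h5] at h3
    apply Nat.eq_of_mul_eq_mul_right h6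
    rw [h2, ← h4, ← h3]
    ring
  set B : Subgroup G := A'.map H.subtype with hB
  have hcB : Nat.card B = Nat.card A * Nat.card N := by
    rw [← hcA']
    exact (Nat.card_congr (A'.equivMapOfInjective H.subtype H.subtype_injective).toEquiv).symm
  have hBG : Nat.card B * B.index = Nat.card G := B.card_mul_index
  have hN : ¬ 2 ∣ Nat.card N := by
    intro h2
    apply h6
    have h1 : 2 ^ 6 ∣ Nat.card B := by
      rw [hcB, show (2 : ℕ) ^ 6 = 2 ^ 5 * 2 from rfl]
      exact mul_dvd_mul h32 h2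
    exact h1.trans (card_subgroup_dvd_card B)
  have hBi : ¬ 2 ∣ B.index := by
    intro h2
    apply h6
    rw [← hBG, show (2 : ℕ) ^ 6 = 2 ^ 5 * 2 from rfl]
    exact mul_dvd_mul (h32.trans (by rw [hcB]; exact dvd_mul_right _ _)) h2
  -- a conjugate of `x` in `B`
  have hxp : IsPGroup 2 ↥(zpowers x) := by
    intro y
    obtain ⟨k, hk⟩ := mem_zpowers_iff.1 y.2
    refine ⟨2, Subtype.ext ?_⟩
    show (y : G) ^ (2 ^ 2) = 1
    rw [← hk, ← zpow_natCast, ← zpow_mul, mul_comm k, zpow_mul, zpow_natCast]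
    norm_num
    rw [hx, one_zpow]
  obtain ⟨q, hq⟩ := hxp.nonempty_fixed_point_of_prime_not_dvd_card (G ⧸ B) (by exact hBi)
  obtain ⟨g, rfl⟩ := QuotientGroup.mk_surjective q
  have hq1 : (x • ((g : G) : G ⧸ B)) = g := hq ⟨x, mem_zpowers x⟩
  rw [MulAction.Quotient.smul_mk, smul_eq_mul, eq_comm, QuotientGroup.eq] at hq1
  have hq2 : g⁻¹ * x * g ∈ B := by rw [mul_assoc]; exact hq1
  obtain ⟨k, hk, hkg⟩ := hq2
  have hkA : (QuotientGroup.mk' N k) ∈ A := hk
  have hk2 : k ^ 2 ∈ N := by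
    rw [← QuotientGroup.eq_one_iff]
    exact hA _ hkA
  have hkg' : (k : G) = g⁻¹ * x * g := hkg
  have hk4 : (k ^ 2) ^ 2 = 1 := by
    apply Subtype.ext
    show ((k : G) ^ 2) ^ 2 = 1
    rw [← pow_mul, hkg']
    have : g⁻¹ * x * g = g⁻¹ * x * g⁻¹⁻¹ := by rw [inv_inv]
    rw [this, conj_pow, hx]; group
  have ho1 : orderOf (k ^ 2) ∣ 2 := orderOf_dvd_of_pow_eq_one hk4
  have ho2 : orderOf (k ^ 2) ∣ Nat.card N := by
    have := orderOf_dvd_natCard (⟨k ^ 2, hk2⟩ : N)
    rwa [Subgroup.orderOf_mk] at this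
  have ho3 : orderOf (k ^ 2) = 1 := by
    rcases (Nat.dvd_prime Nat.prime_two).1 ho1 with h | h
    · exact h
    · rw [h] at ho2
      exact absurd ho2 hN
  rw [orderOf_eq_one_iff] at ho3
  apply hx2
  have h7 : ((k : G)) ^ 2 = 1 := congrArg Subtype.val ho3
  rw [hkg'] at h7
  have h8 : g⁻¹ * x * g = g⁻¹ * x * g⁻¹⁻¹ := by rw [inv_inv]
  rw [h8, conj_pow, inv_inv] at h7
  calc x ^ 2 = g * (g⁻¹ * x ^ 2 * g) * g⁻¹ := by group
    _ = 1 := by rw [h7]; group

variable {G : Type*} [Group G] {t : G} {ι : S7 →* G}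

/-- the number of 2's in `|G|` -/
theorem card_G [Finite G] (h : Spl t ι) : Nat.card G = 10080 * (centralizer ({t} : Set G)).index := by
  rw [← card_cent h]
  exact (card_mul_index _).symm

theorem sect_of_odd [Finite G] (h : Spl t ι) (hodd : ¬ 2 ∣ (centralizer ({t} : Set G)).index) :
    SectionalPRankLE 2 4 G := by
  have hx : (swap 0 1 * swap 1 2 * swap 2 3 : S7) ^ 4 = 1 := by decide
  have hx2 : (swap 0 1 * swap 1 2 * swap 2 3 : S7) ^ 2 ≠ 1 := by decide
  refine sect_four (x := ι (swap 0 1 * swap 1 2 * swap 2 3)) ?_ ?_ ?_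
  · rw [card_G h]
    intro hd
    apply hodd
    have h1 : 2 ∣ 315 * (centralizer ({t} : Set G)).index := by
      obtain ⟨m, hm⟩ := hd
      exact ⟨m, by omega⟩
    rcases (Nat.Prime.dvd_mul Nat.prime_two).1 h1 with h2 | h2
    · omega
    · exact h2
  · rw [← map_pow, hx, map_one]
  · rw [← map_pow]
    intro e
    exact hx2 (h.iota_eq_one e)

/-! ### The subgroup `T` of order `32` -/

/-- `T = C(t, s, z)` -/
def TT (t : G) (ι : S7 →* G) : Subgroup G := centralizer ({t, ι e1, ι e2} : Set G)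

theorem mem_TT {y : G} : y ∈ TT t ι ↔ y * t = t * y ∧ y * ι e1 = ι e1 * y ∧ y * ι e2 = ι e2 * y := by
  rw [TT, mem_centralizer_iff]
  simp only [Set.mem_insert_iff, Set.mem_singleton_iff, forall_eq_or_imp, forall_eq]
  exact ⟨fun h => ⟨h.1.symm, h.2.1.symm, h.2.2.symm⟩, fun h => ⟨h.1.symm, h.2.1.symm, h.2.2.symm⟩⟩

/-- `t^i ι a` commutes with `ι b` iff `a` commutes with `b` -/
theorem comm_iff (h : Spl t ι) {y : G} {a b : S7} (hy : y = ι a ∨ y = t * ι a) :
    y * ι b = ι b * y ↔ a * b = b * a := by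
  constructor
  · intro e
    apply h.inj
    rw [map_mul, map_mul]
    rcases hy with rfl | rfl
    · exact e
    · apply mul_left_cancel (a := t)
      calc t * (ι a * ι b) = t * ι a * ι b := by group
        _ = ι b * (t * ι a) := e
        _ = (ι b * t) * ι a := by group
        _ = t * (ι b * ι a) := by rw [h.comm' b]; group
  · intro e
    have e' : ι a * ι b = ι b * ι a := by rw [← map_mul, e, map_mul]
    rcases hy with rfl | rfl
    · exact e'
    · calc t * ι a * ι b = t * (ι a * ι b) := by group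
        _ = (t * ι b) * ι a := by rw [e']; group
        _ = ι b * (t * ι a) := by rw [h.comm b]; group

theorem card_TT (h : Spl t ι) : Nat.card (TT t ι) = 2 ^ 5 := by
  obtain ⟨E, hE⟩ := exists_equiv h
  have hcase : ∀ x : ℤˣ × S7, (E x : G) = ι x.2 ∨ (E x : G) = t * ι x.2 := by
    intro x
    rw [hE]
    split_ifs
    · left; rw [one_mul]
    · right; rfl
  have e : TT t ι ≃ ℤˣ × {a : S7 // a * e1 = e1 * a ∧ a * e2 = e2 * a} :=
    { toFun := fun y => ((E.symm ⟨y, mem_centralizer_singleton_iff.2 (mem_TT.1 y.2).1⟩).1,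
        ⟨(E.symm ⟨y, mem_centralizer_singleton_iff.2 (mem_TT.1 y.2).1⟩).2, by
          have h1 := hcase (E.symm ⟨y, mem_centralizer_singleton_iff.2 (mem_TT.1 y.2).1⟩)
          rw [E.apply_symm_apply] at h1
          exact ⟨(comm_iff h h1).1 (mem_TT.1 y.2).2.1, (comm_iff h h1).1 (mem_TT.1 y.2).2.2⟩⟩)
      invFun := fun x => ⟨(E (x.1, x.2.1) : G), mem_TT.2
        ⟨mem_centralizer_singleton_iff.1 (E (x.1, x.2.1)).2, (comm_iff h (hcase (x.1, x.2.1))).2 x.2.2.1,
          (comm_iff h (hcase (x.1, x.2.1))).2 x.2.2.2⟩⟩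
      left_inv := fun y => by
        apply Subtype.ext
        show (E ((E.symm ⟨y, _⟩).1, (E.symm ⟨y, _⟩).2) : G) = y
        rw [Prod.mk.eta, E.apply_symm_apply]
      right_inv := fun x => by
        have h1 : E.symm ⟨(E (x.1, x.2.1) : G), (E (x.1, x.2.1)).2⟩ = (x.1, x.2.1) := by
          rw [Subtype.coe_eta, E.symm_apply_apply]
        have h2 : (E.symm ⟨(E (x.1, x.2.1) : G), (E (x.1, x.2.1)).2⟩).1 = x.1 := congrArg Prod.fst h1
        have h3 : (E.symm ⟨(E (x.1, x.2.1) : G), (E (x.1, x.2.1)).2⟩).2 = x.2.1 := congrArg Prod.snd h1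
        exact Prod.ext h2 (Subtype.ext h3) }
  rw [Nat.card_congr e, Nat.card_prod, card_ce, Nat.card_eq_fintype_card]
  rfl

/-- the elements of the centre of `T` -/
theorem center_TT (h : Spl t ι) {y : G} (hy : y ∈ TT t ι) (hc : ∀ g ∈ TT t ι, g * y = y * g) :
    ∃ a, (a = 1 ∨ a = e1 ∨ a = e2 ∨ a = e3) ∧ (y = ι a ∨ y = t * ι a) := by
  obtain ⟨h1, h2, h3⟩ := mem_TT.1 hy
  obtain ⟨a, ha⟩ := h.cases h1
  have key : ∀ b : S7, b * e1 = e1 * b → b * e2 = e2 * b → a * b = b * a := by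
    intro b hb1 hb2
    have h4 := hc (ι b) (mem_TT.2 ⟨h.comm' b, by rw [← map_mul, hb1, map_mul], by rw [← map_mul, hb2, map_mul]⟩)
    exact (comm_iff h ha).1 h4.symm
  refine ⟨a, center_ce (key e1 rfl (by decide)) (key e2 (by decide) rfl) (key _ (em_comm1 _) ?_)
    (key _ (em_comm1 _) ?_), ha⟩
  · exact comm_e2_iff.2 (by decide)
  · exact comm_e2_iff.2 (by decide +kernel)

/-- **(2), both complements**: `t^G` does not contain all the elements of `Z(T) - {z}`. -/
theorem z_case [Finite G] (h : Spl t ι) (h64 : 2 ^ 6 ∣ Nat.card G) (a1 : IsConj t (ι e1)) (a3 : IsConj t (ι e3))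
    (b1 : IsConj t (t * ι e1)) (b2 : IsConj t (t * ι e2)) (b3 : IsConj t (t * ι e3)) : False := by
  have : Fact (Nat.Prime 2) := ⟨Nat.prime_two⟩
  obtain ⟨K, hK, hTK⟩ := Sylow.exists_subgroup_card_pow_succ h64 (card_TT h)
  have hidx : ((TT t ι).subgroupOf K).index = 2 := by
    have h1 := ((TT t ι).subgroupOf K).card_mul_index
    rw [Nat.card_congr (subgroupOfEquivOfLe hTK).toEquiv, card_TT h, hK] at h1
    omega
  have hnorm : ((TT t ι).subgroupOf K).Normal := normal_of_index_eq_two hidx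
  obtain ⟨x, hx⟩ : ∃ x : K, x ∉ (TT t ι).subgroupOf K := by
    by_contra hcon
    push Not at hcon
    rw [(eq_top_iff' _).2 hcon, index_top] at hidx
    omega
  have hconj : ∀ y ∈ TT t ι, (x : G) * y * (x : G)⁻¹ ∈ TT t ι := by
    intro y hy
    exact hnorm.conj_mem ⟨y, hTK hy⟩ hy x
  have hxx : (x : G) * x ∈ TT t ι := by
    have h1 := (index_eq_two_iff.1 hidx)
    have h2 := mul_self_mem_of_index_two hidx x
    exact h2
  -- `x` centralises no conjugate of `t` in the centre of `T`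
  have kill : ∀ u : G, (∀ g ∈ TT t ι, g * u = u * g) → IsConj t u → (x : G) * u ≠ u * x := by
    intro u hu hcj hxu
    have h1 : K ≤ centralizer ({u} : Set G) := by
      intro k hk
      rw [mem_centralizer_singleton_iff]
      by_cases hkT : (⟨k, hk⟩ : K) ∈ (TT t ι).subgroupOf K
      · exact hu k hkT
      · have h2 : (⟨k, hk⟩ : K) * x⁻¹ ∈ (TT t ι).subgroupOf K := by
          rw [mul_mem_iff_of_index_two hidx]
          exact ⟨fun h3 => absurd h3 hkT, fun h3 => absurd ((inv_mem_iff).1 h3) hx⟩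
        have h3 : k * (x : G)⁻¹ ∈ TT t ι := h2
        have h4 := hu _ h3
        calc k * u = (k * (x : G)⁻¹) * (x * u) := by group
          _ = (k * (x : G)⁻¹) * (u * x) := by rw [hxu]
          _ = ((k * (x : G)⁻¹) * u) * x := by group
          _ = u * k := by rw [h4]; group
    obtain ⟨c, hc⟩ := isConj_iff.1 hcj
    have h2 : Nat.card (centralizer ({u} : Set G)) = 10080 := by
      rw [← card_cent h, ← hc, ← cj_centralizer_singleton, card_cj]
    have h3 := card_dvd_of_le h1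
    rw [hK, h2] at h3
    omega
  have hconjC : ∀ y ∈ TT t ι, (∀ g ∈ TT t ι, g * y = y * g) →
      ∀ g ∈ TT t ι, g * ((x : G) * y * (x : G)⁻¹) = ((x : G) * y * (x : G)⁻¹) * g := by
    intro y hy hc g hg
    have h1 : (x : G)⁻¹ * g * x ∈ TT t ι := by
      have := hnorm.conj_mem ⟨g, hTK hg⟩ hg x⁻¹
      have h2 : (x : G)⁻¹ * g * (x : G)⁻¹⁻¹ ∈ TT t ι := this
      rwa [inv_inv] at h2
    have h2 := hc _ h1
    calc g * ((x : G) * y * (x : G)⁻¹) = (x : G) * ((x : G)⁻¹ * g * x * y) * (x : G)⁻¹ := by group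
      _ = (x : G) * (y * ((x : G)⁻¹ * g * x)) * (x : G)⁻¹ := by rw [h2]
      _ = ((x : G) * y * (x : G)⁻¹) * g := by group
  -- the main computation
  have main : ∀ y ∈ TT t ι, (∀ g ∈ TT t ι, g * y = y * g) → y * y = 1 → IsConj t y →
      (x : G) * y * (x : G)⁻¹ = y * ι e2 := by
    intro y hy hc hyy hcj
    have h1 := hconj y hy
    have h2 := hconjC y hy hc
    have hw : y * ((x : G) * y * (x : G)⁻¹) ∈ TT t ι := mul_mem hy h1
    have hwc : ∀ g ∈ TT t ι, g * (y * ((x : G) * y * (x : G)⁻¹)) = y * ((x : G) * y * (x : G)⁻¹) * g := by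
      intro g hg
      calc g * (y * ((x : G) * y * (x : G)⁻¹)) = (g * y) * ((x : G) * y * (x : G)⁻¹) := by group
        _ = y * (g * ((x : G) * y * (x : G)⁻¹)) := by rw [hc g hg]; group
        _ = y * ((x : G) * y * (x : G)⁻¹) * g := by rw [h2 g hg]; group
    have hwx : (x : G) * (y * ((x : G) * y * (x : G)⁻¹)) = y * ((x : G) * y * (x : G)⁻¹) * x := by
      have h3 := hc _ hxx
      have h4 := hc _ h1
      calc (x : G) * (y * ((x : G) * y * (x : G)⁻¹))
          = ((x : G) * y * (x : G)⁻¹) * (((x : G) * x) * y) * (x : G)⁻¹ := by group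
        _ = ((x : G) * y * (x : G)⁻¹) * (y * ((x : G) * x)) * (x : G)⁻¹ := by rw [h3]
        _ = (((x : G) * y * (x : G)⁻¹) * y) * x := by group
        _ = y * ((x : G) * y * (x : G)⁻¹) * x := by rw [h4]
    have hncj : ¬ IsConj t (y * ((x : G) * y * (x : G)⁻¹)) := fun hcj' => kill _ hwc hcj' hwx
    have hw1 : y * ((x : G) * y * (x : G)⁻¹) ≠ 1 := by
      intro e
      apply kill y hc hcj
      have e1 : (x : G) * y * (x : G)⁻¹ = y := by
        rw [eq_inv_of_mul_eq_one_right e]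
        exact inv_eq_of_mul_eq_one_left hyy
      rw [← e1]
      calc (x : G) * ((x : G) * y * (x : G)⁻¹) = (x : G) * y := by rw [e1]
        _ = (x : G) * y * (x : G)⁻¹ * x := by group
    have hwe : y * ((x : G) * y * (x : G)⁻¹) = ι e2 := by
      obtain ⟨a, ha, hwa⟩ := center_TT h hw hwc
      rcases hwa with hwa | hwa
      · rcases ha with rfl | rfl | rfl | rfl
        · rw [map_one] at hwa
          exact absurd hwa hw1
        · rw [hwa] at hncj
          exact absurd a1 hncj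
        · exact hwa
        · rw [hwa] at hncj
          exact absurd a3 hncj
      · exfalso
        apply hncj
        rw [hwa]
        rcases ha with rfl | rfl | rfl | rfl
        · rw [map_one, mul_one]
        · exact b1
        · exact b2
        · exact b3
    rw [← hwe, ← mul_assoc, hyy, one_mul]
  have e12 : e1 * e2 = e2 * e1 := by decide
  have htT : t ∈ TT t ι := mem_TT.2 ⟨rfl, h.comm e1, h.comm e2⟩
  have hsT : ι e1 ∈ TT t ι := mem_TT.2 ⟨h.comm' e1, rfl, by rw [← map_mul, e12, map_mul]⟩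
  have hct : ∀ g ∈ TT t ι, g * t = t * g := fun g hg => (mem_TT.1 hg).1
  have hcs : ∀ g ∈ TT t ι, g * ι e1 = ι e1 * g := fun g hg => (mem_TT.1 hg).2.1
  have hcz : ∀ g ∈ TT t ι, g * ι e2 = ι e2 * g := fun g hg => (mem_TT.1 hg).2.2
  have h11 : ι e1 * ι e1 = 1 := by rw [← map_mul, show e1 * e1 = 1 by decide, map_one]
  have h22 : ι e2 * ι e2 = 1 := by rw [← map_mul, show e2 * e2 = 1 by decide, map_one]
  have ht := main t htT hct h.tt (IsConj.refl t)
  have hs := main (ι e1) hsT hcs h11 a1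
  have hcts : ∀ g ∈ TT t ι, g * (t * ι e1) = t * ι e1 * g := by
    intro g hg
    rw [← mul_assoc, hct g hg, mul_assoc, hcs g hg, mul_assoc]
  apply kill (t * ι e1) hcts b1
  have e1' : (x : G) * (t * ι e1) * (x : G)⁻¹ = t * ι e1 := by
    calc (x : G) * (t * ι e1) * (x : G)⁻¹ = ((x : G) * t * (x : G)⁻¹) * ((x : G) * ι e1 * (x : G)⁻¹) := by group
      _ = t * (ι e2 * ι e1) * ι e2 := by rw [ht, hs]; group
      _ = t * (ι e1 * ι e2) * ι e2 := by rw [← hcs (ι e2) (mem_TT.2 ⟨h.comm' e2, by rw [← map_mul, ← e12, map_mul], rfl⟩)]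
      _ = t * ι e1 * (ι e2 * ι e2) := by group
      _ = t * ι e1 := by rw [h22, mul_one]
  calc (x : G) * (t * ι e1) = ((x : G) * (t * ι e1) * (x : G)⁻¹) * x := by group
    _ = t * ι e1 * x := by rw [e1']

/-! ### (1) LEMMA B -/

/-- `E₀ = ⟨t⟩ × V` -/
def EE (h : Spl t ι) : Subgroup G where
  carrier := {y | ∃ u, VV u ∧ (y = ι (em u) ∨ y = t * ι (em u))}
  one_mem' := ⟨1, Or.inl rfl, Or.inl (by rw [map_one, map_one])⟩
  mul_mem' := by
    rintro y y' ⟨u, hu, hy⟩ ⟨u', hu', hy'⟩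
    refine ⟨u * u', VV_mul u hu u' hu', ?_⟩
    rw [map_mul, map_mul]
    rcases hy with rfl | rfl <;> rcases hy' with rfl | rfl
    · left; rfl
    · right
      rw [← mul_assoc, h.comm' (em u), mul_assoc]
    · right
      rw [mul_assoc]
    · left
      calc t * ι (em u) * (t * ι (em u')) = t * (ι (em u) * t) * ι (em u') := by group
        _ = (t * t) * (ι (em u) * ι (em u')) := by rw [h.comm' (em u)]; group
        _ = ι (em u) * ι (em u') := by rw [h.tt, one_mul]
  inv_mem' := by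
    rintro y ⟨u, hu, hy⟩
    have h1 : u⁻¹ = u := inv_eq_of_mul_eq_one_left (VV_sq u hu)
    refine ⟨u, hu, ?_⟩
    have h2 : (ι (em u))⁻¹ = ι (em u) := by rw [← map_inv, ← map_inv, h1]
    rcases hy with rfl | rfl
    · left; exact h2
    · right
      rw [mul_inv_rev, h2, h.t_inv, h.comm' (em u)]

theorem mem_EE (h : Spl t ι) {y : G} : y ∈ EE h ↔ ∃ u, VV u ∧ (y = ι (em u) ∨ y = t * ι (em u)) := Iff.rfl

theorem conj_V (h : Spl t ι) (b2 : IsConj t (t * ι e2)) {u : Perm (Fin 5)} (hu : VV u) :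
    IsConj t (t * ι (em u)) := by
  by_cases hu1 : u = 1
  · rw [hu1, map_one, map_one, mul_one]
  · obtain ⟨j, -, hj⟩ := exists_conj u (VV_sign u hu) (VV_sq u hu) hu1
    apply conj_t_iota h _ b2
    apply Perm.isConj_iff_cycleType_eq.1
    refine isConj_iff.2 ⟨em j, ?_⟩
    rw [← hj, map_mul, map_mul, map_inv, em_z5']

/-- the pattern of LEMMA B -/
def PB (t : G) (ι : S7 →* G) : Prop := ∀ y, y * t = t * y → IsConj t y →
  y = t ∨ ∃ k : S7, Perm.sign k = 1 ∧ k ≠ 1 ∧ k * k = 1 ∧ y = t * ι k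

theorem pattern_B (h : Spl t ι) (disj : ∀ a, Perm.sign a = 1 → ¬ IsConj t (ι a)) (na1 : ¬ IsConj t (ι e1))
    (na3 : ¬ IsConj t (ι e3)) (nb1 : ¬ IsConj t (t * ι e1)) (nb3 : ¬ IsConj t (t * ι e3)) : PB t ι := by
  intro y hy hc
  obtain ⟨a, rfl | rfl⟩ := h.cases hy
  · exfalso
    have hsq := sq_iota h hc
    rcases type_of_sq hsq with h1 | h1 | h1 | h1
    · rw [h1] at hc
      exact not_conj_one h hc
    · exact na1 (conj_iota (h1.trans ct1.symm) hc)
    · exact disj e2 (by decide) (conj_iota (h1.trans ct2.symm) hc)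
    · exact na3 (conj_iota (h1.trans ct3.symm) hc)
  · have hsq := sq_t_iota h hc
    rcases type_of_sq hsq with h1 | h1 | h1 | h1
    · left; rw [h1, map_one, mul_one]
    · exact absurd (conj_t_iota h (h1.trans ct1.symm) hc) nb1
    · right
      refine ⟨a, ?_, ?_, hsq, rfl⟩
      · obtain ⟨c, rfl⟩ := isConj_iff.1 (Perm.isConj_iff_cycleType_eq.2 (ct2.trans h1.symm))
        rw [map_mul, map_mul, map_inv, show Perm.sign e2 = 1 by decide, mul_one, mul_inv_cancel]
      · rintro rfl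
        rw [Perm.cycleType_one] at h1
        exact absurd h1 (by decide)
    · exact absurd (conj_t_iota h (h1.trans ct3.symm) hc) nb3

/-- `(4 5 6)` -/
def dd : S7 := swap 4 5 * swap 5 6

theorem dd_comm {u : Perm (Fin 5)} (hu : VV u) : dd * em u = em u * dd := by
  rcases hu with rfl | rfl | rfl | rfl <;> decide +kernel

/-- **fusion in `N(E₀)`** -/
theorem exists_n [Finite G] (h : Spl t ι) (b2 : IsConj t (t * ι e2)) (hP : PB t ι) {v : Perm (Fin 5)} (hv : VV v) :
    ∃ n ∈ normalizer (EE h : Set G), n * t * n⁻¹ = t * ι (em v) := by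
  by_cases hv1 : v = 1
  · exact ⟨1, one_mem _, by rw [hv1, map_one, map_one]; group⟩
  obtain ⟨g', hg'⟩ := isConj_iff.1 (conj_V h b2 hv)
  obtain ⟨g, hgdef⟩ : ∃ g, g = g'⁻¹ := ⟨_, rfl⟩
  have hg : g * (t * ι (em v)) * g⁻¹ = t := by rw [hgdef, ← hg']; group
  -- images of the elements of `V`
  have himg : ∀ w, VV w → w ≠ 1 → ∃ k : S7, Perm.sign k = 1 ∧ k ≠ 1 ∧ k * k = 1 ∧ g * ι (em w) * g⁻¹ = ι k := by
    intro w hw hw1
    have e1 : t * (g * ι (em w) * g⁻¹) = g * (t * ι (em (v * w))) * g⁻¹ := by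
      rw [map_mul, map_mul]
      calc t * (g * ι (em w) * g⁻¹) = (g * (t * ι (em v)) * g⁻¹) * (g * ι (em w) * g⁻¹) := by rw [hg]
        _ = g * (t * (ι (em v) * ι (em w))) * g⁻¹ := by group
    have hcomm : (g * ι (em w) * g⁻¹) * t = t * (g * ι (em w) * g⁻¹) := by
      have e2 : ι (em w) * (t * ι (em v)) = (t * ι (em v)) * ι (em w) := by
        have e3 : ι (em w) * ι (em v) = ι (em v) * ι (em w) := by
          rw [← map_mul, ← map_mul, VV_comm w hw v hv, map_mul, map_mul]
        calc ι (em w) * (t * ι (em v)) = (ι (em w) * t) * ι (em v) := by group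
          _ = t * (ι (em w) * ι (em v)) := by rw [h.comm' (em w)]; group
          _ = (t * ι (em v)) * ι (em w) := by rw [e3]; group
      calc (g * ι (em w) * g⁻¹) * t = (g * ι (em w) * g⁻¹) * (g * (t * ι (em v)) * g⁻¹) := by rw [hg]
        _ = g * (ι (em w) * (t * ι (em v))) * g⁻¹ := by group
        _ = (g * (t * ι (em v)) * g⁻¹) * (g * ι (em w) * g⁻¹) := by rw [e2]; group
        _ = t * (g * ι (em w) * g⁻¹) := by rw [hg]
    have hcj : IsConj t (t * (g * ι (em w) * g⁻¹)) := by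
      rw [e1]
      exact (conj_V h b2 (VV_mul v hv w hw)).trans (isConj_iff.2 ⟨g, rfl⟩)
    have h3 := hP _ (by rw [mul_assoc, hcomm]) hcj
    rcases h3 with h3 | ⟨k, hk1, hk2, hk3, hk4⟩
    · exfalso
      have h4 := mul_eq_left.1 h3
      rw [mul_inv_eq_one] at h4
      have h5 : ι (em w) = 1 := mul_eq_left.1 h4
      have h6 := h.iota_eq_one h5
      rw [← map_one em] at h6
      exact hw1 (em_inj h6)
    · exact ⟨k, hk1, hk2, hk3, mul_left_cancel hk4⟩
  -- the element of order three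
  have hdd3 : dd * dd * dd = 1 := by decide
  have hdd1 : dd ≠ 1 := by decide
  have hyd : (g * ι dd * g⁻¹) * t = t * (g * ι dd * g⁻¹) := by
    have e2 : ι dd * (t * ι (em v)) = (t * ι (em v)) * ι dd := by
      have e3 : ι dd * ι (em v) = ι (em v) * ι dd := by
        rw [← map_mul, dd_comm hv, map_mul]
      calc ι dd * (t * ι (em v)) = (ι dd * t) * ι (em v) := by group
        _ = t * (ι dd * ι (em v)) := by rw [h.comm' dd]; group
        _ = (t * ι (em v)) * ι dd := by rw [e3]; group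
    calc (g * ι dd * g⁻¹) * t = (g * ι dd * g⁻¹) * (g * (t * ι (em v)) * g⁻¹) := by rw [hg]
      _ = g * (ι dd * (t * ι (em v))) * g⁻¹ := by group
      _ = (g * (t * ι (em v)) * g⁻¹) * (g * ι dd * g⁻¹) := by rw [e2]; group
      _ = t * (g * ι dd * g⁻¹) := by rw [hg]
  have hy3 : (g * ι dd * g⁻¹) * (g * ι dd * g⁻¹) * (g * ι dd * g⁻¹) = 1 := by
    calc (g * ι dd * g⁻¹) * (g * ι dd * g⁻¹) * (g * ι dd * g⁻¹) = g * (ι dd * ι dd * ι dd) * g⁻¹ := by group
      _ = 1 := by rw [← map_mul, ← map_mul, hdd3, map_one]; group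
  obtain ⟨d, hd⟩ : ∃ d, g * ι dd * g⁻¹ = ι d := by
    obtain ⟨d, hd | hd⟩ := h.cases hyd
    · exact ⟨d, hd⟩
    · exfalso
      rw [hd] at hy3
      have e3 : t * ι (d * d * d) = 1 := by
        rw [map_mul, map_mul]
        calc t * (ι d * ι d * ι d) = (t * t) * t * (ι d * ι d * ι d) := by rw [h.tt, one_mul]
          _ = t * (t * (t * ι d)) * ι d * ι d := by group
          _ = t * (t * (ι d * t)) * ι d * ι d := by rw [h.comm d]
          _ = t * ((t * ι d) * t) * ι d * ι d := by group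
          _ = t * ((ι d * t) * t) * ι d * ι d := by rw [h.comm d]
          _ = (t * ι d) * (t * (t * ι d)) * ι d := by group
          _ = (t * ι d) * (t * (ι d * t)) * ι d := by rw [h.comm d]
          _ = (t * ι d) * (t * ι d) * (t * ι d) := by group
          _ = 1 := hy3
      apply h.ne (d * d * d)
      rw [eq_inv_of_mul_eq_one_right e3, h.t_inv]
  have hd3 : d * d * d = 1 := by
    apply h.inj
    rw [map_mul, map_mul, map_one, ← hd]
    exact hy3
  have hd1 : d ≠ 1 := by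
    rintro rfl
    rw [map_one, mul_inv_eq_one] at hd
    exact hdd1 (h.iota_eq_one (mul_eq_left.1 hd))
  -- commutation
  have hdk : ∀ w k, VV w → g * ι (em w) * g⁻¹ = ι k → d * k = k * d := by
    intro w k hw hk
    apply h.inj
    rw [map_mul, map_mul, ← hd, ← hk]
    have e3 : ι dd * ι (em w) = ι (em w) * ι dd := by
      rw [← map_mul, dd_comm hw, map_mul]
    calc g * ι dd * g⁻¹ * (g * ι (em w) * g⁻¹) = g * (ι dd * ι (em w)) * g⁻¹ := by group
      _ = g * ι (em w) * g⁻¹ * (g * ι dd * g⁻¹) := by rw [e3]; group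
  -- the second generator
  have hw0 : ∃ w0, VV w0 ∧ w0 ≠ 1 ∧ w0 ≠ v ∧ (∀ S : Perm (Fin 5) → Prop, S 1 → S v → S w0 →
      (∀ u u', S u → S u' → S (u * u')) → ∀ u, VV u → S u) := by
    have hz1 : z5 ≠ 1 := by decide +kernel
    have hvz : v5 ≠ z5 := by decide +kernel
    have hv1' : v5 ≠ 1 := by decide +kernel
    rcases hv with rfl | rfl | rfl | rfl
    · exact absurd rfl hv1
    · refine ⟨v5, by decide +kernel, hv1', hvz, ?_⟩
      intro S h1 hz hv5 hm u hu
      rcases hu with rfl | rfl | rfl | rfl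
      · exact h1
      · exact hz
      · exact hv5
      · exact hm _ _ hz hv5
    · refine ⟨z5, by decide +kernel, hz1, hvz.symm, ?_⟩
      intro S h1 hv5 hz hm u hu
      rcases hu with rfl | rfl | rfl | rfl
      · exact h1
      · exact hz
      · exact hv5
      · exact hm _ _ hz hv5
    · refine ⟨z5, by decide +kernel, hz1, by decide +kernel, ?_⟩
      intro S h1 hzv hz hm u hu
      have e : v5 = z5 * (z5 * v5) := by decide +kernel
      rcases hu with rfl | rfl | rfl | rfl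
      · exact h1
      · exact hz
      · rw [e]; exact hm _ _ hz hzv
      · exact hzv
  obtain ⟨w0, hw0V, hw01, hw0v, hgen⟩ := hw0
  obtain ⟨a, ha1, ha2, ha3, ha4⟩ := himg v hv hv1
  obtain ⟨b, hb1, hb2, hb3, hb4⟩ := himg w0 hw0V hw01
  have hab : a ≠ b := by
    rintro rfl
    have e := ha4.trans hb4.symm
    exact hw0v (em_inj (h.inj (mul_left_cancel (mul_right_cancel e)))).symm
  have hcab : a * b = b * a := by
    apply h.inj
    rw [map_mul, map_mul, ← ha4, ← hb4]
    have e3 : ι (em v) * ι (em w0) = ι (em w0) * ι (em v) := by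
      rw [← map_mul, ← map_mul, VV_comm v hv w0 hw0V, map_mul, map_mul]
    calc g * ι (em v) * g⁻¹ * (g * ι (em w0) * g⁻¹) = g * (ι (em v) * ι (em w0)) * g⁻¹ := by group
      _ = g * ι (em w0) * g⁻¹ * (g * ι (em v) * g⁻¹) := by rw [e3]; group
  obtain ⟨c, hc1, hc2⟩ := exists_c ha3 ha2 ha1 hb3 hb2 hb1 hab hcab hd3 hd1 (hdk v a hv ha4) (hdk w0 b hw0V hb4)
  -- the normalising element
  obtain ⟨n, hn⟩ : ∃ n, n = ι c * g := ⟨_, rfl⟩
  have hn1 : n * (t * ι (em v)) * n⁻¹ = t := by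
    rw [hn]
    calc ι c * g * (t * ι (em v)) * (ι c * g)⁻¹ = ι c * (g * (t * ι (em v)) * g⁻¹) * (ι c)⁻¹ := by group
      _ = t := by rw [hg, h.comm' c]; group
  have hn2 : n * ι (em v) * n⁻¹ = ι (em z5) := by
    rw [hn]
    calc ι c * g * ι (em v) * (ι c * g)⁻¹ = ι c * (g * ι (em v) * g⁻¹) * (ι c)⁻¹ := by group
      _ = ι (em z5) := by rw [ha4, ← hc1, map_mul, map_mul, map_inv]
  have hn3 : n * ι (em w0) * n⁻¹ = ι (em v5) := by
    rw [hn]
    calc ι c * g * ι (em w0) * (ι c * g)⁻¹ = ι c * (g * ι (em w0) * g⁻¹) * (ι c)⁻¹ := by group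
      _ = ι (em v5) := by rw [hb4, ← hc2, map_mul, map_mul, map_inv]
  have hVE : ∀ u, VV u → n * ι (em u) * n⁻¹ ∈ EE h := by
    apply hgen (fun u => n * ι (em u) * n⁻¹ ∈ EE h)
    · rw [map_one, map_one]
      have : n * 1 * n⁻¹ = 1 := by group
      rw [this]; exact one_mem _
    · rw [hn2]; exact ⟨z5, Or.inr (Or.inl rfl), Or.inl rfl⟩
    · rw [hn3]; exact ⟨v5, Or.inr (Or.inr (Or.inl rfl)), Or.inl rfl⟩
    · intro u u' hu hu'
      have e : n * ι (em (u * u')) * n⁻¹ = (n * ι (em u) * n⁻¹) * (n * ι (em u') * n⁻¹) := by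
        rw [map_mul, map_mul]; group
      rw [e]
      exact mul_mem hu hu'
  have hnt : n * t * n⁻¹ = t * (ι (em z5))⁻¹ := by
    have e : n * t * n⁻¹ = (n * (t * ι (em v)) * n⁻¹) * (n * ι (em v) * n⁻¹)⁻¹ := by group
    rw [e, hn1, hn2]
  have htE : t ∈ EE h := ⟨1, Or.inl rfl, Or.inr (by rw [map_one, map_one, mul_one])⟩
  have hzE : ι (em z5) ∈ EE h := ⟨z5, Or.inr (Or.inl rfl), Or.inl rfl⟩
  have hntE : n * t * n⁻¹ ∈ EE h := by
    rw [hnt]; exact mul_mem htE (inv_mem hzE)
  have hle : cj n (EE h) ≤ EE h := by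
    intro y hy
    rw [mem_cj] at hy
    obtain ⟨u, hu, hy'⟩ := hy
    rcases hy' with hy' | hy'
    · have e : y = n * ι (em u) * n⁻¹ := by rw [← hy']; group
      rw [e]; exact hVE u hu
    · have e : y = (n * t * n⁻¹) * (n * ι (em u) * n⁻¹) := by
        have : y = n * (n⁻¹ * y * n) * n⁻¹ := by group
        rw [this, hy']; group
      rw [e]; exact mul_mem hntE (hVE u hu)
  have hnN : n ∈ normalizer (EE h : Set G) := by
    rw [mem_normalizer_iff_cj]
    exact eq_of_le_of_card_ge hle (card_cj n (EE h)).symm.le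
  refine ⟨n⁻¹, inv_mem hnN, ?_⟩
  calc n⁻¹ * t * n⁻¹⁻¹ = n⁻¹ * (n * (t * ι (em v)) * n⁻¹) * n := by rw [hn1, inv_inv]
    _ = t * ι (em v) := by group

/-- **LEMMA B** -/
theorem lemma_B [Finite G] (h : Spl t ι) (disj : ∀ a, Perm.sign a = 1 → ¬ IsConj t (ι a))
    (b2 : IsConj t (t * ι e2)) (hP : PB t ι) : 2 ^ 7 ∣ Nat.card G := by
  obtain ⟨N, hN⟩ : ∃ N, N = normalizer (EE h : Set G) := ⟨_, rfl⟩
  have htE : t ∈ EE h := ⟨1, Or.inl rfl, Or.inr (by rw [map_one, map_one, mul_one])⟩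
  have hEN : EE h ≤ N := by rw [hN]; exact le_normalizer
  have htN : t ∈ N := hEN htE
  -- the class of `t` in `N`
  have hclass : Nat.card {y : N // IsConj (⟨t, htN⟩ : N) y} = 4 := by
    have hmem : ∀ u : {u // VV u}, t * ι (em u.1) ∈ N := fun u => hEN ⟨u.1, u.2, Or.inr rfl⟩
    let f : {u // VV u} → {y : N // IsConj (⟨t, htN⟩ : N) y} := fun u => ⟨⟨t * ι (em u.1), hmem u⟩, by
      obtain ⟨n, hn, hnt⟩ := exists_n h b2 hP u.2
      rw [← hN] at hn
      exact isConj_iff.2 ⟨⟨n, hn⟩, Subtype.ext hnt⟩⟩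
    have hf : Function.Bijective f := by
      constructor
      · intro u u' e
        have e1 : t * ι (em u.1) = t * ι (em u'.1) := congrArg (fun y => ((y.1 : N) : G)) e
        exact Subtype.ext (em_inj (h.inj (mul_left_cancel e1)))
      · rintro ⟨y, hy⟩
        obtain ⟨n, hn⟩ := isConj_iff.1 hy
        have hn' : (n : G) * t * (n : G)⁻¹ = y := congrArg Subtype.val hn
        have hyE : (y : G) ∈ EE h := by
          rw [← hn']
          have h1 := hN.le n.2
          exact (mem_normalizer_iff.1 h1 t).1 htE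
        obtain ⟨u, hu, hy' | hy'⟩ := hyE
        · exfalso
          apply disj (em u) (by rw [sign_em]; exact VV_sign u hu)
          rw [← hy']
          exact isConj_iff.2 ⟨n, hn'⟩
        · exact ⟨⟨u, hu⟩, Subtype.ext (Subtype.ext hy'.symm)⟩
    rw [← Nat.card_eq_of_bijective f hf, Nat.card_eq_fintype_card, card_VV]
  rw [Lib.ModFour.card_isConj] at hclass
  -- `T ≤ N ∩ C(t)`
  have hTN : TT t ι ≤ N := by
    intro y hy
    rw [hN, mem_normalizer_iff_cj]
    apply eq_of_le_of_card_ge _ (card_cj y (EE h)).symm.le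
    intro x hx
    rw [mem_cj] at hx
    obtain ⟨u, hu, hx'⟩ := hx
    obtain ⟨h1, h2, h3⟩ := mem_TT.1 hy
    obtain ⟨a, ha⟩ := h.cases h1
    have ha1 := (comm_iff h ha).1 h2
    have ha2 := (comm_iff h ha).1 h3
    obtain ⟨b, hb⟩ := split ha1
    have hbz : b * z5 = z5 * b := by
      rw [← comm_e2_iff]
      rcases hb with hb | hb
      · rw [← hb]; exact ha2
      · rw [hb] at ha2
        apply mul_left_cancel (a := e1)
        rw [← mul_assoc, ha2, ← mul_assoc, ← mul_assoc, show e1 * e2 = e2 * e1 by decide]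
    have hau : a * em u * a⁻¹ = em (b * u * b⁻¹) := by
      rcases hb with hb | hb
      · rw [hb, map_mul, map_mul, map_inv]
      · have e := em_comm1 (b * u * b⁻¹)
        rw [hb]
        calc e1 * em b * em u * (e1 * em b)⁻¹ = e1 * (em b * em u * (em b)⁻¹) * e1⁻¹ := by group
          _ = e1 * em (b * u * b⁻¹) * e1⁻¹ := by rw [map_mul, map_mul, map_inv]
          _ = em (b * u * b⁻¹) := by rw [← e]; group
    have hyu : y * ι (em u) * y⁻¹ = ι (em (b * u * b⁻¹)) := by
      rw [← hau, map_mul, map_mul, map_inv]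
      rcases ha with ha | ha
      · rw [ha]
      · rw [ha]
        have e := h.comm a
        have e2 : t * ι (em u) * t⁻¹ = ι (em u) := by rw [h.comm (em u)]; group
        calc t * ι a * ι (em u) * (t * ι a)⁻¹ = (ι a * t) * ι (em u) * (ι a * t)⁻¹ := by rw [e]
          _ = ι a * (t * ι (em u) * t⁻¹) * (ι a)⁻¹ := by group
          _ = ι a * ι (em u) * (ι a)⁻¹ := by rw [e2]
    have hyt : y * t * y⁻¹ = t := by rw [h1]; group
    refine ⟨b * u * b⁻¹, conj_VV b hbz u hu, ?_⟩
    rcases hx' with hx' | hx'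
    · left
      rw [← hyu, ← hx']; group
    · right
      have : x = y * (y⁻¹ * x * y) * y⁻¹ := by group
      rw [this, hx']
      calc y * (t * ι (em u)) * y⁻¹ = (y * t * y⁻¹) * (y * ι (em u) * y⁻¹) := by group
        _ = t * ι (em (b * u * b⁻¹)) := by rw [hyt, hyu]
  have hle : (TT t ι).subgroupOf N ≤ centralizer ({(⟨t, htN⟩ : N)} : Set N) := by
    intro y hy
    rw [mem_centralizer_singleton_iff]
    exact Subtype.ext (mem_TT.1 hy).1
  have h32 := card_dvd_of_le hle
  rw [Nat.card_congr (subgroupOfEquivOfLe hTN).toEquiv, card_TT h] at h32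
  have hNc := (centralizer ({(⟨t, htN⟩ : N)} : Set N)).card_mul_index
  rw [hclass] at hNc
  have h128 : 2 ^ 7 ∣ Nat.card N := by
    rw [← hNc, show (2 : ℕ) ^ 7 = 2 ^ 5 * 4 from rfl]
    exact mul_dvd_mul h32 (dvd_refl 4)
  exact h128.trans (card_subgroup_dvd_card N)

end Pattern

open Pattern in
/-- **(1), (2): the pattern.** -/
theorem exists_all {G : Type*} [Group G] [Finite G] {t : G} {ι : S7 →* G} (hG : ∀ H : Subgroup G, H.index ≠ 2)
    (hr : ¬ SectionalPRankLE 2 4 G) (h : Spl t ι) (disj : ∀ a, Perm.sign a = 1 → ¬ IsConj t (ι a)) :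
    ∃ ι', All t ι' := by
  classical
  have hA := even_A hG h
  have hB := even_B hG h
  have hM := mod_four hG h disj
  have hcard := card_G h
  have hodd : 2 ∣ (centralizer ({t} : Set G)).index := by
    by_contra hcon
    exact hr (sect_of_odd h hcon)
  have h64 : 2 ^ 6 ∣ Nat.card G := by
    rw [hcard]
    obtain ⟨m, hm⟩ := hodd
    exact ⟨315 * m, by rw [hm]; ring⟩
  have key : IsConj t (t * ι e2) ∧ (IsConj t (ι e1) ↔ IsConj t (ι e3)) ∧
      (IsConj t (t * ι e1) ↔ IsConj t (t * ι e3)) ∧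
      (IsConj t (ι e1) ∨ IsConj t (t * ι e1) ∨ (centralizer ({t} : Set G)).index % 4 = 2) := by
    rw [Nat.even_iff] at hA hB
    unfold Nat.ModEq at hM
    by_cases p1 : IsConj t (ι e1) <;> by_cases p3 : IsConj t (ι e3) <;> by_cases q1 : IsConj t (t * ι e1) <;>
      by_cases q2 : IsConj t (t * ι e2) <;> by_cases q3 : IsConj t (t * ι e3) <;>
      simp only [p1, p3, q1, q2, q3, if_true, if_false, true_and, false_and, iff_true, iff_false,
        not_true_eq_false, true_or, false_or, or_true] at hA hB hM ⊢ <;> omega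
  obtain ⟨b2, h13, g13, hlast⟩ := key
  have hcases : (IsConj t (ι e1) ∧ ¬ IsConj t (t * ι e1)) ∨ (¬ IsConj t (ι e1) ∧ IsConj t (t * ι e1)) := by
    by_cases p1 : IsConj t (ι e1)
    · left
      refine ⟨p1, fun q1 => ?_⟩
      exact z_case h h64 p1 (h13.1 p1) q1 b2 (g13.1 q1)
    · right
      refine ⟨p1, ?_⟩
      by_contra q1
      have h2 : (centralizer ({t} : Set G)).index % 4 = 2 := by
        rcases hlast with h2 | h2 | h2
        · exact absurd h2 p1
        · exact absurd h2 q1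
        · exact h2
      have h3 := lemma_B h disj b2 (pattern_B h disj p1 (fun e => p1 (h13.2 e)) q1 (fun e => q1 (g13.2 e)))
      rw [hcard] at h3
      have h4 : 4 ∣ 315 * (centralizer ({t} : Set G)).index := by
        obtain ⟨m, hm⟩ := h3
        exact ⟨m, by omega⟩
      omega
  rcases hcases with ⟨p1, q1⟩ | ⟨p1, q1⟩
  · -- the other complement
    refine ⟨twist t h.tt ι h.comm, ?_⟩
    have ht1 : ∀ a : S7, a * a = 1 → a ≠ 1 → (a.cycleType = e1.cycleType ∧ Perm.sign a = -1) ∨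
        (a.cycleType = e2.cycleType ∧ Perm.sign a = 1) ∨ (a.cycleType = e3.cycleType ∧ Perm.sign a = -1) := by
      intro a ha ha1
      have hs : ∀ b : S7, a.cycleType = b.cycleType → Perm.sign a = Perm.sign b := by
        intro b hb
        obtain ⟨c, rfl⟩ := isConj_iff.1 (Perm.isConj_iff_cycleType_eq.2 hb.symm)
        rw [map_mul, map_mul, map_inv, mul_comm (Perm.sign c), mul_assoc, mul_inv_cancel, mul_one]
      rcases type_of_sq ha with h1 | h1 | h1 | h1
      · exact absurd h1 ha1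
      · rw [← ct1] at h1
        exact Or.inl ⟨h1, (hs _ h1).trans (by decide)⟩
      · rw [← ct2] at h1
        exact Or.inr (Or.inl ⟨h1, (hs _ h1).trans (by decide)⟩)
      · rw [← ct3] at h1
        exact Or.inr (Or.inr ⟨h1, (hs _ h1).trans (by decide)⟩)
    have hne : (-1 : ℤˣ) ≠ 1 := by decide
    refine { toSpl := spl_twist h, yes := ?_, no := ?_ }
    · intro a ha ha1
      rw [twist_apply]
      rcases ht1 a ha ha1 with ⟨h1, h2⟩ | ⟨h1, h2⟩ | ⟨h1, h2⟩
      · rw [if_neg (by rw [h2]; exact hne), ← mul_assoc, h.tt, one_mul]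
        exact conj_iota h1.symm p1
      · rw [if_pos h2, one_mul]
        exact conj_t_iota h h1.symm b2
      · rw [if_neg (by rw [h2]; exact hne), ← mul_assoc, h.tt, one_mul]
        exact conj_iota h1.symm (h13.1 p1)
    · intro a ha ha1
      rw [twist_apply]
      rcases ht1 a ha ha1 with ⟨h1, h2⟩ | ⟨h1, h2⟩ | ⟨h1, h2⟩
      · rw [if_neg (by rw [h2]; exact hne)]
        exact fun e => q1 (conj_t_iota h h1 e)
      · rw [if_pos h2, one_mul]
        exact disj a h2
      · rw [if_neg (by rw [h2]; exact hne)]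
        exact fun e => q1 (g13.2 (conj_t_iota h h1 e))
  · refine ⟨ι, { toSpl := h, yes := ?_, no := ?_ }⟩
    · intro a ha ha1
      rcases type_of_sq ha with h1 | h1 | h1 | h1
      · exact absurd h1 ha1
      · exact conj_t_iota h (ct1.trans h1.symm) q1
      · exact conj_t_iota h (ct2.trans h1.symm) b2
      · exact conj_t_iota h (ct3.trans h1.symm) (g13.1 q1)
    · intro a ha ha1
      rcases type_of_sq ha with h1 | h1 | h1 | h1
      · exact absurd h1 ha1
      · exact fun e => p1 (conj_iota (h1.trans ct1.symm) e)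
      · exact fun e => disj e2 (by decide) (conj_iota (h1.trans ct2.symm) e)
      · exact fun e => p1 (h13.2 (conj_iota (h1.trans ct3.symm) e))

end Cfsg.Agent.OddHalf.D5.Seven
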