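import Cfsg.Agent.OddHalf.D5.Seven.Five
import Cfsg.Agent.OddHalf.D3.Inst
import Cfsg.Agent.OddHalf.Iface
import Cfsg.Agent.Lib.PSL2Torus
import Cfsg.Agent.FixBN.BTheorem

/-!
# ODD D5, `n = 7`: the component of `C(s)` is moved by `t` (helper905)

Text: `blueprints/ODD-D5-n7-helper858.md`, (3a)-(3c); input `p` = the element of helper307.

`s = ι (4 5)`, `J = ι (Alt {0,1,2,3,6})`, a component of `C(s) ∩ C(t)`. `p` commutes with `s` and with the four-group `V`
of `J` and `t ^ p = t z`. A component `L` of `C(s)` containing `J` has at least `4 · 12 · 60 = 2880` elements, and is not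
`L₂(q)`, `q` odd.
-/

set_option autoImplicit false

namespace Cfsg.Agent.OddHalf.D5.Seven

open Subgroup Equiv Cfsg Cfsg.Agent.OddHalf.D3 Cfsg.Agent.SignalizersComponents

/-- The element `p` of helper307. -/
structure Pel {G : Type*} [Group G] (t : G) (ι : S7 →* G) (p : G) : Prop where
  s : p * ι (swap 4 5) = ι (swap 4 5) * p
  z : p * ι (swap 0 1 * swap 2 3) = ι (swap 0 1 * swap 2 3) * p
  v : p * ι (swap 0 2 * swap 1 3) = ι (swap 0 2 * swap 1 3) * p
  t : p * t * p⁻¹ = t * ι (swap 0 1 * swap 2 3)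

namespace Diag

open Five

variable {G : Type*} [Group G] {t p : G} {ι : S7 →* G}

theorem comm_V (P : Pel t ι p) {u : Perm (Fin 5)} (hu : VV u) : p * ι (em u) = ι (em u) * p := by
  have hz : p * ι (em z5) = ι (em z5) * p := by rw [em_z5]; exact P.z
  have hv : p * ι (em v5) = ι (em v5) * p := by rw [em_v5]; exact P.v
  rcases hu with rfl | rfl | rfl | rfl
  · rw [map_one, map_one, mul_one, one_mul]
  · exact hz
  · exact hv
  · rw [map_mul, map_mul, ← mul_assoc, hz, mul_assoc, hv, mul_assoc]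

theorem inv_t (P : Pel t ι p) : p⁻¹ * t * p = t * ι (em z5) := by
  have hz : p * ι (em z5) = ι (em z5) * p := by rw [em_z5]; exact P.z
  have ht : p * t * p⁻¹ = t * ι (em z5) := by rw [em_z5]; exact P.t
  have hzz : ι (em z5) * ι (em z5) = 1 := by
    rw [← map_mul, ← map_mul, show z5 * z5 = 1 by decide +kernel, map_one, map_one]
  calc p⁻¹ * t * p = p⁻¹ * (t * (ι (em z5) * ι (em z5))) * p := by rw [hzz, mul_one]
    _ = p⁻¹ * (t * ι (em z5)) * (ι (em z5) * p) := by group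
    _ = p⁻¹ * (p * t * p⁻¹) * (p * ι (em z5)) := by rw [← ht, hz]
    _ = t * ι (em z5) := by group

theorem t_comm (h : Spl t ι) (r : Perm (Fin 5)) : (ι (em r))⁻¹ * t * ι (em r) = t := by
  have := h.comm (em r)
  rw [mul_assoc, this]; group

theorem t_comm' (h : Spl t ι) (r : Perm (Fin 5)) : ι (em r) * t * (ι (em r))⁻¹ = t := by
  rw [← h.comm (em r)]; group

/-- the commutator of `p` with an element of order three normalising `V` -/
theorem step (h : Spl t ι) (P : Pel t ι p) {L : Subgroup G} (hJ : ∀ a, Perm.sign a = 1 → ι (em a) ∈ L)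
    (hp : ∀ x ∈ L, p * x * p⁻¹ ∈ L) {r y : Perm (Fin 5)} (hr : Perm.sign r = 1)
    (hr' : ∀ u, VV u → VV (r⁻¹ * u * r)) (hy : r * z5 * r⁻¹ = y) (hyV : VV y) :
    ∃ q ∈ L, q * t * q⁻¹ = t * ι (em (z5 * y)) ∧ ∀ u, VV u → q * ι (em u) = ι (em u) * q := by
  refine ⟨p * (ι (em r) * p⁻¹ * (ι (em r))⁻¹), ?_, ?_, ?_⟩
  · have e : p * (ι (em r) * p⁻¹ * (ι (em r))⁻¹) = p * ι (em r) * p⁻¹ * (ι (em r))⁻¹ := by group
    rw [e]
    exact L.mul_mem (hp _ (hJ r hr)) (L.inv_mem (hJ r hr))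
  · have h1 : (ι (em r)) * ι (em z5) * (ι (em r))⁻¹ = ι (em y) := by
      rw [← hy, map_mul, map_mul, map_mul, map_mul, map_inv, map_inv]
    calc p * (ι (em r) * p⁻¹ * (ι (em r))⁻¹) * t * (p * (ι (em r) * p⁻¹ * (ι (em r))⁻¹))⁻¹
        = p * (ι (em r) * (p⁻¹ * ((ι (em r))⁻¹ * t * ι (em r)) * p) * (ι (em r))⁻¹) * p⁻¹ := by group
      _ = p * (ι (em r) * (t * ι (em z5)) * (ι (em r))⁻¹) * p⁻¹ := by rw [t_comm h, inv_t P]
      _ = p * ((ι (em r) * t * (ι (em r))⁻¹) * ((ι (em r)) * ι (em z5) * (ι (em r))⁻¹)) * p⁻¹ := by group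
      _ = p * (t * ι (em y)) * p⁻¹ := by rw [t_comm' h, h1]
      _ = (p * t * p⁻¹) * (p * ι (em y) * p⁻¹) := by group
      _ = t * ι (em z5) * ι (em y) := by
          rw [P.t, comm_V P hyV, em_z5]; group
      _ = t * ι (em (z5 * y)) := by rw [map_mul, map_mul, mul_assoc]
  · intro u hu
    have h1 := comm_V P (hr' u hu)
    have h2 : (ι (em r))⁻¹ * ι (em u) = ι (em (r⁻¹ * u * r)) * (ι (em r))⁻¹ := by
      rw [map_mul, map_mul, map_mul, map_mul, map_inv, map_inv]; group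
    have h3 : p⁻¹ * ι (em (r⁻¹ * u * r)) = ι (em (r⁻¹ * u * r)) * p⁻¹ := by
      calc p⁻¹ * ι (em (r⁻¹ * u * r)) = p⁻¹ * (ι (em (r⁻¹ * u * r)) * p) * p⁻¹ := by group
        _ = ι (em (r⁻¹ * u * r)) * p⁻¹ := by rw [← h1]; group
    have h4 : ι (em r) * ι (em (r⁻¹ * u * r)) = ι (em u) * ι (em r) := by
      rw [map_mul, map_mul, map_mul, map_mul, map_inv, map_inv]; group
    calc p * (ι (em r) * p⁻¹ * (ι (em r))⁻¹) * ι (em u)
        = p * (ι (em r) * p⁻¹ * ((ι (em r))⁻¹ * ι (em u))) := by group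
      _ = p * (ι (em r) * (p⁻¹ * ι (em (r⁻¹ * u * r))) * (ι (em r))⁻¹) := by rw [h2]; group
      _ = p * ((ι (em r) * ι (em (r⁻¹ * u * r))) * p⁻¹ * (ι (em r))⁻¹) := by rw [h3]; group
      _ = (p * ι (em u)) * ι (em r) * p⁻¹ * (ι (em r))⁻¹ := by rw [h4]; group
      _ = ι (em u) * (p * (ι (em r) * p⁻¹ * (ι (em r))⁻¹)) := by rw [comm_V P hu]; group

/-- multiplication -/
theorem step_mul {L : Subgroup G} {u u' : Perm (Fin 5)} (hu' : VV u')
    (h1 : ∃ q ∈ L, q * t * q⁻¹ = t * ι (em u) ∧ ∀ u, VV u → q * ι (em u) = ι (em u) * q)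
    (h2 : ∃ q ∈ L, q * t * q⁻¹ = t * ι (em u') ∧ ∀ u, VV u → q * ι (em u) = ι (em u) * q) :
    ∃ q ∈ L, q * t * q⁻¹ = t * ι (em (u * u')) ∧ ∀ u, VV u → q * ι (em u) = ι (em u) * q := by
  obtain ⟨q, hq, hqt, hqu⟩ := h1
  obtain ⟨q', hq', hqt', hqu'⟩ := h2
  refine ⟨q * q', L.mul_mem hq hq', ?_, ?_⟩
  · have e := hqu u' hu'
    calc q * q' * t * (q * q')⁻¹ = q * (q' * t * q'⁻¹) * q⁻¹ := by group
      _ = (q * t * q⁻¹) * (q * ι (em u') * q⁻¹) := by rw [hqt']; group
      _ = t * ι (em u) * ι (em u') := by rw [hqt, e]; group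
      _ = t * ι (em (u * u')) := by rw [map_mul, map_mul, mul_assoc]
  · intro w hw
    rw [mul_assoc, hqu' w hw, ← mul_assoc, hqu w hw, mul_assoc]

theorem exists_qV (h : Spl t ι) (P : Pel t ι p) {L : Subgroup G} (hJ : ∀ a, Perm.sign a = 1 → ι (em a) ∈ L)
    (hp : ∀ x ∈ L, p * x * p⁻¹ ∈ L) {v : Perm (Fin 5)} (hv : VV v) :
    ∃ q ∈ L, q * t * q⁻¹ = t * ι (em v) ∧ ∀ u, VV u → q * ι (em u) = ι (em u) * q := by
  have hA : ∃ q ∈ L, q * t * q⁻¹ = t * ι (em (z5 * v5)) ∧ ∀ u, VV u → q * ι (em u) = ι (em u) * q := by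
    rcases r5_z5 with ⟨h1, h2⟩ | ⟨h1, h2⟩
    · exact step h P hJ hp r5_sign r5_conj h1 (by decide +kernel)
    · exact step h P hJ hp (r := r5⁻¹) (by rw [map_inv, r5_sign]; rfl) (fun u hu => by
        rw [inv_inv]; exact r5_conj' u hu) (by rw [inv_inv]; exact h2) (by decide +kernel)
  have hB : ∃ q ∈ L, q * t * q⁻¹ = t * ι (em v5) ∧ ∀ u, VV u → q * ι (em u) = ι (em u) * q := by
    have e : z5 * (z5 * v5) = v5 := by decide +kernel
    rw [← e]
    rcases r5_z5 with ⟨h1, h2⟩ | ⟨h1, h2⟩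
    · exact step h P hJ hp (r := r5⁻¹) (by rw [map_inv, r5_sign]; rfl) (fun u hu => by
        rw [inv_inv]; exact r5_conj' u hu) (by rw [inv_inv]; exact h2) (by decide +kernel)
    · exact step h P hJ hp r5_sign r5_conj h1 (by decide +kernel)
  rcases hv with rfl | rfl | rfl | rfl
  · refine ⟨1, L.one_mem, by simp, by simp⟩
  · have e : z5 = (z5 * v5) * v5 := by decide +kernel
    have := step_mul (u := z5 * v5) (u' := v5) (by decide +kernel) hA hB
    rwa [← e] at this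
  · exact hB
  · exact hA

theorem exists_qW (h : Spl t ι) (P : Pel t ι p) {L : Subgroup G} (hJ : ∀ a, Perm.sign a = 1 → ι (em a) ∈ L)
    (hp : ∀ x ∈ L, p * x * p⁻¹ ∈ L) {w : Perm (Fin 5)} (hw : WW w) :
    ∃ q ∈ L, q * t * q⁻¹ = t * ι (em w) := by
  obtain ⟨j, hj, hjw⟩ := exists_conj w hw.1 hw.2.1 (by
    rintro rfl
    exact hw.2.2 (Or.inl rfl))
  obtain ⟨q, hq, hqt, -⟩ := exists_qV h P hJ hp (v := z5) (Or.inr (Or.inl rfl))
  refine ⟨ι (em j) * q * (ι (em j))⁻¹, L.mul_mem (L.mul_mem (hJ j hj) hq) (L.inv_mem (hJ j hj)), ?_⟩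
  calc ι (em j) * q * (ι (em j))⁻¹ * t * (ι (em j) * q * (ι (em j))⁻¹)⁻¹
      = ι (em j) * (q * ((ι (em j))⁻¹ * t * ι (em j)) * q⁻¹) * (ι (em j))⁻¹ := by group
    _ = ι (em j) * (t * ι (em z5)) * (ι (em j))⁻¹ := by rw [t_comm h, hqt]
    _ = (ι (em j) * t * (ι (em j))⁻¹) * (ι (em j) * ι (em z5) * (ι (em j))⁻¹) := by group
    _ = t * ι (em w) := by
        rw [t_comm' h, ← hjw, map_mul, map_mul, map_mul, map_mul, map_inv, map_inv]

/-- **The count.** -/
theorem card_ge [Finite G] (h : Spl t ι) (P : Pel t ι p) {L : Subgroup G}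
    (hJ : ∀ a, Perm.sign a = 1 → ι (em a) ∈ L) (hp : ∀ x ∈ L, p * x * p⁻¹ ∈ L) : 2880 ≤ Nat.card L := by
  choose q hq hqt hqu using fun v : {v // VV v} => exists_qV h P hJ hp v.2
  choose r hr hrt using fun w : {w // WW w} => exists_qW h P hJ hp w.2
  let f : ({v // VV v} × {w // WW w}) × {a : Perm (Fin 5) // Perm.sign a = 1} → L := fun x =>
    ⟨q x.1.1 * r x.1.2 * ι (em x.2), L.mul_mem (L.mul_mem (hq _) (hr _)) (hJ _ x.2.2)⟩
  have hinj : Function.Injective em := em_inj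
  have hf : Function.Injective f := by
    rintro ⟨⟨v, w⟩, j⟩ ⟨⟨v', w'⟩, j'⟩ e
    have e1 : q v * r w * ι (em j) = q v' * r w' * ι (em j') := congrArg Subtype.val e
    -- the images of `t`
    have key : ∀ (v : {v // VV v}) (w : {w // WW w}) (j : {a : Perm (Fin 5) // Perm.sign a = 1}),
        (q v * r w * ι (em j)) * t * (q v * r w * ι (em j))⁻¹ =
          (t * ι (em v)) * (q v * ι (em w) * (q v)⁻¹) := by
      intro v w j
      calc (q v * r w * ι (em j)) * t * (q v * r w * ι (em j))⁻¹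
          = q v * (r w * (ι (em j) * t * (ι (em j))⁻¹) * (r w)⁻¹) * (q v)⁻¹ := by group
        _ = q v * (t * ι (em w)) * (q v)⁻¹ := by rw [t_comm' h, hrt]
        _ = (q v * t * (q v)⁻¹) * (q v * ι (em w) * (q v)⁻¹) := by group
        _ = (t * ι (em v)) * (q v * ι (em w) * (q v)⁻¹) := by rw [hqt]
    have e2 : (t * ι (em v)) * (q v * ι (em w) * (q v)⁻¹) =
        (t * ι (em v')) * (q v' * ι (em w') * (q v')⁻¹) := by
      rw [← key v w j, ← key v' w' j', e1]
    -- `x` commutes with `t v`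
    have hx : ∀ (v : {v // VV v}) (w : {w // WW w}), Commute (t * ι (em v)) (q v * ι (em w) * (q v)⁻¹) := by
      intro v w
      show (t * ι (em v)) * (q v * ι (em w) * (q v)⁻¹) = (q v * ι (em w) * (q v)⁻¹) * (t * ι (em v))
      rw [← hqt v]
      have e3 := h.comm (em w)
      calc (q v * t * (q v)⁻¹) * (q v * ι (em w) * (q v)⁻¹) = q v * (t * ι (em w)) * (q v)⁻¹ := by group
        _ = q v * (ι (em w) * t) * (q v)⁻¹ := by rw [e3]
        _ = (q v * ι (em w) * (q v)⁻¹) * (q v * t * (q v)⁻¹) := by group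
    have hvv : v = v' := by
      by_contra hne
      have hne' : (v : Perm (Fin 5)) * v' ≠ 1 := by
        intro h1
        apply hne
        apply Subtype.ext
        have h2 := VV_sq v' v'.2
        exact mul_right_cancel (h1.trans h2.symm)
      have c1 : Commute (t * ι (em v)) (t * ι (em v')) := by
        show (t * ι (em v)) * (t * ι (em v')) = (t * ι (em v')) * (t * ι (em v))
        have e3 : ι (em v) * ι (em v') = ι (em v') * ι (em v) := by
          rw [← map_mul, ← map_mul, VV_comm v v.2 v' v'.2, map_mul, map_mul]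
        calc (t * ι (em v)) * (t * ι (em v')) = t * (ι (em v) * t) * ι (em v') := by group
          _ = t * (t * ι (em v)) * ι (em v') := by rw [h.comm (em v)]
          _ = t * t * (ι (em v) * ι (em v')) := by group
          _ = t * t * (ι (em v') * ι (em v)) := by rw [e3]
          _ = t * (t * ι (em v')) * ι (em v) := by group
          _ = t * (ι (em v') * t) * ι (em v) := by rw [h.comm (em v')]
          _ = (t * ι (em v')) * (t * ι (em v)) := by group
      have c2 : Commute (t * ι (em v')) ((t * ι (em v)) * (q v * ι (em w) * (q v)⁻¹)) := by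
        rw [e2]
        exact (Commute.refl _).mul_right (hx v' w')
      have c3 : Commute (t * ι (em v')) (q v * ι (em w) * (q v)⁻¹) := by
        have e3 : q v * ι (em w) * (q v)⁻¹ = (t * ι (em v))⁻¹ * ((t * ι (em v)) * (q v * ι (em w) * (q v)⁻¹)) := by
          group
        rw [e3]
        exact (c1.symm.inv_right).mul_right c2
      have c4 : Commute ((t * ι (em v)) * (t * ι (em v'))) (q v * ι (em w) * (q v)⁻¹) := (hx v w).mul_left c3
      have e4 : (t * ι (em v)) * (t * ι (em v')) = ι (em (v * v')) := by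
        rw [map_mul, map_mul]
        calc (t * ι (em v)) * (t * ι (em v')) = t * (ι (em v) * t) * ι (em v') := by group
          _ = t * (t * ι (em v)) * ι (em v') := by rw [h.comm (em v)]
          _ = (t * t) * (ι (em v) * ι (em v')) := by group
          _ = ι (em v) * ι (em v') := by rw [h.tt, one_mul]
      rw [e4] at c4
      have c5 : Commute (ι (em (v * v'))) (ι (em w)) := by
        have e5 := hqu v _ (VV_mul v v.2 v' v'.2)
        have e6 : ι (em w) = (q v)⁻¹ * (q v * ι (em w) * (q v)⁻¹) * q v := by group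
        have c6 : Commute (ι (em (v * v'))) (q v) := e5.symm
        rw [e6]
        exact (c6.inv_right.mul_right c4).mul_right c6
      have e7 : (w : Perm (Fin 5)) * (v * v') = v * v' * w := by
        apply hinj
        apply h.inj
        rw [map_mul, map_mul, map_mul em (v * v' : Perm (Fin 5)) w, map_mul ι (em (v * v' : Perm (Fin 5)))]
        exact c5.symm
      exact w.2.2.2 (VV_of_comm w (v * v') ⟨w.2.1, VV_mul v v.2 v' v'.2, hne', e7⟩)
    subst hvv
    have hww : w = w' := by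
      have e3 : q v * ι (em w) * (q v)⁻¹ = q v * ι (em w') * (q v)⁻¹ := mul_left_cancel e2
      exact Subtype.ext (hinj (h.inj (mul_left_cancel (mul_right_cancel e3))))
    subst hww
    have hjj : j = j' := Subtype.ext (hinj (h.inj (mul_left_cancel e1)))
    subst hjj
    rfl
  have h1 := Nat.card_le_card_of_injective f hf
  have h2 : Nat.card (({v // VV v} × {w // WW w}) × {a : Perm (Fin 5) // Perm.sign a = 1}) = 2880 := by
    rw [Nat.card_prod, Nat.card_prod, Nat.card_eq_fintype_card, Nat.card_eq_fintype_card, Nat.card_eq_fintype_card,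
      card_VV, card_WW, card_A5]
  rwa [h2] at h1

/-- **`L` is not `L₂(q)`, `q` odd.** -/
theorem not_L2 (h : Spl t ι) (P : Pel t ι p) {L : Subgroup G}
    (hJ : ∀ a, Perm.sign a = 1 → ι (em a) ∈ L) (hp : ∀ x ∈ L, p * x * p⁻¹ ∈ L) : ¬ Iface.IsL2o ↥L := by
  rintro ⟨F, _, _, hodd, -, ⟨e⟩⟩
  have h2 : (2 : F) ≠ 0 := by
    intro h0
    have hc : CharP F 2 := CharTwo.of_one_ne_zero_of_two_eq_zero one_ne_zero h0
    have h3 := FiniteField.even_card_of_char_two (F := F) ((ringChar.eq_iff (R := F)).2 hc)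
    have h4 := Nat.odd_iff.1 hodd
    omega
  obtain ⟨q, hq, hqt, hqu⟩ := exists_qV h P hJ hp (v := z5) (Or.inr (Or.inl rfl))
  have hz1 : z5 ≠ 1 := by decide +kernel
  have hv1 : v5 ≠ 1 := by decide +kernel
  have hvz : v5 ≠ z5 := by decide +kernel
  have hinj : ∀ a b : Perm (Fin 5), ι (em a) = ι (em b) → a = b := fun a b e => em_inj (h.inj e)
  have hJz := hJ z5 (by decide +kernel)
  have hJv := hJ v5 (by decide +kernel)
  obtain ⟨T, m, hT, -⟩ := Lib.PSL2Torus.exists_torus h2 e (t := ⟨ι (em z5), hJz⟩)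
    (fun e => hz1 (hinj z5 1 (by rw [map_one, map_one]; exact congrArg Subtype.val e)))
    (Subtype.ext (by
      show ι (em z5) * ι (em z5) = 1
      rw [← map_mul, ← map_mul, VV_sq z5 (Or.inr (Or.inl rfl)), map_one, map_one]))
  have h5 := hT.centralizer_four (u := ⟨ι (em v5), hJv⟩) (x := ⟨q, hq⟩)
    (fun e => hv1 (hinj v5 1 (by rw [map_one, map_one]; exact congrArg Subtype.val e)))
    (Subtype.ext (by
      show ι (em v5) * ι (em v5) = 1
      rw [← map_mul, ← map_mul, VV_sq v5 (Or.inr (Or.inr (Or.inl rfl))), map_one, map_one]))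
    (fun e => hvz (hinj v5 z5 (congrArg Subtype.val e)))
    (Subtype.ext (by
      show ι (em v5) * ι (em z5) = ι (em z5) * ι (em v5)
      rw [← map_mul, ← map_mul, VV_comm v5 (Or.inr (Or.inr (Or.inl rfl))) z5 (Or.inr (Or.inl rfl)), map_mul, map_mul]))
    (Subtype.ext (hqu z5 (Or.inr (Or.inl rfl)))) (Subtype.ext (hqu v5 (Or.inr (Or.inr (Or.inl rfl)))))
  have h6 : ∃ a, q = ι (em a) := by
    rcases h5 with h5 | h5 | h5 | h5
    · exact ⟨1, by rw [map_one, map_one]; exact congrArg Subtype.val h5⟩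
    · exact ⟨z5, congrArg Subtype.val h5⟩
    · exact ⟨v5, congrArg Subtype.val h5⟩
    · exact ⟨z5 * v5, by rw [map_mul, map_mul]; exact congrArg Subtype.val h5⟩
  obtain ⟨a, ha⟩ := h6
  rw [ha, t_comm' h] at hqt
  exact hz1 (hinj z5 1 (by rw [map_one, map_one]; exact mul_eq_left.1 hqt.symm))

/-! ### The component `J` of `C(s) ∩ C(t)` -/

/-- `J = ι (Alt {0,1,2,3,6})` -/
def JJ (ι : S7 →* G) : Subgroup G := (alternatingGroup (Fin 5)).map (ι.comp em)

theorem mem_JJ {x : G} : x ∈ JJ ι ↔ ∃ a, Perm.sign a = 1 ∧ ι (em a) = x := by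
  constructor
  · rintro ⟨a, ha, rfl⟩
    exact ⟨a, Perm.mem_alternatingGroup.1 ha, rfl⟩
  · rintro ⟨a, ha, rfl⟩
    exact ⟨a, Perm.mem_alternatingGroup.2 ha, rfl⟩

theorem em_comm (a : Perm (Fin 5)) : em a * swap 4 5 = swap 4 5 * em a := by
  have h1 : em a * swap 4 5 * (em a)⁻¹ = swap (em a 4) (em a 5) := by
    rw [Equiv.swap_apply_apply]
  rw [em_fix a (Or.inl rfl), em_fix a (Or.inr rfl)] at h1
  exact mul_inv_eq_iff_eq_mul.1 h1

theorem quasi (h : Spl t ι) : IsQuasisimple ↥(JJ ι) := by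
  have hs : IsSimpleGroup (alternatingGroup (Fin 5)) := alternatingGroup.isSimpleGroup (by simp)
  have hna : ¬ IsMulCommutative (alternatingGroup (Fin 5)) := by
    rintro ⟨⟨hc⟩⟩
    have h1 : z5 * r5 = r5 * z5 := congrArg Subtype.val
      (hc ⟨z5, Perm.mem_alternatingGroup.2 (by decide +kernel)⟩ ⟨r5, Perm.mem_alternatingGroup.2 (by decide +kernel)⟩)
    exact absurd h1 (by decide +kernel)
  exact Components.isQuasisimple_of_mulEquiv
    ((alternatingGroup (Fin 5)).equivMapOfInjective (ι.comp em) (h.inj.comp em_inj))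
    (FixBN.BTheorem.isQuasisimple_of_simple hna)

theorem two_dvd (h : Spl t ι) : 2 ∣ Nat.card (JJ ι) := by
  have h1 : Nat.card (JJ ι) = Nat.card (alternatingGroup (Fin 5)) :=
    (Nat.card_congr ((alternatingGroup (Fin 5)).equivMapOfInjective (ι.comp em) (h.inj.comp em_inj)).toEquiv).symm
  rw [h1, nat_card_alternatingGroup, Nat.card_fin]
  exact ⟨30, by simp [Nat.factorial]⟩

/-- the centraliser of `s` and `t` normalises `J` -/
theorem norm_JJ (h : Spl t ι) {g : G} (hgs : g * ι (swap 4 5) = ι (swap 4 5) * g) (hgt : g * t = t * g) {x : G}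
    (hx : x ∈ JJ ι) : g * x * g⁻¹ ∈ JJ ι := by
  obtain ⟨b, hb, rfl⟩ := mem_JJ.1 hx
  obtain ⟨a, ha⟩ := h.cases hgt
  have key : a * swap 4 5 = swap 4 5 * a := by
    apply h.inj
    rw [map_mul, map_mul]
    rcases ha with ha | ha
    · rw [← ha]; exact hgs
    · rw [ha] at hgs
      apply mul_left_cancel (a := t)
      calc t * (ι a * ι (swap 4 5)) = t * ι a * ι (swap 4 5) := by group
        _ = ι (swap 4 5) * (t * ι a) := hgs
        _ = (ι (swap 4 5) * t) * ι a := by group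
        _ = t * (ι (swap 4 5) * ι a) := by rw [h.comm' (swap 4 5)]; group
  obtain ⟨b', hb'⟩ := conj_em key b
  have hsb : Perm.sign b' = 1 := by
    rw [← sign_em, hb', map_mul, map_mul, map_inv, sign_em, hb, mul_one, mul_inv_cancel]
  rw [mem_JJ]
  refine ⟨b', hsb, ?_⟩
  rw [hb', map_mul, map_mul, map_inv]
  rcases ha with ha | ha
  · rw [ha]
  · rw [ha]
    have e := h.comm' a
    have e2 : t * ι (em b) * t⁻¹ = ι (em b) := by rw [h.comm (em b)]; group
    calc ι a * ι (em b) * (ι a)⁻¹ = ι a * (t * ι (em b) * t⁻¹) * (ι a)⁻¹ := by rw [e2]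
      _ = (ι a * t) * ι (em b) * (ι a * t)⁻¹ := by group
      _ = t * ι a * ι (em b) * (t * ι a)⁻¹ := by rw [e]

theorem orderOf_s (h : Spl t ι) : orderOf (ι (swap 4 5)) = 2 := by
  rw [orderOf_injective ι h.inj]
  exact orderOf_eq_prime (by rw [pow_two, swap_mul_self]) (by decide)

theorem orderOf_t (h : Spl t ι) : orderOf t = 2 := orderOf_eq_prime (by rw [pow_two, h.tt]) h.t1

/-- the pump-up -/
theorem exists_pump [Finite G] (hB : BL G) (h : Spl t ι) :
    ∃ D : Subgroup G, Comp (ι (swap 4 5)) D ∧ (JJ ι = D ∨ JJ ι < D ∨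
      (cj t D ≠ D ∧ (∀ d ∈ D, d * (t * d * t⁻¹) ∈ JJ ι) ∧ ∀ k ∈ JJ ι, ∃ d ∈ D, k = d * (t * d * t⁻¹))) := by
  set Y : Subgroup G := centralizer ({ι (swap 4 5)} : Set G) with hY
  have htY : t ∈ Y := mem_cs.mpr (h.comm _)
  have hJY : JJ ι ≤ Y := by
    intro k hk
    obtain ⟨a, -, rfl⟩ := mem_JJ.1 hk
    rw [mem_cs, ← map_mul, ← map_mul, em_comm]
  have h1 : Comp (⟨t, htY⟩ : Y) ((JJ ι).subgroupOf Y) := by
    have hle : (JJ ι).subgroupOf Y ≤ centralizer ({(⟨t, htY⟩ : Y)} : Set Y) := by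
      intro k hk
      rw [mem_cs]
      obtain ⟨a, -, ha⟩ := mem_JJ.1 (mem_subgroupOf.1 hk)
      apply Subtype.ext
      show (k : G) * t = t * k
      rw [← ha]
      exact h.comm' _
    refine ⟨hle, ?_, ?_⟩
    · have hn : (((JJ ι).subgroupOf Y).subgroupOf (centralizer ({(⟨t, htY⟩ : Y)} : Set Y))).Normal := by
        refine ⟨fun x hx g => ?_⟩
        rw [mem_subgroupOf, mem_subgroupOf] at hx ⊢
        have hg1 : ((g : Y) : G) * ι (swap 4 5) = ι (swap 4 5) * ((g : Y) : G) := mem_cs.1 (g : Y).2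
        have hg2 : ((g : Y) : G) * t = t * ((g : Y) : G) := congrArg Subtype.val (mem_cs.1 g.2)
        exact norm_JJ h hg1 hg2 hx
      exact hn.isSubnormal
    · have e1 := Subgroup.subgroupOfEquivOfLe hle
      have e2 := Subgroup.subgroupOfEquivOfLe hJY
      exact Components.isQuasisimple_of_mulEquiv (e1.trans e2).symm (quasi h)
  have hx' : orderOf (⟨t, htY⟩ : Y) = 2 := by rw [Subgroup.orderOf_mk, orderOf_t h]
  have h2 : 2 ∣ Nat.card ((JJ ι).subgroupOf Y) := by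
    rw [Nat.card_congr (Subgroup.subgroupOfEquivOfLe hJY).toEquiv]
    exact two_dvd h
  have h3 := le_layer (hB _ (orderOf_s h)) hx' h1 h2
  have hsq : (⟨t, htY⟩ : Y) * ⟨t, htY⟩ = 1 := Subtype.ext h.tt
  obtain ⟨D, hD, hcase⟩ := trichotomy_of_le_layer (⟨t, htY⟩ : Y) hsq ((JJ ι).subgroupOf Y) h1 h3
  refine ⟨D.map Y.subtype, comp_map hD, ?_⟩
  have hKm : ((JJ ι).subgroupOf Y).map Y.subtype = JJ ι := Subgroup.map_subgroupOf_eq_of_le hJY
  rcases hcase with h | h | ⟨h4, h5, h6⟩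
  · left
    rw [← h, hKm]
  · right; left
    have := (Subgroup.map_lt_map_iff_of_injective (Subgroup.subtype_injective Y)).mpr h
    rwa [hKm] at this
  · right; right
    refine ⟨?_, ?_, ?_⟩
    · intro h7
      apply h4
      have h8 := cj_map_subtype D (⟨t, htY⟩ : Y)
      change (cj (⟨t, htY⟩ : Y) D).map Y.subtype = cj t (D.map Y.subtype) at h8
      rw [h7] at h8
      exact Subgroup.map_injective (Subgroup.subtype_injective Y) h8
    · rintro _ ⟨d, hd, rfl⟩
      exact h5 d hd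
    · intro k hk
      obtain ⟨d, hd, hkd⟩ := h6 ⟨k, hJY hk⟩ hk
      exact ⟨d, ⟨d, hd, rfl⟩, congrArg Subtype.val hkd⟩

/-- a component of `C(s)` containing `J` is normalised by `p` -/
theorem cj_eq_of_le (h : Spl t ι) (P : Pel t ι p) {D : Subgroup G} (hD : Comp (ι (swap 4 5)) D)
    (hJD : JJ ι ≤ D) : cj p D = D := by
  by_contra hne
  have h1 := hD.comm (hD.conj_of_comm P.s) (fun e => hne e.symm)
  have hz : ι (em z5) ∈ D := hJD (mem_JJ.2 ⟨z5, by decide +kernel, rfl⟩)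
  have hz' : ι (em z5) ∈ cj p D := by
    have h2 := conj_mem_cj (g := p) hz
    have h3 : p * ι (em z5) * p⁻¹ = ι (em z5) := by
      rw [comm_V P (Or.inr (Or.inl rfl))]; group
    rwa [h3] at h2
  have hr : ι (em r5) ∈ D := hJD (mem_JJ.2 ⟨r5, r5_sign, rfl⟩)
  have h4 := comm_elt h1 hr hz'
  rw [← map_mul, ← map_mul, ← map_mul, ← map_mul] at h4
  exact absurd (em_inj (h.inj h4)) (by decide +kernel)

end Diag

open Diag Five in
/-- **(3a)-(3c)**: some component `D` of `C(s)`, `s = ι (4 5)`, is moved by `t`, and `J` is the diagonal of `D × Dᵗ`. -/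
theorem exists_diag {G : Type*} [Group G] [Finite G] {t p : G} {ι : S7 →* G} (hB : BL G) (h : Spl t ι)
    (P : Pel t ι p)
    (hmax : ∀ L : Subgroup G, Comp (ι (swap 4 5)) L → ¬ Iface.IsL2o ↥L → Nat.card L ≤ 2520) :
    ∃ D : Subgroup G, Comp (ι (swap 4 5)) D ∧ cj t D ≠ D ∧ (∀ d ∈ D, d * (t * d * t⁻¹) ∈ JJ ι) ∧
      ∀ k ∈ JJ ι, ∃ d ∈ D, k = d * (t * d * t⁻¹) := by
  obtain ⟨D, hD, hcase⟩ := Diag.exists_pump hB h
  have key : JJ ι ≤ D → False := by
    intro hJD
    have h1 : ∀ a, Perm.sign a = 1 → ι (em a) ∈ D := fun a ha => hJD (mem_JJ.2 ⟨a, ha, rfl⟩)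
    have h2 := cj_eq_of_le h P hD hJD
    have h3 : ∀ x ∈ D, p * x * p⁻¹ ∈ D := by
      intro x hx
      have := conj_mem_cj (g := p) hx
      rwa [h2] at this
    have h4 := hmax D hD (not_L2 h P h1 h3)
    have h5 := card_ge h P h1 h3
    omega
  rcases hcase with hc | hc | ⟨h1, h2, h3⟩
  · exact (key hc.le).elim
  · exact (key hc.le).elim
  · exact ⟨D, hD, h1, h2, h3⟩

open Diag Five in
/-- The same, for the standard component `K ≅ A₇`. -/
theorem exists_diag_of_std {G : Type*} [Group G] [Finite G] {t p : G} {ι : S7 →* G} (hB : BL G) (h : Spl t ι)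
    (P : Pel t ι p) {K : Subgroup G} (S : Iface.Std G K) (e : ↥K ≃* ↥(alternatingGroup (Fin 7))) :
    ∃ D : Subgroup G, Comp (ι (swap 4 5)) D ∧ cj t D ≠ D ∧ (∀ d ∈ D, d * (t * d * t⁻¹) ∈ JJ ι) ∧
      ∀ k ∈ JJ ι, ∃ d ∈ D, k = d * (t * d * t⁻¹) := by
  apply exists_diag hB h P
  intro L hL hna
  have h1 := S.max _ L (orderOf_s h) ⟨hL.le, hL.comp⟩ (fun hc => absurd hc hna)
  have h2 : Nat.card K = 2520 := by
    rw [Nat.card_congr e.toEquiv, nat_card_alternatingGroup]
    simp [Nat.factorial]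
  omega

end Cfsg.Agent.OddHalf.D5.Seven
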