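import Cfsg.Agent.OddHalf.D5.Seven.Fusion
import Cfsg.Agent.OddHalf.D5.Seven.Diag

/-!
# ODD half, D5, `K = A₇`: the fusion element in the form of `Diag.lean`
-/

set_option autoImplicit false

namespace Cfsg.Agent.OddHalf.D5.Seven

variable {G : Type*} [Group G] {t : G} {ι : S7 →* G}

/-- Pattern ALL gives the element `p` of `Diag.exists_diag`. -/
theorem exists_pel (h : All t ι) : ∃ p, Pel t ι p := by
  obtain ⟨p, h1, h2, h3, h4⟩ := h.exists_p
  refine ⟨p, ⟨h4.eq, h2.eq, h3.eq, ?_⟩⟩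
  rw [h1.eq, mul_inv_cancel_right]
  rfl

end Cfsg.Agent.OddHalf.D5.Seven
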