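import Cfsg.Agent.OddHalf.D5.Rows
import Cfsg.Agent.OddHalf.D5.Seven.Front
import Cfsg.Agent.OddHalf.D5.Seven.Clean
import Cfsg.Agent.OddHalf.D5.Seven.PelEx
import Cfsg.Agent.OddHalf.D5.Seven.Pattern
import Cfsg.Agent.OddHalf.D5.Seven.ParityEnd
import Cfsg.Agent.OddHalf.D3.Plug

/-!
# ODD D5: the rows `n = 7` (helper905, with helper307 and helper858)
-/

set_option autoImplicit false

namespace Cfsg.Agent.OddHalf.D5

open Subgroup Equiv Cfsg Cfsg.Agent.OddHalf.Iface

universe u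

/-- `C_G(t) = ⟨t⟩ × A₇` -/
theorem clean7 : CleanRow.{u} (· = 7) := by
  intro G _ n t φ K hn R ι hs _ _
  have hn' : n = 7 := hn
  subst hn'
  haveI := R.ctx.fin
  exact R.ctx.sect5 (Seven.Clean.rank_four hs)

/-- `C_G(t) = ⟨t⟩ × S₇` -/
theorem sym7 : SymRow.{u} (· = 7) := by
  intro G _ n t φ K hn R ι hs hK hφ
  have hn' : n = 7 := hn
  subst hn'
  haveI := R.ctx.fin
  obtain ⟨j, hj⟩ : ∃ j : Perm (Fin 7) →* G, ∀ a, j a = ι ⟨a, mem_top a⟩ :=
    ⟨ι.comp (topEquiv (G := Perm (Fin 7))).symm.toMonoidHom, fun _ => rfl⟩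
  have h : Seven.Spl t j :=
    { tt := hs.tt
      t1 := hs.t1
      inj := by
        intro a b e
        rw [hj, hj] at e
        exact congrArg Subtype.val (hs.inj e)
      comm := fun a => by rw [hj]; exact hs.comm _
      cent := by
        intro g hg
        rcases hs.cent g hg with ⟨a, ha⟩ | ⟨a, ha⟩
        · exact Or.inl ⟨a, by rw [hj]; exact ha⟩
        · exact Or.inr ⟨a, by rw [hj]; exact ha⟩
      ne := fun a => by rw [hj]; exact hs.ne _ }
  have disj : ∀ a : Seven.S7, Perm.sign a = 1 → ¬ IsConj t (j a) := by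
    intro a ha hc
    obtain ⟨g, hg⟩ := isConj_iff.1 hc
    apply R.disj g
    rw [hg, hj]
    exact hK _ (Perm.mem_alternatingGroup.2 ha)
  have hcard : Nat.card K = 2520 := by
    obtain ⟨hsh, hr⟩ := Seven.shape0_of_spl R.gen le_top hs hK hφ
    rw [← hr, ← Nat.card_congr (MonoidHom.ofInjective hsh.inj).toEquiv, nat_card_alternatingGroup, Nat.card_fin]
    simp [Nat.factorial]
  obtain ⟨ι', A⟩ := Seven.exists_all R.index R.ctx.sect5 h disj
  obtain ⟨p, P⟩ := Seven.exists_pel A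
  obtain ⟨D, h1, h2, -, h3⟩ := Seven.exists_diag (D3.Plug.bl_of_bal R.ctx.bal) A.toSpl P (by
    intro L hL hna
    have h4 := R.std.max _ L (Seven.Diag.orderOf_s A.toSpl) ⟨hL.le, hL.comp⟩ (fun hc => absurd hc hna)
    rwa [hcard] at h4)
  exact Seven.false_of_diag R.index A h1 h2 h3

end Cfsg.Agent.OddHalf.D5
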