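import Cfsg.Agent.OddHalf.D5.Seven.Five
import Cfsg.Agent.OddHalf.D5.TForm
import Cfsg.Agent.Lib.ModFour

/-!
# ODD D5, `n = 7`: counting the conjugates of `t` in `C(t) = ⟨t⟩ × S₇` (helper905; text: bb ODD 9179, helper307)
-/

set_option autoImplicit false

namespace Cfsg.Agent.OddHalf.D5.Seven.Count

open Subgroup Equiv Cfsg Cfsg.Agent.OddHalf.D3

variable {G : Type*} [Group G] {t : G} {ι : S7 →* G}

/-! ### `C(t) = ℤˣ × S₇` -/

/-- the isomorphism `ℤˣ × S₇ → C(t)` -/
theorem exists_equiv (h : Spl t ι) :
    ∃ E : ℤˣ × S7 ≃* centralizer ({t} : Set G), ∀ x, (E x : G) = (if x.1 = 1 then 1 else t) * ι x.2 := by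
  classical
  have h1 : (-1 : ℤˣ) ≠ 1 := by decide
  have h2 : (-1 : ℤˣ) * -1 = 1 := by decide
  let f : ℤˣ × S7 →* G :=
    { toFun := fun x => (if x.1 = 1 then 1 else t) * ι x.2
      map_one' := by simp
      map_mul' := by
        rintro ⟨e, a⟩ ⟨e', b⟩
        rcases Int.units_eq_one_or e with he | he <;> rcases Int.units_eq_one_or e' with he' | he'
        · simp [he, he']
        · simp only [he, he', Prod.mk_mul_mk, one_mul, if_neg h1, if_true, map_mul]
          rw [← mul_assoc, h.comm a, mul_assoc]
        · simp only [he, he', Prod.mk_mul_mk, one_mul, mul_one, if_neg h1, if_true, map_mul, mul_assoc]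
        · simp only [he, he', Prod.mk_mul_mk, one_mul, if_neg h1, if_true, map_mul, h2]
          calc ι a * ι b = (t * t) * ι a * ι b := by rw [h.tt, one_mul]
            _ = t * (t * ι a) * ι b := by group
            _ = t * (ι a * t) * ι b := by rw [h.comm a]
            _ = t * ι a * (t * ι b) := by group }
  have hf : ∀ x, f x = (if x.1 = 1 then 1 else t) * ι x.2 := fun _ => rfl
  have hmem : ∀ x, f x ∈ centralizer ({t} : Set G) := by
    rintro ⟨e, a⟩
    rw [mem_centralizer_singleton_iff, hf]
    rcases Int.units_eq_one_or e with he | he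
    · simp only [he, if_true, one_mul]; exact h.comm' a
    · simp only [he, if_neg h1]
      rw [mul_assoc, ← h.comm a]
  let F : ℤˣ × S7 →* centralizer ({t} : Set G) := f.codRestrict _ hmem
  have hFc : ∀ x, (F x : G) = (if x.1 = 1 then 1 else t) * ι x.2 := fun _ => rfl
  have hF : Function.Bijective F := by
    constructor
    · rintro ⟨e, a⟩ ⟨e', b⟩ hab
      have hab' : (F (e, a) : G) = F (e', b) := congrArg Subtype.val hab
      rw [hFc, hFc] at hab'
      rcases Int.units_eq_one_or e with he | he <;> rcases Int.units_eq_one_or e' with he' | he'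
      · simp only [he, he', if_true, one_mul] at hab'
        rw [he, he', h.inj hab']
      · simp only [he, he', if_true, one_mul, if_neg h1] at hab'
        exact absurd hab' (h.tne _ _)
      · simp only [he, he', if_true, one_mul, if_neg h1] at hab'
        exact absurd hab'.symm (h.tne _ _)
      · simp only [he, he', if_neg h1] at hab'
        rw [he, he', h.inj (mul_left_cancel hab')]
    · rintro ⟨x, hx⟩
      obtain ⟨a, ha | ha⟩ := h.cases (mem_centralizer_singleton_iff.1 hx)
      · refine ⟨(1, a), Subtype.ext ?_⟩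
        rw [hFc, if_pos rfl, one_mul]
        exact ha.symm
      · refine ⟨(-1, a), Subtype.ext ?_⟩
        rw [hFc, if_neg h1]
        exact ha.symm
  exact ⟨MulEquiv.ofBijective F hF, hFc⟩

theorem card_cent (h : Spl t ι) : Nat.card (centralizer ({t} : Set G)) = 10080 := by
  obtain ⟨E, -⟩ := exists_equiv h
  rw [← Nat.card_congr E.toEquiv, Nat.card_prod, Nat.card_perm, Nat.card_eq_fintype_card, Nat.card_fin]
  simp [Nat.factorial]

/-! ### Types -/

/-- `(4 5)` -/
def e1 : S7 := swap 4 5
/-- `(0 1)(2 3)` -/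
def e2 : S7 := swap 0 1 * swap 2 3
/-- `(0 1)(2 3)(4 5)` -/
def e3 : S7 := swap 0 1 * swap 2 3 * swap 4 5

theorem ct1 : e1.cycleType = {2} := Perm.isSwap_iff_cycleType.1 ⟨4, 5, by decide, rfl⟩

theorem ct2 : e2.cycleType = {2, 2} := by
  have hd : Perm.Disjoint (swap 0 1 : S7) (swap 2 3) := by
    rw [Perm.disjoint_iff_disjoint_support, Perm.support_swap (by decide), Perm.support_swap (by decide)]
    decide
  rw [e2, hd.cycleType_mul, Perm.isSwap_iff_cycleType.1 ⟨0, 1, by decide, rfl⟩,
    Perm.isSwap_iff_cycleType.1 ⟨2, 3, by decide, rfl⟩]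
  rfl

theorem ct3 : e3.cycleType = {2, 2, 2} := by
  have hd : Perm.Disjoint (swap 0 1 * swap 2 3 : S7) (swap 4 5) := by
    intro x
    revert x
    decide
  have h2 := ct2
  rw [e2] at h2
  rw [e3, hd.cycleType_mul, h2, Perm.isSwap_iff_cycleType.1 ⟨4, 5, by decide, rfl⟩]
  rfl

theorem card1 : (Finset.univ.filter (fun a : S7 => a.cycleType = {2})).card = 21 := by
  rw [Perm.card_of_cycleType]; simp [Nat.factorial]

theorem card2 : (Finset.univ.filter (fun a : S7 => a.cycleType = {2, 2})).card = 105 := by
  rw [Perm.card_of_cycleType]; simp [Nat.factorial]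

theorem card3 : (Finset.univ.filter (fun a : S7 => a.cycleType = {2, 2, 2})).card = 105 := by
  rw [Perm.card_of_cycleType]; simp [Nat.factorial]

theorem type_of_sq {a : S7} (ha : a * a = 1) :
    a = 1 ∨ a.cycleType = {2} ∨ a.cycleType = {2, 2} ∨ a.cycleType = {2, 2, 2} := by
  by_cases ha1 : a = 1
  · exact Or.inl ha1
  right
  have ho : orderOf a = 2 := orderOf_eq_prime (by rw [pow_two, ha]) ha1
  obtain ⟨n, hn⟩ := Perm.cycleType_prime_order (σ := a) (by rw [ho]; exact Nat.prime_two)
  rw [ho] at hn
  have h7 := Perm.sum_cycleType_le a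
  rw [hn] at h7
  simp only [Multiset.sum_replicate, smul_eq_mul, Fintype.card_fin] at h7
  have h012 : n = 0 ∨ n = 1 ∨ n = 2 := by omega
  rcases h012 with rfl | rfl | rfl
  · exact Or.inl hn
  · exact Or.inr (Or.inl hn)
  · exact Or.inr (Or.inr hn)

/-- a class function counted by types -/
theorem card_types (P : S7 → Prop) [DecidablePred P] (hP : ∀ a, P a → a * a = 1)
    (hc : ∀ a b, a.cycleType = b.cycleType → P a → P b) [Decidable (P 1)] [Decidable (P e1)] [Decidable (P e2)]
    [Decidable (P e3)] :
    (Finset.univ.filter P).card = (if P 1 then 1 else 0) + (if P e1 then 21 else 0) +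
      (if P e2 then 105 else 0) + (if P e3 then 105 else 0) := by
  have n01 : (1 : S7).cycleType ≠ e1.cycleType := by rw [ct1, Perm.cycleType_one]; decide
  have n02 : (1 : S7).cycleType ≠ e2.cycleType := by rw [ct2, Perm.cycleType_one]; decide
  have n03 : (1 : S7).cycleType ≠ e3.cycleType := by rw [ct3, Perm.cycleType_one]; decide
  have n12 : e1.cycleType ≠ e2.cycleType := by rw [ct1, ct2]; decide
  have n13 : e1.cycleType ≠ e3.cycleType := by rw [ct1, ct3]; decide
  have n23 : e2.cycleType ≠ e3.cycleType := by rw [ct2, ct3]; decide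
  have key : ∀ a : S7, (if P a then 1 else 0) =
      (if a = 1 then (if P 1 then 1 else 0) else 0) +
      (if a.cycleType = e1.cycleType then (if P e1 then 1 else 0) else 0) +
      (if a.cycleType = e2.cycleType then (if P e2 then 1 else 0) else 0) +
      (if a.cycleType = e3.cycleType then (if P e3 then 1 else 0) else 0) := by
    intro a
    by_cases ha : a * a = 1
    · have ht := type_of_sq ha
      rw [← ct3, ← ct2, ← ct1] at ht
      rcases ht with h | h | h | h
      · rw [h, if_pos rfl, if_neg n01, if_neg n02, if_neg n03]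
        simp
      · have h1 : a ≠ 1 := by
          rintro rfl
          exact n01 h
        have h2 : P a ↔ P e1 := ⟨hc _ _ h, hc _ _ h.symm⟩
        rw [if_neg h1, h, if_pos rfl, if_neg n12, if_neg n13]
        simp [h2]
      · have h1 : a ≠ 1 := by
          rintro rfl
          exact n02 h
        have h2 : P a ↔ P e2 := ⟨hc _ _ h, hc _ _ h.symm⟩
        rw [if_neg h1, h, if_neg n12.symm, if_pos rfl, if_neg n23]
        simp [h2]
      · have h1 : a ≠ 1 := by
          rintro rfl
          exact n03 h
        have h2 : P a ↔ P e3 := ⟨hc _ _ h, hc _ _ h.symm⟩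
        rw [if_neg h1, h, if_neg n13.symm, if_neg n23.symm, if_pos rfl]
        simp [h2]
    · have h0 : ¬ P a := fun h => ha (hP a h)
      have h1 : a ≠ 1 := by
        rintro rfl
        exact ha (one_mul 1)
      have hsq : ∀ b : S7, b * b = 1 → a.cycleType ≠ b.cycleType := by
        intro b hb e
        obtain ⟨c, hc'⟩ := isConj_iff.1 (Perm.isConj_iff_cycleType_eq.2 e.symm)
        apply ha
        rw [← hc']
        calc c * b * c⁻¹ * (c * b * c⁻¹) = c * (b * b) * c⁻¹ := by group
          _ = 1 := by rw [hb]; group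
      rw [if_neg h0, if_neg h1, if_neg (hsq e1 (by decide)), if_neg (hsq e2 (by decide)), if_neg (hsq e3 (by decide))]
  have hs : ∀ (Q : S7 → Prop) [DecidablePred Q] (n : ℕ), (∑ a : S7, if Q a then n else 0) =
      (Finset.univ.filter Q).card * n := by
    intro Q _ n
    rw [← Finset.sum_filter, Finset.sum_const, smul_eq_mul]
  rw [Finset.card_filter, Finset.sum_congr rfl (fun a _ => key a), Finset.sum_add_distrib, Finset.sum_add_distrib,
    Finset.sum_add_distrib, hs, hs, hs, hs, ct1, ct2, ct3, card1, card2, card3]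
  have h1 : (Finset.univ.filter (fun a : S7 => a = 1)).card = 1 := by
    rw [Finset.filter_eq']; simp
  rw [h1]
  simp

/-! ### The conjugates of `t` -/

theorem conj_iota {a b : S7} (e : a.cycleType = b.cycleType) (ha : IsConj t (ι a)) : IsConj t (ι b) := by
  obtain ⟨c, rfl⟩ := isConj_iff.1 (Perm.isConj_iff_cycleType_eq.2 e)
  refine ha.trans (isConj_iff.2 ⟨ι c, ?_⟩)
  rw [map_mul, map_mul, map_inv]

theorem conj_t_iota (h : Spl t ι) {a b : S7} (e : a.cycleType = b.cycleType) (ha : IsConj t (t * ι a)) :
    IsConj t (t * ι b) := by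
  obtain ⟨c, rfl⟩ := isConj_iff.1 (Perm.isConj_iff_cycleType_eq.2 e)
  refine ha.trans (isConj_iff.2 ⟨ι c, ?_⟩)
  rw [map_mul, map_mul, map_inv]
  calc ι c * (t * ι a) * (ι c)⁻¹ = (ι c * t) * ι a * (ι c)⁻¹ := by group
    _ = t * (ι c * ι a * (ι c)⁻¹) := by rw [h.comm' c]; group

theorem sq_of_conj {y : G} (h : Spl t ι) (hy : IsConj t y) : y * y = 1 := by
  obtain ⟨c, rfl⟩ := isConj_iff.1 hy
  calc c * t * c⁻¹ * (c * t * c⁻¹) = c * (t * t) * c⁻¹ := by group
    _ = 1 := by rw [h.tt]; group

theorem sq_iota (h : Spl t ι) {a : S7} (ha : IsConj t (ι a)) : a * a = 1 := by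
  apply h.inj
  rw [map_mul, map_one]
  exact sq_of_conj h ha

theorem sq_t_iota (h : Spl t ι) {a : S7} (ha : IsConj t (t * ι a)) : a * a = 1 := by
  apply h.inj
  rw [map_mul, map_one]
  have h1 := sq_of_conj h ha
  calc ι a * ι a = (t * t) * (ι a * ι a) := by rw [h.tt, one_mul]
    _ = t * (t * ι a) * ι a := by group
    _ = t * (ι a * t) * ι a := by rw [h.comm a]
    _ = 1 := by rw [← h1]; group

theorem not_conj_one (h : Spl t ι) : ¬ IsConj t (ι 1) := by
  intro hc
  rw [map_one] at hc
  obtain ⟨c, hc⟩ := isConj_iff.1 hc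
  apply h.t1
  rw [mul_inv_eq_one] at hc
  exact mul_eq_left.1 hc

open Classical in
/-- the number of `a` with `t ι a` conjugate to `t` -/
theorem card_A (h : Spl t ι) : (Finset.univ.filter (fun a : S7 => IsConj t (t * ι a))).card =
    1 + (if IsConj t (t * ι e1) then 21 else 0) + (if IsConj t (t * ι e2) then 105 else 0) +
      (if IsConj t (t * ι e3) then 105 else 0) := by
  rw [card_types (fun a : S7 => IsConj t (t * ι a)) (fun a => sq_t_iota h) (fun a b => conj_t_iota h)]
  rw [if_pos]
  rw [map_one, mul_one]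

open Classical in
/-- the number of `a` with `ι a` conjugate to `t` -/
theorem card_B (h : Spl t ι) (disj : ∀ a, Perm.sign a = 1 → ¬ IsConj t (ι a)) :
    (Finset.univ.filter (fun a : S7 => IsConj t (ι a))).card =
    (if IsConj t (ι e1) then 21 else 0) + (if IsConj t (ι e3) then 105 else 0) := by
  rw [card_types (fun a : S7 => IsConj t (ι a)) (fun a => sq_iota h) (fun a b => conj_iota),
    if_neg (disj 1 (by simp)), if_neg (disj e2 (by decide))]
  omega

open Classical in
theorem even_A [Finite G] (hG : ∀ H : Subgroup G, H.index ≠ 2) (h : Spl t ι) :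
    Even (1 + (if IsConj t (t * ι e1) then 21 else 0) + (if IsConj t (t * ι e2) then 105 else 0) +
      (if IsConj t (t * ι e3) then 105 else 0)) := by
  obtain ⟨E, hE⟩ := exists_equiv h
  have h1 : (-1 : ℤˣ) ≠ 1 := by decide
  have h2 := TForm.even_card_hom hG h.tt ((MonoidHom.fst ℤˣ S7).comp E.symm.toMonoidHom)
  rw [← card_A h]
  have e : {x : centralizer ({t} : Set G) // (MonoidHom.fst ℤˣ S7).comp E.symm.toMonoidHom x = -1 ∧ IsConj t (x : G)} ≃
      {a : S7 // a ∈ Finset.univ.filter (fun a : S7 => IsConj t (t * ι a))} :=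
    { toFun := fun x => ⟨(E.symm x.1).2, by
        rw [Finset.mem_filter]
        refine ⟨Finset.mem_univ _, ?_⟩
        have h3 := hE (E.symm x.1)
        rw [E.apply_symm_apply, if_neg (by
          have h4 : (E.symm x.1).1 = -1 := x.2.1
          rw [h4]; exact h1)] at h3
        rw [← h3]
        exact x.2.2⟩
      invFun := fun a => ⟨E (-1, a.1), by
        refine ⟨?_, ?_⟩
        · show (E.symm (E (-1, a.1))).1 = -1
          rw [E.symm_apply_apply]
        · rw [hE, if_neg h1]
          exact (Finset.mem_filter.1 a.2).2⟩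
      left_inv := fun x => by
        apply Subtype.ext
        show E (-1, (E.symm x.1).2) = x.1
        have h4 : (E.symm x.1).1 = -1 := x.2.1
        have h5 : ((-1 : ℤˣ), (E.symm x.1).2) = E.symm x.1 := Prod.ext h4.symm rfl
        rw [h5, E.apply_symm_apply]
      right_inv := fun a => by
        apply Subtype.ext
        show (E.symm (E (-1, a.1))).2 = a.1
        rw [E.symm_apply_apply] }
  rw [Nat.card_congr e, Nat.card_eq_fintype_card, Fintype.card_coe] at h2
  exact h2

open Classical in
theorem even_B [Finite G] (hG : ∀ H : Subgroup G, H.index ≠ 2) (h : Spl t ι) :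
    Even (1 + (if IsConj t (ι e1) then 21 else 0) + (if IsConj t (t * ι e2) then 105 else 0) +
      (if IsConj t (ι e3) then 105 else 0)) := by
  obtain ⟨E, hE⟩ := exists_equiv h
  have h1 : (-1 : ℤˣ) ≠ 1 := by decide
  have h2 := TForm.even_card_hom hG h.tt
    ((MonoidHom.fst ℤˣ S7 * Perm.sign.comp (MonoidHom.snd ℤˣ S7)).comp E.symm.toMonoidHom)
  set P : S7 → Prop := fun a => (Perm.sign a = 1 ∧ IsConj t (t * ι a)) ∨ (Perm.sign a = -1 ∧ IsConj t (ι a)) with hP
  have hc : (Finset.univ.filter P).card = 1 + (if IsConj t (ι e1) then 21 else 0) +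
      (if IsConj t (t * ι e2) then 105 else 0) + (if IsConj t (ι e3) then 105 else 0) := by
    have s1 : Perm.sign e1 = -1 := by decide
    have s2 : Perm.sign e2 = 1 := by decide
    have s3 : Perm.sign e3 = -1 := by decide
    rw [card_types P ?_ ?_]
    · have p1 : P 1 ↔ True := by
        rw [hP]
        simp only [map_one, true_and, mul_one, iff_true]
        exact Or.inl (IsConj.refl t)
      have p2 : P e1 ↔ IsConj t (ι e1) := by
        rw [hP]; simp only [s1, h1, false_and, false_or, true_and]
      have p3 : P e2 ↔ IsConj t (t * ι e2) := by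
        rw [hP]; simp only [s2, h1.symm, false_and, or_false, true_and]
      have p4 : P e3 ↔ IsConj t (ι e3) := by
        rw [hP]; simp only [s3, h1, false_and, false_or, true_and]
      simp only [p1, p2, p3, p4, if_true]
    · rintro a (⟨-, ha⟩ | ⟨-, ha⟩)
      · exact sq_t_iota h ha
      · exact sq_iota h ha
    · intro a b e
      have hs : Perm.sign a = Perm.sign b := by
        obtain ⟨c, rfl⟩ := isConj_iff.1 (Perm.isConj_iff_cycleType_eq.2 e)
        rw [map_mul, map_mul, map_inv, mul_comm (Perm.sign c), mul_assoc, mul_inv_cancel, mul_one]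
      rintro (⟨h3, ha⟩ | ⟨h3, ha⟩)
      · exact Or.inl ⟨hs.symm.trans h3, conj_t_iota h e ha⟩
      · exact Or.inr ⟨hs.symm.trans h3, conj_iota e ha⟩
  rw [← hc]
  have key : ∀ x : ℤˣ × S7, (x.1 * Perm.sign x.2 = -1 ∧ IsConj t (E x : G)) ↔ (x.1 = -Perm.sign x.2 ∧ P x.2) := by
    rintro ⟨ε, a⟩
    rw [hE, hP]
    rcases Int.units_eq_one_or ε with he | he <;> rcases Int.units_eq_one_or (Perm.sign a) with ha | ha
    · simp [he, ha]
    · simp [he, ha]
    · simp [he, ha]
    · simp [he, ha]
  have e : {x : centralizer ({t} : Set G) // ((MonoidHom.fst ℤˣ S7 * Perm.sign.comp (MonoidHom.snd ℤˣ S7)).comp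
      E.symm.toMonoidHom) x = -1 ∧ IsConj t (x : G)} ≃ {a : S7 // a ∈ Finset.univ.filter P} :=
    { toFun := fun x => ⟨(E.symm x.1).2, by
        rw [Finset.mem_filter]
        refine ⟨Finset.mem_univ _, ?_⟩
        exact ((key (E.symm x.1)).1 ⟨x.2.1, by rw [E.apply_symm_apply]; exact x.2.2⟩).2⟩
      invFun := fun a => ⟨E (-Perm.sign a.1, a.1), by
        have h3 := (key (-Perm.sign a.1, a.1)).2 ⟨rfl, (Finset.mem_filter.1 a.2).2⟩
        refine ⟨?_, h3.2⟩
        show (E.symm (E (-Perm.sign a.1, a.1))).1 * Perm.sign (E.symm (E (-Perm.sign a.1, a.1))).2 = -1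
        rw [E.symm_apply_apply]
        exact h3.1⟩
      left_inv := fun x => by
        apply Subtype.ext
        show E (-Perm.sign (E.symm x.1).2, (E.symm x.1).2) = x.1
        have h4 := ((key (E.symm x.1)).1 ⟨x.2.1, by rw [E.apply_symm_apply]; exact x.2.2⟩).1
        rw [← h4, Prod.mk.eta, E.apply_symm_apply]
      right_inv := fun a => by
        apply Subtype.ext
        show (E.symm (E (-Perm.sign a.1, a.1))).2 = a.1
        rw [E.symm_apply_apply] }
  rw [Nat.card_congr e, Nat.card_eq_fintype_card, Fintype.card_coe] at h2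
  exact h2

open Classical in
theorem mod_four [Finite G] (hG : ∀ H : Subgroup G, H.index ≠ 2) (h : Spl t ι)
    (disj : ∀ a, Perm.sign a = 1 → ¬ IsConj t (ι a)) :
    (centralizer ({t} : Set G)).index ≡
      (1 + (if IsConj t (t * ι e1) then 21 else 0) + (if IsConj t (t * ι e2) then 105 else 0) +
      (if IsConj t (t * ι e3) then 105 else 0)) +
      ((if IsConj t (ι e1) then 21 else 0) + (if IsConj t (ι e3) then 105 else 0)) [MOD 4] := by
  have h1 := Lib.ModFour.card_conj_modEq hG t h.tt
  rw [Lib.ModFour.card_isConj] at h1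
  rw [← card_A h, ← card_B h disj]
  have h2 : Nat.card {y : G // IsConj t y ∧ y * t = t * y} =
      (Finset.univ.filter (fun a : S7 => IsConj t (t * ι a))).card +
      (Finset.univ.filter (fun a : S7 => IsConj t (ι a))).card := by
    obtain ⟨E, hE⟩ := exists_equiv h
    have h3 : (-1 : ℤˣ) ≠ 1 := by decide
    have e : {y : G // IsConj t y ∧ y * t = t * y} ≃ {x : ℤˣ × S7 // IsConj t (E x : G)} :=
      { toFun := fun y => ⟨E.symm ⟨y.1, mem_centralizer_singleton_iff.2 y.2.2⟩, by
          rw [E.apply_symm_apply]; exact y.2.1⟩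
        invFun := fun x => ⟨(E x.1 : G), x.2, mem_centralizer_singleton_iff.1 (E x.1).2⟩
        left_inv := fun y => by
          apply Subtype.ext
          show (E (E.symm ⟨y.1, _⟩) : G) = y.1
          rw [E.apply_symm_apply]
        right_inv := fun x => by
          apply Subtype.ext
          show E.symm ⟨(E x.1 : G), _⟩ = x.1
          rw [MulEquiv.symm_apply_eq] }
    have e2 : {x : ℤˣ × S7 // IsConj t (E x : G)} ≃
        {a : S7 // a ∈ Finset.univ.filter (fun a : S7 => IsConj t (t * ι a))} ⊕
        {a : S7 // a ∈ Finset.univ.filter (fun a : S7 => IsConj t (ι a))} :=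
      { toFun := fun x => if hx : x.1.1 = 1 then Sum.inr ⟨x.1.2, by
            rw [Finset.mem_filter]
            refine ⟨Finset.mem_univ _, ?_⟩
            have := x.2
            rwa [hE, if_pos hx, one_mul] at this⟩
          else Sum.inl ⟨x.1.2, by
            rw [Finset.mem_filter]
            refine ⟨Finset.mem_univ _, ?_⟩
            have := x.2
            rwa [hE, if_neg hx] at this⟩
        invFun := fun s => match s with
          | Sum.inl a => ⟨(-1, a.1), by
              rw [hE, if_neg h3]; exact (Finset.mem_filter.1 a.2).2⟩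
          | Sum.inr a => ⟨(1, a.1), by
              rw [hE, if_pos rfl, one_mul]; exact (Finset.mem_filter.1 a.2).2⟩
        left_inv := by
          rintro ⟨⟨ε, a⟩, hx⟩
          rcases Int.units_eq_one_or ε with he | he
          · subst he
            simp
          · subst he
            simp [h3]
        right_inv := by
          rintro (⟨a, ha⟩ | ⟨a, ha⟩)
          · simp [h3]
          · simp }
    rw [Nat.card_congr (e.trans e2), Nat.card_sum, Nat.card_eq_fintype_card, Nat.card_eq_fintype_card,
      Fintype.card_coe, Fintype.card_coe]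
  rw [← h2]
  exact h1

end Cfsg.Agent.OddHalf.D5.Seven.Count
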