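import Mathlib
import Cfsg.Agent.OddHalf.D3.Basic

/-!
# ODD D5, `n = 7` (`K = A₇`): interface (helper858)

Text: `blueprints/ODD-D5-n7-helper858.md`.

`Spl t ι` : `C_G(t) = ⟨t⟩ × ι(S₇)`. `All t ι` : moreover every `t ι(a)`, `a` an involution, is conjugate to `t`, no
`ι(a)` is. `Two t ι K₁` : input of the end of the proof (`K₁` and `K₂ = K₁ᵗ` commute, `k ↦ k kᵗ` is onto `ι(A₇)`).
-/

set_option autoImplicit false

namespace Cfsg.Agent.OddHalf.D5.Seven

open Subgroup Equiv Cfsg.Agent.OddHalf.D3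

/-- The symmetric group of degree seven. -/
abbrev S7 := Perm (Fin 7)

variable {G : Type*} [Group G]

/-- `C_G(t) = ⟨t⟩ × ι(S₇)`. -/
structure Spl (t : G) (ι : S7 →* G) : Prop where
  tt : t * t = 1
  t1 : t ≠ 1
  inj : Function.Injective ι
  comm : ∀ a, t * ι a = ι a * t
  cent : ∀ g, g * t = t * g → (∃ a, g = ι a) ∨ ∃ a, g = t * ι a
  ne : ∀ a, ι a ≠ t

/-- The pattern that survives: `t^G ∩ C_G(t) = {t} ∪ t I(ι(S₇))`. -/
structure All (t : G) (ι : S7 →* G) : Prop extends Spl t ι where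
  yes : ∀ a : S7, a * a = 1 → a ≠ 1 → IsConj t (t * ι a)
  no : ∀ a : S7, a * a = 1 → a ≠ 1 → ¬ IsConj t (ι a)

/-- The input of the end of the proof. -/
structure Two (t : G) (ι : S7 →* G) (K₁ : Subgroup G) : Prop where
  comm : ∀ x ∈ K₁, ∀ y ∈ K₁, x * (t * y * t⁻¹) = t * y * t⁻¹ * x
  perf : ⁅K₁, K₁⁆ = K₁
  norm : ∀ s, cj (ι s) K₁ = K₁
  mem : ∀ x ∈ K₁, ∃ s : S7, Perm.sign s = 1 ∧ x * (t * x * t⁻¹) = ι s
  ex : ∀ s : S7, Perm.sign s = 1 → ∃ x ∈ K₁, x * (t * x * t⁻¹) = ι s
  sw : ∃ g : G, g * t * g⁻¹ = t * ι (swap 0 1) ∧ cj g K₁ = K₁ ∧ cj g (cj t K₁) = cj t K₁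

namespace Spl

variable {t : G} {ι : S7 →* G}

theorem comm' (h : Spl t ι) (a : S7) : ι a * t = t * ι a := (h.comm a).symm

theorem t_inv (h : Spl t ι) : t⁻¹ = t := inv_eq_of_mul_eq_one_left h.tt

theorem tne (h : Spl t ι) (a b : S7) : ι a ≠ t * ι b := by
  intro e
  apply h.ne (a * b⁻¹)
  rw [map_mul, map_inv, e, mul_assoc, mul_inv_cancel, mul_one]

/-- an element of `C(t)` is `ι a` or `t ι a` -/
theorem cases (h : Spl t ι) {g : G} (hg : g * t = t * g) : ∃ a : S7, g = ι a ∨ g = t * ι a := by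
  rcases h.cent g hg with ⟨a, ha⟩ | ⟨a, ha⟩
  · exact ⟨a, Or.inl ha⟩
  · exact ⟨a, Or.inr ha⟩

theorem iota_eq_one (h : Spl t ι) {a : S7} (e : ι a = 1) : a = 1 := h.inj (e.trans (map_one ι).symm)

/-- transport by conjugation -/
theorem conj (h : Spl t ι) (x : G) : Spl (x * t * x⁻¹) ((MulAut.conj x).toMonoidHom.comp ι) where
  tt := by
    calc x * t * x⁻¹ * (x * t * x⁻¹) = x * (t * t) * x⁻¹ := by group
      _ = 1 := by rw [h.tt]; group
  t1 := by
    intro e
    apply h.t1
    rw [mul_inv_eq_one] at e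
    exact mul_eq_left.1 e
  inj := (MulAut.conj x).injective.comp h.inj
  comm := by
    intro a
    show x * t * x⁻¹ * (x * ι a * x⁻¹) = x * ι a * x⁻¹ * (x * t * x⁻¹)
    calc x * t * x⁻¹ * (x * ι a * x⁻¹) = x * (t * ι a) * x⁻¹ := by group
      _ = x * (ι a * t) * x⁻¹ := by rw [h.comm a]
      _ = x * ι a * x⁻¹ * (x * t * x⁻¹) := by group
  cent := by
    intro g hg
    have h1 : (x⁻¹ * g * x) * t = t * (x⁻¹ * g * x) := by
      calc (x⁻¹ * g * x) * t = x⁻¹ * (g * (x * t * x⁻¹)) * x := by group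
        _ = x⁻¹ * (x * t * x⁻¹ * g) * x := by rw [hg]
        _ = t * (x⁻¹ * g * x) := by group
    rcases h.cent _ h1 with ⟨a, ha⟩ | ⟨a, ha⟩
    · left
      refine ⟨a, ?_⟩
      show g = x * ι a * x⁻¹
      rw [← ha]; group
    · right
      refine ⟨a, ?_⟩
      show g = x * t * x⁻¹ * (x * ι a * x⁻¹)
      calc g = x * (x⁻¹ * g * x) * x⁻¹ := by group
        _ = x * t * x⁻¹ * (x * ι a * x⁻¹) := by rw [ha]; group
  ne := by
    intro a e
    apply h.ne a
    have e' : x * ι a * x⁻¹ = x * t * x⁻¹ := e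
    exact mul_left_cancel (mul_right_cancel e')

end Spl

/-- The other complement: `a ↦ t^{[a odd]} ι a`. -/
def twist (t : G) (h : t * t = 1) (ι : S7 →* G) (hc : ∀ a, t * ι a = ι a * t) : S7 →* G where
  toFun a := (if Perm.sign a = 1 then 1 else t) * ι a
  map_one' := by simp
  map_mul' := by
    intro a b
    have hne : (-1 : ℤˣ) ≠ 1 := by decide
    have hmm : (-1 : ℤˣ) * -1 = 1 := by decide
    rcases Int.units_eq_one_or (Perm.sign a) with ha | ha <;>
    rcases Int.units_eq_one_or (Perm.sign b) with hb | hb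
    · simp [ha, hb]
    · simp only [map_mul, ha, hb, if_true, one_mul, if_neg hne]
      rw [← mul_assoc, hc a, mul_assoc]
    · simp only [map_mul, ha, hb, if_true, mul_one, if_neg hne, mul_assoc, one_mul]
    · simp only [map_mul, ha, hb, hmm, if_true, if_neg hne, one_mul]
      calc ι a * ι b = (t * t) * ι a * ι b := by rw [h, one_mul]
        _ = t * (t * ι a) * ι b := by group
        _ = t * (ι a * t) * ι b := by rw [hc a]
        _ = t * ι a * (t * ι b) := by group

theorem twist_apply (t : G) (h : t * t = 1) (ι : S7 →* G) (hc : ∀ a, t * ι a = ι a * t) (a) :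
    twist t h ι hc a = (if Perm.sign a = 1 then 1 else t) * ι a := rfl

/-- the twisted complement is again a complement -/
theorem spl_twist {t : G} {ι : S7 →* G} (h : Spl t ι) : Spl t (twist t h.tt ι h.comm) where
  tt := h.tt
  t1 := h.t1
  inj := by
    rw [injective_iff_map_eq_one]
    intro a ha
    rw [twist_apply] at ha
    split_ifs at ha with hs
    · rw [one_mul] at ha
      exact h.iota_eq_one ha
    · exfalso
      apply h.ne a⁻¹
      rw [map_inv, ← mul_eq_one_iff_eq_inv.1 ha]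
  comm := by
    intro a
    rw [twist_apply]
    split_ifs
    · rw [one_mul, h.comm]
    · rw [mul_assoc, ← h.comm]
  cent := by
    intro g hg
    rcases h.cent g hg with ⟨a, ha⟩ | ⟨a, ha⟩
    · by_cases hs : Perm.sign a = 1
      · left; refine ⟨a, ?_⟩; rw [twist_apply, if_pos hs, one_mul, ha]
      · right; refine ⟨a, ?_⟩; rw [twist_apply, if_neg hs, ← mul_assoc, h.tt, one_mul, ha]
    · by_cases hs : Perm.sign a = 1
      · right; refine ⟨a, ?_⟩; rw [twist_apply, if_pos hs, one_mul, ha]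
      · left; refine ⟨a, ?_⟩; rw [twist_apply, if_neg hs, ha]
  ne := by
    intro a e
    rw [twist_apply] at e
    split_ifs at e with hs
    · rw [one_mul] at e; exact h.ne a e
    · have h1 : ι a = 1 := mul_eq_left.1 e
      have h2 := h.iota_eq_one h1
      rw [h2] at hs
      exact hs (by simp)

/-! ### Contracts

* piece A (front end), file `Seven/Front.lean`:
  `theorem exists_spl (C : Iface.Ctx G) (S : Iface.Std G K) (hc : Iface.Cyc K) (e : K ≃* alternatingGroup (Fin 7)) :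
     ∃ t ι, Spl t ι`  (`|R| = 2`; not `⟨t⟩ × A₇`; not isoclinic)
* piece B (pattern), file `Seven/Pattern.lean`:
  `theorem exists_all [Finite G] (hG : ∀ H : Subgroup G, H.index ≠ 2) (hr : ¬ SectionalPRankLE 2 4 G) (h : Spl t ι) :
     ∃ ι', All t ι'`
* piece F (end), file `Seven/End.lean`:
  `theorem false_of_two [Finite G] (hG : ∀ H : Subgroup G, H.index ≠ 2) (h : Spl t ι) (T : Two t ι K₁) : False` -/

end Cfsg.Agent.OddHalf.D5.Seven
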