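import Cfsg.Agent.OddHalf.D5.Seven.Defs

/-!
# ODD D5, `n = 7`: five points inside seven points (helper905)

`em : Perm (Fin 5) →* Perm (Fin 7)` on the points `0, 1, 2, 3, 6` and the small facts on `A₅` used in `Diag.lean`.
-/

set_option autoImplicit false

namespace Cfsg.Agent.OddHalf.D5.Seven.Five

open Equiv

/-- the points `≠ 4, 5` -/
def fe : Fin 5 ≃ {x : Fin 7 // x ≠ 4 ∧ x ≠ 5} where
  toFun i := ⟨![0, 1, 2, 3, 6] i, by revert i; decide⟩
  invFun x := (![0, 1, 2, 3, 0, 0, 4] : Fin 7 → Fin 5) x.1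
  left_inv := by decide
  right_inv := by decide

/-- `S₅` inside `S₇` -/
def em : Perm (Fin 5) →* Perm (Fin 7) := Perm.extendDomainHom fe

theorem em_inj : Function.Injective em := Perm.extendDomainHom_injective fe

theorem sign_em (a : Perm (Fin 5)) : Perm.sign (em a) = Perm.sign a := Perm.sign_extendDomain a fe

theorem em_fix (a : Perm (Fin 5)) {x : Fin 7} (hx : x = 4 ∨ x = 5) : em a x = x := by
  apply Perm.extendDomain_apply_not_subtype
  rintro ⟨h1, h2⟩
  rcases hx with h | h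
  · exact h1 h
  · exact h2 h

/-- `z` -/
def z5 : Perm (Fin 5) := swap 0 1 * swap 2 3
/-- `v` -/
def v5 : Perm (Fin 5) := swap 0 2 * swap 1 3
/-- a 3-cycle -/
def r5 : Perm (Fin 5) := swap 0 1 * swap 1 2

theorem em_z5 : em z5 = swap 0 1 * swap 2 3 := by decide +kernel

theorem em_v5 : em v5 = swap 0 2 * swap 1 3 := by decide +kernel

/-- the four-group -/
def VV (v : Perm (Fin 5)) : Prop := v = 1 ∨ v = z5 ∨ v = v5 ∨ v = z5 * v5

instance : DecidablePred VV := fun v => by unfold VV; infer_instance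

/-- involutions of `A₅` outside the four-group -/
def WW (w : Perm (Fin 5)) : Prop := Perm.sign w = 1 ∧ w * w = 1 ∧ ¬ VV w

instance : DecidablePred WW := fun v => by unfold WW; infer_instance

theorem card_VV : Fintype.card {v // VV v} = 4 := by decide +kernel

theorem card_WW : Fintype.card {w // WW w} = 12 := by decide +kernel

theorem card_A5 : Fintype.card {a : Perm (Fin 5) // Perm.sign a = 1} = 60 := by decide +kernel

theorem VV_of_comm : ∀ w u : Perm (Fin 5), Perm.sign w = 1 ∧ VV u ∧ u ≠ 1 ∧ w * u = u * w → VV w := by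
  decide +kernel

theorem VV_mul : ∀ u, VV u → ∀ v, VV v → VV (u * v) := by decide +kernel

theorem VV_comm : ∀ u, VV u → ∀ v, VV v → u * v = v * u := by decide +kernel

theorem VV_sq : ∀ u, VV u → u * u = 1 := by decide +kernel

theorem VV_sign : ∀ u, VV u → Perm.sign u = 1 := by decide +kernel

theorem exists_conj : ∀ w : Perm (Fin 5), Perm.sign w = 1 → w * w = 1 → w ≠ 1 →
    ∃ j : Perm (Fin 5), Perm.sign j = 1 ∧ j * z5 * j⁻¹ = w := by decide +kernel

theorem r5_sign : Perm.sign r5 = 1 := by decide +kernel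

theorem r5_conj : ∀ u, VV u → VV (r5⁻¹ * u * r5) := by decide +kernel

theorem r5_conj' : ∀ u, VV u → VV (r5 * u * r5⁻¹) := by decide +kernel

theorem r5_z5 : (r5 * z5 * r5⁻¹ = v5 ∧ r5⁻¹ * z5 * r5 = z5 * v5) ∨ (r5 * z5 * r5⁻¹ = z5 * v5 ∧ r5⁻¹ * z5 * r5 = v5) := by
  decide +kernel

/-- a permutation fixing `4` and `5` comes from five points -/
theorem exists_em {c : Perm (Fin 7)} (h4 : c 4 = 4) (h5 : c 5 = 5) : ∃ a, em a = c := by
  have hp : ∀ x : Fin 7, (c x ≠ 4 ∧ c x ≠ 5) ↔ (x ≠ 4 ∧ x ≠ 5) := by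
    intro x
    have e4 : c x = 4 ↔ x = 4 := by
      constructor
      · intro h
        exact c.injective (h.trans h4.symm)
      · rintro rfl
        exact h4
    have e5 : c x = 5 ↔ x = 5 := by
      constructor
      · intro h
        exact c.injective (h.trans h5.symm)
      · rintro rfl
        exact h5
    rw [ne_eq, ne_eq, e4, e5]
  refine ⟨fe.permCongr.symm (c.subtypePerm hp), ?_⟩
  ext x
  by_cases hx : x ≠ 4 ∧ x ≠ 5
  · have h1 : em (fe.permCongr.symm (c.subtypePerm hp)) x = c x := by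
      show Perm.extendDomain (fe.permCongr.symm (c.subtypePerm hp)) fe x = _
      rw [Perm.extendDomain_apply_subtype (p := fun x : Fin 7 => x ≠ 4 ∧ x ≠ 5) _ _ hx]
      simp
    rw [h1]
  · have hx' : x = 4 ∨ x = 5 := by
      by_contra hcon
      push Not at hcon
      exact hx hcon
    rw [em_fix _ hx']
    rcases hx' with rfl | rfl
    · rw [h4]
    · rw [h5]

/-- the centraliser of `(4 5)` normalises `A₅` -/
theorem conj_em {a : Perm (Fin 7)} (ha : a * swap 4 5 = swap 4 5 * a) (b : Perm (Fin 5)) :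
    ∃ b', em b' = a * em b * a⁻¹ := by
  have h1 : a⁻¹ * swap 4 5 = swap 4 5 * a⁻¹ := by
    calc a⁻¹ * swap 4 5 = a⁻¹ * (swap 4 5 * a) * a⁻¹ := by group
      _ = a⁻¹ * (a * swap 4 5) * a⁻¹ := by rw [ha]
      _ = swap 4 5 * a⁻¹ := by group
  have h2 : ∀ x : Fin 7, x = 4 ∨ x = 5 → a⁻¹ x = 4 ∨ a⁻¹ x = 5 := by
    intro x hx
    by_contra hcon
    push Not at hcon
    have h3 := congrArg (fun f : Perm (Fin 7) => f x) h1
    simp only [Perm.mul_apply] at h3
    rw [swap_apply_of_ne_of_ne hcon.1 hcon.2] at h3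
    have h4 := a⁻¹.injective h3
    rcases hx with rfl | rfl
    · rw [swap_apply_left] at h4
      exact absurd h4 (by decide)
    · rw [swap_apply_right] at h4
      exact absurd h4 (by decide)
  have h3 : ∀ x : Fin 7, x = 4 ∨ x = 5 → (a * em b * a⁻¹) x = x := by
    intro x hx
    rw [Perm.mul_apply, Perm.mul_apply, em_fix b (h2 x hx)]
    exact a.apply_symm_apply x
  exact exists_em (h3 4 (Or.inl rfl)) (h3 5 (Or.inr rfl))

end Cfsg.Agent.OddHalf.D5.Seven.Five
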