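import Cfsg.Agent.OddHalf.D5.Seven.Count

/-!
# ODD D5, `n = 7`: four-groups of `A₇` centralised by an element of order three, and the centraliser of `(4 5)`,
`(0 1)(2 3)` (helper905)
-/

set_option autoImplicit false

namespace Cfsg.Agent.OddHalf.D5.Seven.Four

open Equiv Five
open Cfsg.Agent.OddHalf.D5.Seven.Count

/-- a permutation commuting with `(0 1)(2 3)` preserves `{4, 5, 6}` -/
theorem fix_iff {c : S7} (hc : c * e2 = e2 * c) (x : Fin 7) : e2 (c x) = c x ↔ e2 x = x := by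
  have h := congrArg (fun f : S7 => f x) hc
  simp only [Perm.mul_apply] at h
  rw [← h]
  exact c.injective.eq_iff

/-- the points `4, 5, 6` -/
def pt : Fin 3 → Fin 7 := ![4, 5, 6]
/-- the inverse -/
def ix : Fin 7 → Fin 3 := ![0, 0, 0, 0, 0, 1, 2]
/-- the points `0, 1, 2, 3` -/
def pt4 : Fin 4 → Fin 7 := ![0, 1, 2, 3]
/-- the inverse -/
def ix4 : Fin 7 → Fin 4 := ![0, 1, 2, 3, 0, 0, 0]
/-- the involution on four points -/
def zz4 : Fin 4 → Fin 4 := ![1, 0, 3, 2]

theorem pt_ix : ∀ x : Fin 7, e2 x = x → pt (ix x) = x := by decide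
theorem ix_pt : ∀ i, ix (pt i) = i := by decide
theorem pt4_ix : ∀ x : Fin 7, e2 x ≠ x → pt4 (ix4 x) = x := by decide
theorem ix4_pt : ∀ i, ix4 (pt4 i) = i := by decide
theorem e2_pt : ∀ i, e2 (pt i) = pt i := by decide
theorem e2_pt4 : ∀ i, e2 (pt4 i) ≠ pt4 i := by decide
theorem e2_zz4 : ∀ i, e2 (pt4 i) = pt4 (zz4 i) := by decide

theorem three_pts : ∀ D B : Fin 3 → Fin 3, (∀ i, D (D (D i)) = i) ∧ (∀ i, D (B i) = B (D i)) ∧ (∀ i, B (B i) = i) ∧
    (∃ i, D i ≠ i) → ∀ i, B i = i := by decide +kernel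

theorem four_pts : ∀ F : Fin 4 → Fin 4, (∀ i, F (F (F i)) = i) ∧ (∀ i, F (zz4 i) = zz4 (F i)) → ∀ i, F i = i := by
  decide +kernel

/-- an element of order three commuting with `(0 1)(2 3)` moves one of `4, 5, 6` -/
theorem moves {d : S7} (hd : d * e2 = e2 * d) (h3 : d * d * d = 1) (h1 : d ≠ 1) : ∃ i, ix (d (pt i)) ≠ i := by
  by_contra hcon
  push Not at hcon
  have h3' : ∀ x, d (d (d x)) = x := fun x => congrArg (fun f : S7 => f x) h3
  have hd4 : ∀ i, pt4 (ix4 (d (pt4 i))) = d (pt4 i) := fun i => pt4_ix _ (fun e => e2_pt4 i ((fix_iff hd _).1 e))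
  have key := four_pts (fun i => ix4 (d (pt4 i))) ⟨fun i => by
    show ix4 (d (pt4 (ix4 (d (pt4 (ix4 (d (pt4 i)))))))) = i
    rw [hd4, hd4, h3', ix4_pt], fun i => by
    show ix4 (d (pt4 (zz4 i))) = zz4 (ix4 (d (pt4 i)))
    have e : d (e2 (pt4 i)) = e2 (d (pt4 i)) := congrArg (fun f : S7 => f (pt4 i)) hd
    rw [← e2_zz4, e, ← hd4 i, e2_zz4, ix4_pt, ix4_pt]⟩
  apply h1
  ext1 x
  show d x = x
  by_cases hx : e2 x = x
  · have e := hcon (ix x)
    rw [pt_ix x hx] at e
    have e' := pt_ix (d x) ((fix_iff hd x).2 hx)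
    rw [e, pt_ix x hx] at e'
    exact e'.symm
  · have e := key (ix4 x)
    have e' : pt4 (ix4 (d (pt4 (ix4 x)))) = pt4 (ix4 x) := congrArg pt4 e
    rw [hd4, pt4_ix x hx] at e'
    exact e'

/-- an involution commuting with `(0 1)(2 3)` and an element of order three fixes `4, 5, 6` -/
theorem fixes {b d : S7} (hb : b * e2 = e2 * b) (hd : d * e2 = e2 * d) (h3 : d * d * d = 1) (h1 : d ≠ 1)
    (hbd : b * d = d * b) (hbb : b * b = 1) (i : Fin 3) : b (pt i) = pt i := by
  obtain ⟨j, hj⟩ := moves hd h3 h1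
  have h3' : ∀ x, d (d (d x)) = x := fun x => congrArg (fun f : S7 => f x) h3
  have hbb' : ∀ x, b (b x) = x := fun x => congrArg (fun f : S7 => f x) hbb
  have hdp : ∀ i, pt (ix (d (pt i))) = d (pt i) := fun i => pt_ix _ ((fix_iff hd _).2 (e2_pt i))
  have hbp : ∀ i, pt (ix (b (pt i))) = b (pt i) := fun i => pt_ix _ ((fix_iff hb _).2 (e2_pt i))
  have key := three_pts (fun i => ix (d (pt i))) (fun i => ix (b (pt i))) ⟨fun i => by
    show ix (d (pt (ix (d (pt (ix (d (pt i)))))))) = i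
    rw [hdp, hdp, h3', ix_pt], fun i => by
    show ix (d (pt (ix (b (pt i))))) = ix (b (pt (ix (d (pt i)))))
    rw [hbp, hdp]
    have e : b (d (pt i)) = d (b (pt i)) := congrArg (fun f : S7 => f (pt i)) hbd
    rw [e], fun i => by
    show ix (b (pt (ix (b (pt i))))) = i
    rw [hbp, hbb', ix_pt], ⟨j, hj⟩⟩ i
  rw [← hbp i]
  exact congrArg pt key

theorem five_VV : ∀ b : Perm (Fin 5), b * z5 = z5 * b ∧ Perm.sign b = 1 ∧ b ≠ 1 ∧ b ≠ z5 → b = v5 ∨ b = z5 * v5 := by
  decide +kernel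

theorem em_z5' : em z5 = e2 := em_z5

/-- **Four-groups of `A₇` centralised by an element of order three are conjugate.** -/
theorem exists_c {a b d : S7} (ha : a * a = 1) (ha1 : a ≠ 1) (hsa : Perm.sign a = 1) (hb : b * b = 1) (hb1 : b ≠ 1)
    (hsb : Perm.sign b = 1) (hab : a ≠ b) (hcab : a * b = b * a) (hd : d * d * d = 1) (hd1 : d ≠ 1)
    (hda : d * a = a * d) (hdb : d * b = b * d) : ∃ c : S7, c * a * c⁻¹ = em z5 ∧ c * b * c⁻¹ = em v5 := by
  -- `a` is conjugate to `(0 1)(2 3)`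
  have hta : a.cycleType = e2.cycleType := by
    have hsc : ∀ x : S7, a.cycleType = x.cycleType → Perm.sign x = 1 := by
      intro x hx
      obtain ⟨c, rfl⟩ := isConj_iff.1 (Perm.isConj_iff_cycleType_eq.2 hx)
      rw [map_mul, map_mul, map_inv, hsa, mul_one, mul_inv_cancel]
    rcases type_of_sq ha with h | h | h | h
    · exact absurd h ha1
    · exact absurd (hsc e1 (h.trans ct1.symm)) (by decide)
    · exact h.trans ct2.symm
    · exact absurd (hsc e3 (h.trans ct3.symm)) (by decide)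
  obtain ⟨c, hc⟩ := isConj_iff.1 (Perm.isConj_iff_cycleType_eq.2 hta)
  -- transport
  obtain ⟨b', hb'⟩ : ∃ b', b' = c * b * c⁻¹ := ⟨_, rfl⟩
  obtain ⟨d', hd'⟩ : ∃ d', d' = c * d * c⁻¹ := ⟨_, rfl⟩
  have h1 : b' * e2 = e2 * b' := by
    rw [hb', ← hc]
    calc c * b * c⁻¹ * (c * a * c⁻¹) = c * (b * a) * c⁻¹ := by group
      _ = c * (a * b) * c⁻¹ := by rw [hcab]
      _ = c * a * c⁻¹ * (c * b * c⁻¹) := by group
  have h2 : d' * e2 = e2 * d' := by
    rw [hd', ← hc]
    calc c * d * c⁻¹ * (c * a * c⁻¹) = c * (d * a) * c⁻¹ := by group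
      _ = c * (a * d) * c⁻¹ := by rw [hda]
      _ = c * a * c⁻¹ * (c * d * c⁻¹) := by group
  have h3 : b' * d' = d' * b' := by
    rw [hd', hb']
    calc c * b * c⁻¹ * (c * d * c⁻¹) = c * (b * d) * c⁻¹ := by group
      _ = c * (d * b) * c⁻¹ := by rw [hdb]
      _ = c * d * c⁻¹ * (c * b * c⁻¹) := by group
  have h4 : d' * d' * d' = 1 := by
    rw [hd']
    calc c * d * c⁻¹ * (c * d * c⁻¹) * (c * d * c⁻¹) = c * (d * d * d) * c⁻¹ := by group
      _ = 1 := by rw [hd]; group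
  have h5 : d' ≠ 1 := by
    rw [hd', ne_eq, mul_inv_eq_one]
    intro e
    exact hd1 (mul_eq_left.1 e)
  have h6 : b' * b' = 1 := by
    rw [hb']
    calc c * b * c⁻¹ * (c * b * c⁻¹) = c * (b * b) * c⁻¹ := by group
      _ = 1 := by rw [hb]; group
  have h7 : b' ≠ 1 := by
    rw [hb', ne_eq, mul_inv_eq_one]
    intro e
    exact hb1 (mul_eq_left.1 e)
  have h8 : b' ≠ e2 := by
    rw [hb', ← hc]
    intro e
    exact hab (mul_left_cancel (mul_right_cancel e)).symm
  have h9 := fixes h1 h2 h4 h5 h3 h6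
  obtain ⟨x, hx⟩ := exists_em (h9 0) (h9 1)
  have hx1 : x * z5 = z5 * x := by
    apply em_inj
    rw [map_mul, map_mul, em_z5', hx, h1]
  have hx2 : Perm.sign x = 1 := by
    rw [← sign_em, hx, hb', map_mul, map_mul, map_inv, hsb, mul_one, mul_inv_cancel]
  have hx3 : x ≠ 1 := by
    rintro rfl
    rw [map_one] at hx
    exact h7 hx.symm
  have hx4 : x ≠ z5 := by
    rintro rfl
    rw [em_z5'] at hx
    exact h8 hx.symm
  rcases five_VV x ⟨hx1, hx2, hx3, hx4⟩ with h | h
  · refine ⟨c, by rw [hc, em_z5'], ?_⟩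
    rw [← hb', ← hx, h]
  · refine ⟨em (swap 0 1) * c, ?_, ?_⟩
    · have e : swap 0 1 * z5 * (swap 0 1)⁻¹ = z5 := by decide +kernel
      calc em (swap 0 1) * c * a * (em (swap 0 1) * c)⁻¹ = em (swap 0 1) * (c * a * c⁻¹) * (em (swap 0 1))⁻¹ := by group
        _ = Five.em (swap 0 1 * z5 * (swap 0 1)⁻¹) := by rw [hc, ← em_z5', map_mul, map_mul, map_inv]
        _ = em z5 := by rw [e]
    · have e : swap 0 1 * (z5 * v5) * (swap 0 1)⁻¹ = v5 := by decide +kernel
      calc em (swap 0 1) * c * b * (em (swap 0 1) * c)⁻¹ = em (swap 0 1) * (c * b * c⁻¹) * (em (swap 0 1))⁻¹ := by group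
        _ = Five.em (swap 0 1 * (z5 * v5) * (swap 0 1)⁻¹) := by rw [← hb', ← hx, h, map_mul em (swap 0 1 * (z5 * v5)), map_mul em (swap 0 1), map_inv]
        _ = em v5 := by rw [e]

/-! ### The centraliser of `(4 5)` and `(0 1)(2 3)` -/

theorem card_cz : Fintype.card {b : Perm (Fin 5) // b * z5 = z5 * b} = 8 := by decide +kernel

/-- a permutation commuting with `(4 5)` -/
theorem split {a : S7} (ha : a * e1 = e1 * a) : ∃ b : Perm (Fin 5), a = em b ∨ a = e1 * em b := by
  have h2 : ∀ x : Fin 7, x = 4 ∨ x = 5 → a x = 4 ∨ a x = 5 := by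
    intro x hx
    by_contra hcon
    push Not at hcon
    have h3 := congrArg (fun f : Perm (Fin 7) => f x) ha
    simp only [Perm.mul_apply] at h3
    rw [show e1 (a x) = a x from swap_apply_of_ne_of_ne hcon.1 hcon.2] at h3
    have h4 := a.injective h3
    rcases hx with rfl | rfl
    · exact absurd h4 (by decide)
    · exact absurd h4 (by decide)
  rcases h2 4 (Or.inl rfl) with h4 | h4
  · have h5 : a 5 = 5 := by
      rcases h2 5 (Or.inr rfl) with h5 | h5
      · exact absurd (a.injective (h5.trans h4.symm)) (by decide)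
      · exact h5
    obtain ⟨b, hb⟩ := exists_em h4 h5
    exact ⟨b, Or.inl hb.symm⟩
  · have h5 : a 5 = 4 := by
      rcases h2 5 (Or.inr rfl) with h5 | h5
      · exact h5
      · exact absurd (a.injective (h5.trans h4.symm)) (by decide)
    have e4 : (e1 * a) 4 = 4 := by
      rw [Perm.mul_apply, h4]; decide
    have e5 : (e1 * a) 5 = 5 := by
      rw [Perm.mul_apply, h5]; decide
    obtain ⟨b, hb⟩ := exists_em e4 e5
    refine ⟨b, Or.inr ?_⟩
    rw [hb, ← mul_assoc, show e1 * e1 = 1 by decide, one_mul]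

theorem em_comm1 (b : Perm (Fin 5)) : em b * e1 = e1 * em b := by
  have h1 : em b * swap 4 5 * (em b)⁻¹ = swap (em b 4) (em b 5) := by rw [Equiv.swap_apply_apply]
  rw [em_fix b (Or.inl rfl), em_fix b (Or.inr rfl)] at h1
  exact mul_inv_eq_iff_eq_mul.1 h1

theorem comm_e2_iff {b : Perm (Fin 5)} : em b * e2 = e2 * em b ↔ b * z5 = z5 * b := by
  rw [← em_z5', ← map_mul, ← map_mul]
  exact em_inj.eq_iff

/-- `|C(e₁, e₂)| = 16` -/
theorem card_ce : Nat.card {a : S7 // a * e1 = e1 * a ∧ a * e2 = e2 * a} = 16 := by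
  have h11 : e1 * e1 = 1 := by decide
  have h12 : e1 * e2 = e2 * e1 := by decide
  have h0 : (-1 : ℤˣ) ≠ 1 := by decide
  let f : ℤˣ × {b : Perm (Fin 5) // b * z5 = z5 * b} → {a : S7 // a * e1 = e1 * a ∧ a * e2 = e2 * a} := fun x =>
    ⟨(if x.1 = 1 then 1 else e1) * em x.2.1, by
      have hx1 := em_comm1 x.2.1
      have hx2 := comm_e2_iff.2 x.2.2
      split_ifs
      · rw [one_mul]
        exact ⟨hx1, hx2⟩
      · refine ⟨?_, ?_⟩
        · rw [mul_assoc, hx1]
        · rw [mul_assoc, hx2, ← mul_assoc, h12, mul_assoc]⟩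
  have hf : Function.Bijective f := by
    constructor
    · rintro ⟨ε, b⟩ ⟨ε', b'⟩ e
      have e1' : (if ε = 1 then 1 else e1) * em b.1 = (if ε' = 1 then 1 else e1) * em b'.1 := congrArg Subtype.val e
      have e4 := congrArg (fun g : S7 => g 4) e1'
      simp only [Perm.mul_apply, em_fix b.1 (Or.inl rfl), em_fix b'.1 (Or.inl rfl)] at e4
      have hε : ε = ε' := by
        rcases Int.units_eq_one_or ε with he | he <;> rcases Int.units_eq_one_or ε' with he' | he'
        · rw [he, he']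
        · rw [he, he', if_pos rfl, if_neg h0] at e4
          exact absurd e4 (by decide)
        · rw [he, he', if_pos rfl, if_neg h0] at e4
          exact absurd e4 (by decide)
        · rw [he, he']
      subst hε
      have := em_inj (mul_left_cancel e1')
      rw [Subtype.ext this]
    · rintro ⟨a, ha1, ha2⟩
      obtain ⟨b, hb | hb⟩ := split ha1
      · refine ⟨(1, ⟨b, comm_e2_iff.1 (by rw [← hb]; exact ha2)⟩), Subtype.ext ?_⟩
        show (if (1 : ℤˣ) = 1 then 1 else e1) * em b = a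
        rw [if_pos rfl, one_mul, hb]
      · have h3 : em b * e2 = e2 * em b := by
          rw [hb] at ha2
          apply mul_left_cancel (a := e1)
          rw [← mul_assoc, ha2, ← mul_assoc, ← mul_assoc, h12]
        refine ⟨(-1, ⟨b, comm_e2_iff.1 h3⟩), Subtype.ext ?_⟩
        show (if (-1 : ℤˣ) = 1 then 1 else e1) * em b = a
        rw [if_neg h0, hb]
  rw [← Nat.card_eq_of_bijective f hf, Nat.card_prod, Nat.card_eq_fintype_card, Nat.card_eq_fintype_card, card_cz]
  rfl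

theorem cz_small : ∀ b : Perm (Fin 5), b * z5 = z5 * b ∧ b * swap 0 1 = swap 0 1 * b ∧ b * v5 = v5 * b →
    b = 1 ∨ b = z5 := by decide +kernel

/-- the centre of `C(e₁, e₂)` -/
theorem center_ce {a : S7} (h1 : a * e1 = e1 * a) (h2 : a * e2 = e2 * a)
    (h3 : a * em (swap 0 1) = em (swap 0 1) * a) (h4 : a * em v5 = em v5 * a) :
    a = 1 ∨ a = e1 ∨ a = e2 ∨ a = e3 := by
  have h12 : e1 * e2 = e2 * e1 := by decide
  obtain ⟨b, hb⟩ := split h1
  have key : ∀ c : Perm (Fin 5), a * em c = em c * a → b * c = c * b := by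
    intro c hc
    apply em_inj
    rw [map_mul, map_mul]
    rcases hb with hb | hb
    · rw [← hb]; exact hc
    · rw [hb] at hc
      apply mul_left_cancel (a := e1)
      rw [← mul_assoc, hc, ← mul_assoc, ← mul_assoc, em_comm1]
  have h5 := cz_small b ⟨key z5 (by rw [em_z5']; exact h2), key _ h3, key _ h4⟩
  rcases h5 with h5 | h5 <;> rcases hb with hb | hb
  · left; rw [hb, h5, map_one]
  · right; left; rw [hb, h5, map_one, mul_one]
  · right; right; left; rw [hb, h5, em_z5']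
  · right; right; right
    rw [hb, h5, em_z5', h12]
    rfl

theorem conj_VV : ∀ b : Perm (Fin 5), b * z5 = z5 * b → ∀ u, VV u → VV (b * u * b⁻¹) := by decide +kernel

end Cfsg.Agent.OddHalf.D5.Seven.Four
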