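import Cfsg.Agent.OddHalf.D5.Seven.TypeInv

/-!
# ODD half, D5, `K = A₇`, step (3): the fusion element

Pattern ALL: `t^G ∩ C(t) = {t} ∪ t I(ι(S₇))`. There is `p` centralizing `ι(s)`, `ι(z)`, `ι(v)` (`s = (4 5)`,
`z = (0 1)(2 3)`, `v = (0 2)(1 3)`) with `t ^ p = t ι(z)`.
-/

set_option autoImplicit false
set_option maxRecDepth 100000

namespace Cfsg.Agent.OddHalf.D5.Seven

open Equiv Subgroup

variable {G : Type*} [Group G] {t : G} {ι : S7 →* G}

theorem semi_comm {g x y x' y' : G} (h1 : SemiconjBy g x x') (h2 : SemiconjBy g y y') (h : x * y = y * x) :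
    x' * y' = y' * x' := by
  have h3 := h1.mul_right h2
  have h4 := h2.mul_right h1
  rw [h] at h3
  have h5 := h3.eq.symm.trans h4.eq
  exact mul_right_cancel h5

theorem semi_sq {g x x' : G} (h1 : SemiconjBy g x x') (h : x * x = 1) : x' * x' = 1 := by
  have h3 := (h1.mul_right h1).eq
  rw [h, mul_one] at h3
  exact (mul_eq_right.1 h3.symm)

theorem semi_ne {g x x' : G} (h1 : SemiconjBy g x x') (h : x ≠ 1) : x' ≠ 1 := by
  rintro rfl
  have h3 := h1.eq
  rw [one_mul] at h3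
  exact h (mul_eq_left.1 h3)

theorem semi_inj {g x y x' y' : G} (h1 : SemiconjBy g x x') (h2 : SemiconjBy g y y') (h : x' = y') : x = y := by
  subst h
  have := h1.eq.trans h2.eq.symm
  exact mul_left_cancel this

theorem semi_mul {g : G} {a b a' b' c c' : S7} (h1 : SemiconjBy g (ι a) (ι a')) (h2 : SemiconjBy g (ι b) (ι b'))
    (hc : a * b = c) (hc' : a' * b' = c') : SemiconjBy g (ι c) (ι c') := by
  rw [← hc, ← hc', map_mul, map_mul]
  exact h1.mul_right h2

theorem semi_tmul {g : G} {x a a' c : S7} (h1 : SemiconjBy g t (t * ι x)) (h2 : SemiconjBy g (ι a) (ι a'))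
    (hc : x * a' = c) : SemiconjBy g (t * ι a) (t * ι c) := by
  rw [← hc, map_mul, ← mul_assoc]
  exact h1.mul_right h2

theorem semi_tmul0 {g : G} {a a' : S7} (h1 : SemiconjBy g t t) (h2 : SemiconjBy g (ι a) (ι a')) :
    SemiconjBy g (t * ι a) (t * ι a') := h1.mul_right h2

theorem semi_tmul1 {g : G} {x a a' : S7} (h1 : SemiconjBy g t (t * ι x)) (h2 : SemiconjBy g (ι a) (ι a'))
    (hc : x * a' = 1) : SemiconjBy g (t * ι a) t := by
  have h3 := h1.mul_right h2
  rwa [mul_assoc, ← map_mul, hc, map_one, mul_one] at h3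

namespace Spl

/-- an element of `C(t)` induces an inner automorphism of `ι(S₇)` -/
theorem conj_of_comm (h : Spl t ι) {g : G} (hg : g * t = t * g) {a b : S7} (hab : SemiconjBy g (ι a) (ι b)) :
    IsConj a b := by
  rcases h.cent g hg with ⟨c, rfl⟩ | ⟨c, rfl⟩
  · apply semi_conj (g := c)
    apply h.inj
    rw [map_mul, map_mul, hab.eq]
  · apply semi_conj (g := c)
    apply h.inj
    have h1 := hab.eq
    rw [← mul_assoc, ← h.comm b, mul_assoc, mul_assoc] at h1
    rw [map_mul, map_mul]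
    exact mul_left_cancel h1

theorem commutator_mem (h : Spl t ι) {x y : G} (hx : x * t = t * x) (hy : y * t = t * y) :
    ∃ a b : S7, (x = ι a ∨ x = t * ι a) ∧ (y = ι b ∨ y = t * ι b) ∧ x * y * x⁻¹ * y⁻¹ = ι (a * b * a⁻¹ * b⁻¹) := by
  obtain ⟨a, ha⟩ := h.cases hx
  obtain ⟨b, hb⟩ := h.cases hy
  refine ⟨a, b, ha, hb, ?_⟩
  have hai : (ι a)⁻¹ * t = t * (ι a)⁻¹ := by rw [← map_inv]; exact h.comm' _
  have hbi : (ι b)⁻¹ * t = t * (ι b)⁻¹ := by rw [← map_inv]; exact h.comm' _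
  have hba := h.comm' a
  have hbb := h.comm' b
  have hti := h.t_inv
  rw [map_mul, map_mul, map_mul, map_inv, map_inv]
  rcases ha with rfl | rfl <;> rcases hb with rfl | rfl
  · rfl
  · rw [mul_inv_rev, hti]
    calc ι a * (t * ι b) * (ι a)⁻¹ * ((ι b)⁻¹ * t) = (ι a * t) * ι b * (ι a)⁻¹ * ((ι b)⁻¹ * t) := by group
      _ = t * ι a * ι b * (ι a)⁻¹ * (t * (ι b)⁻¹) := by rw [hba, hbi]
      _ = t * ι a * ι b * ((ι a)⁻¹ * t) * (ι b)⁻¹ := by group
      _ = t * ι a * (ι b * t) * (ι a)⁻¹ * (ι b)⁻¹ := by rw [hai]; group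
      _ = t * (ι a * t) * ι b * (ι a)⁻¹ * (ι b)⁻¹ := by rw [hbb]; group
      _ = (t * (t * ι a)) * ι b * (ι a)⁻¹ * (ι b)⁻¹ := by rw [hba]
      _ = _ := by rw [h.tt_mul]
  · rw [mul_inv_rev, hti]
    calc t * ι a * ι b * ((ι a)⁻¹ * t) * (ι b)⁻¹ = t * ι a * (ι b * t) * (ι a)⁻¹ * (ι b)⁻¹ := by rw [hai]; group
      _ = t * (ι a * t) * ι b * (ι a)⁻¹ * (ι b)⁻¹ := by rw [hbb]; group
      _ = (t * (t * ι a)) * ι b * (ι a)⁻¹ * (ι b)⁻¹ := by rw [hba]
      _ = _ := by rw [h.tt_mul]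
  · rw [mul_inv_rev, mul_inv_rev, hti]
    have e1 : t * ι a * (t * ι b) = ι a * ι b := by
      calc t * ι a * (t * ι b) = t * (ι a * t) * ι b := by group
        _ = (t * (t * ι a)) * ι b := by rw [hba]
        _ = _ := by rw [h.tt_mul]
    rw [e1, hai, hbi]
    have e2 : t * (ι a)⁻¹ * (t * (ι b)⁻¹) = (ι a)⁻¹ * (ι b)⁻¹ := by
      calc t * (ι a)⁻¹ * (t * (ι b)⁻¹) = t * ((ι a)⁻¹ * t) * (ι b)⁻¹ := by group
        _ = (t * (t * (ι a)⁻¹)) * (ι b)⁻¹ := by rw [hai]
        _ = _ := by rw [h.tt_mul]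
    rw [mul_assoc (ι a * ι b), e2]
    group

/-- commuting with `ι b` is the same for `ι a` and `t ι a` -/
theorem comm_of_cases (h : Spl t ι) {x : G} {a b : S7} (hx : x = ι a ∨ x = t * ι a) (hb : x * ι b = ι b * x) :
    a * b = b * a := by
  apply h.comm_iff.1
  rcases hx with rfl | rfl
  · exact hb
  · apply mul_left_cancel (a := t)
    rw [← mul_assoc, hb, ← mul_assoc, ← mul_assoc, h.comm b]

end Spl

theorem app_inv (c : S7) (i : Fin 7) : c (c⁻¹ i) = i := c.apply_symm_apply i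

theorem comm_s7 {a : S7} (h : a * s7 = s7 * a) : (a 4 = 4 ∧ a 5 = 5) ∨ (a 4 = 5 ∧ a 5 = 4) := by
  have hp : ∀ i, a (s7 i) = s7 (a i) := fun i => congrFun (congrArg DFunLike.coe h) i
  have h4 : a 5 = s7 (a 4) := by rw [← hp]; rfl
  have h45 : a 4 ≠ s7 (a 4) := by rw [← h4]; exact a.injective.ne (by decide)
  have key : ∀ i : Fin 7, i ≠ s7 i → (i = 4 ∧ s7 i = 5) ∨ (i = 5 ∧ s7 i = 4) := by decide
  rw [h4]
  exact key _ h45

theorem commutator45 {a b : S7} (ha : a * s7 = s7 * a) (hb : b * s7 = s7 * b) :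
    (a * b * a⁻¹ * b⁻¹) 4 = 4 ∧ (a * b * a⁻¹ * b⁻¹) 5 = 5 := by
  have inv : ∀ c : S7, ((c 4 = 4 ∧ c 5 = 5) ∨ (c 4 = 5 ∧ c 5 = 4)) →
      (c⁻¹ 4 = c 4 ∧ c⁻¹ 5 = c 5) := by
    rintro c (⟨h1, h2⟩ | ⟨h1, h2⟩)
    · rw [h1, h2]
      exact ⟨by rw [Perm.inv_eq_iff_eq, h1], by rw [Perm.inv_eq_iff_eq, h2]⟩
    · rw [h1, h2]
      exact ⟨by rw [Perm.inv_eq_iff_eq, h2], by rw [Perm.inv_eq_iff_eq, h1]⟩
  have ha' := comm_s7 ha
  have hb' := comm_s7 hb
  obtain ⟨ia4, ia5⟩ := inv a ha'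
  obtain ⟨ib4, ib5⟩ := inv b hb'
  simp only [Perm.mul_apply]
  rcases ha' with ⟨a4, a5⟩ | ⟨a4, a5⟩ <;> rcases hb' with ⟨b4, b5⟩ | ⟨b4, b5⟩ <;>
  rw [a4] at ia4 <;> rw [a5] at ia5 <;> rw [b4] at ib4 <;> rw [b5] at ib5 <;>
  simp [a4, a5, b4, b5, ia4, ia5, ib4, ib5]

theorem sign_commutator (a b : S7) : Perm.sign (a * b * a⁻¹ * b⁻¹) = 1 := by
  rw [map_mul, map_mul, map_mul, map_inv, map_inv, mul_comm (Perm.sign a), mul_inv_cancel_right, mul_inv_cancel]

theorem even_type {a : S7} (h : a * a = 1) (h1 : a ≠ 1) (hs : Perm.sign a = 1) : IsConj z7 a := by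
  rcases types h h1 with h2 | h2 | h2
  · rw [sign_conj h2, sign_s7] at hs
    exact absurd hs (by decide)
  · exact h2
  · rw [sign_conj h2, sign_k7] at hs
    exact absurd hs (by decide)

/-- an even involution fixing 4, 5 is conjugate to `z` by an element fixing 4 and 5 -/
theorem conj_fix {a : S7} (h : IsConj z7 a) (h4 : a 4 = 4) (h5 : a 5 = 5) :
    ∃ c : S7, c 4 = 4 ∧ c 5 = 5 ∧ SemiconjBy c z7 a := by
  obtain ⟨c, hc⟩ := exists_semi h
  have hz : ∀ i, a i = i → z7 (c⁻¹ i) = c⁻¹ i := by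
    intro i hi
    have h6 : c (z7 (c⁻¹ i)) = a (c (c⁻¹ i)) := congrFun (congrArg DFunLike.coe hc.eq) (c⁻¹ i)
    rw [app_inv, hi] at h6
    rw [Perm.eq_inv_iff_eq, h6]
  have h45 : c⁻¹ 5 ≠ c⁻¹ 4 := (c⁻¹).injective.ne (by decide)
  have key : ∀ i : Fin 7, z7 i = i → ∀ j : Fin 7, z7 j = j → j ≠ i →
      l6.any (fun p => decide (p 4 = i ∧ p 5 = j)) = true := by decide +kernel
  obtain ⟨b, hb, hb'⟩ := List.any_eq_true.1 (key _ (hz 4 h4) _ (hz 5 h5) h45)
  obtain ⟨b4, b5⟩ := of_decide_eq_true hb'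
  have hbz : b * z7 = z7 * b := by
    have key2 : l6.all (fun p => decide (p * z7 = z7 * p)) = true := by decide +kernel
    exact of_decide_eq_true (List.all_eq_true.1 key2 b hb)
  refine ⟨c * b, ?_, ?_, hc.mul_left hbz⟩
  · rw [Perm.mul_apply, b4, app_inv]
  · rw [Perm.mul_apply, b5, app_inv]

theorem conj_pair {a b : S7} (ha : a * a = 1) (ha1 : a ≠ 1) (hsa : Perm.sign a = 1) (a4 : a 4 = 4) (a5 : a 5 = 5)
    (hb : b * b = 1) (hb1 : b ≠ 1) (hsb : Perm.sign b = 1) (b4 : b 4 = 4) (b5 : b 5 = 5)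
    (hab : a * b = b * a) (hne : b ≠ a) : ∃ c : S7, c 4 = 4 ∧ c 5 = 5 ∧ SemiconjBy c z7 a ∧ SemiconjBy c v7 b := by
  obtain ⟨c, c4, c5, hc⟩ := conj_fix (even_type ha ha1 hsa) a4 a5
  have hcb : SemiconjBy c (c⁻¹ * b * c) b := by
    show c * (c⁻¹ * b * c) = b * c
    group
  have i4 : c⁻¹ 4 = 4 := by rw [Perm.inv_eq_iff_eq, c4]
  have i5 : c⁻¹ 5 = 5 := by rw [Perm.inv_eq_iff_eq, c5]
  have h1 : (c⁻¹ * b * c) * z7 = z7 * (c⁻¹ * b * c) := semi_comm hcb.inv_symm_left hc.inv_symm_left hab.symm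
  have h2 : (c⁻¹ * b * c) * (c⁻¹ * b * c) = 1 := semi_sq hcb.inv_symm_left hb
  have h3 : c⁻¹ * b * c ≠ 1 := semi_ne hcb.inv_symm_left hb1
  have h4 : c⁻¹ * b * c ≠ z7 := fun e => hne (semi_inj hcb.inv_symm_left hc.inv_symm_left e)
  have h5 : Perm.sign (c⁻¹ * b * c) = 1 := by
    rw [map_mul, map_mul, map_inv, mul_comm, mul_inv_cancel_left, hsb]
  have h6 : (c⁻¹ * b * c) 4 = 4 := by rw [Perm.mul_apply, Perm.mul_apply, c4, b4, i4]
  have h7 : (c⁻¹ * b * c) 5 = 5 := by rw [Perm.mul_apply, Perm.mul_apply, c5, b5, i5]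
  have key := l48_all (P := fun p => p * p = 1 → p ≠ 1 → p ≠ z7 → Perm.sign p = 1 → p 4 = 4 → p 5 = 5 →
    p = v7 ∨ p = z7 * v7) (by decide +kernel) _ (mem_l48 h1) h2 h3 h4 h5 h6 h7
  rcases key with key | key
  · exact ⟨c, c4, c5, hc, by rw [key] at hcb; exact hcb⟩
  · refine ⟨c * e7, ?_, ?_, ?_, ?_⟩
    · rw [Perm.mul_apply, show e7 4 = 4 by decide, c4]
    · rw [Perm.mul_apply, show e7 5 = 5 by decide, c5]
    · exact hc.mul_left (show e7 * z7 = z7 * e7 by decide +kernel)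
    · rw [key] at hcb
      exact hcb.mul_left (show e7 * v7 = (z7 * v7) * e7 by decide +kernel)

theorem comm_s7_of {c : S7} (c4 : c 4 = 4) (c5 : c 5 = 5) : c * s7 = s7 * c := by
  have h := Equiv.swap_apply_apply c 4 5
  rw [c4, c5] at h
  show c * swap 4 5 = swap 4 5 * c
  conv_rhs => rw [h]
  group

namespace Spl

/-- the element `m` -/
theorem exists_m (h : Spl t ι) (hs : IsConj t (t * ι s7)) (hn : ¬ IsConj t (ι s7)) :
    ∃ m, SemiconjBy m t (t * ι s7) ∧ SemiconjBy m (ι s7) (ι s7) ∧ SemiconjBy m (ι z7) (ι z7) ∧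
      SemiconjBy m (ι v7) (ι v7) := by
  obtain ⟨m, m1, m2⟩ := h.lemmaG (y := s7) (by decide +kernel) (by decide +kernel) hs hn
  have hss : ι s7 * ι s7 = 1 := by rw [← map_mul, show s7 * s7 = 1 by decide +kernel, map_one]
  have m3 : SemiconjBy m (t * ι s7) t := by
    have := m1.mul_right m2
    rwa [mul_assoc, hss, mul_one] at this
  have img : ∀ a : S7, a * s7 = s7 * a → ∃ x, SemiconjBy m (ι a) x ∧ x * t = t * x ∧ x * ι s7 = ι s7 * x := by
    intro a ha
    have h1 : SemiconjBy m (ι a) (m * ι a * m⁻¹) := by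
      show m * ι a = m * ι a * m⁻¹ * m
      group
    refine ⟨_, h1, ?_, ?_⟩
    · apply semi_comm h1 m3
      rw [← mul_assoc, ← h.comm a, mul_assoc, mul_assoc, h.comm_iff.2 ha]
    · exact semi_comm h1 m2 (h.comm_iff.2 ha)
  have cimg : ∀ a b c : S7, a * s7 = s7 * a → b * s7 = s7 * b → c = a * b * a⁻¹ * b⁻¹ →
      ∃ c' : S7, SemiconjBy m (ι c) (ι c') ∧ c' 4 = 4 ∧ c' 5 = 5 ∧ Perm.sign c' = 1 := by
    intro a b c ha hb hc
    obtain ⟨x, hx1, hx2, hx3⟩ := img a ha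
    obtain ⟨y, hy1, hy2, hy3⟩ := img b hb
    obtain ⟨a', b', ha', hb', hab⟩ := h.commutator_mem hx2 hy2
    refine ⟨a' * b' * a'⁻¹ * b'⁻¹, ?_, ?_, ?_, sign_commutator _ _⟩
    · rw [← hab, hc, map_mul, map_mul, map_mul, map_inv, map_inv]
      exact ((hx1.mul_right hy1).mul_right hx1.inv_right).mul_right hy1.inv_right
    · exact (commutator45 (h.comm_of_cases ha' hx3) (h.comm_of_cases hb' hy3)).1
    · exact (commutator45 (h.comm_of_cases ha' hx3) (h.comm_of_cases hb' hy3)).2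
  obtain ⟨z', hz, z4, z5, zs⟩ := cimg v7 e7 z7 (by decide +kernel) (by decide +kernel) (by decide +kernel)
  obtain ⟨v', hv, v4, v5, vs⟩ := cimg z7 (swap 0 2) v7 (by decide +kernel) (by decide +kernel) (by decide +kernel)
  have hzz : z' * z' = 1 := h.iota_eq_one (by
    rw [map_mul]; exact semi_sq hz (by rw [← map_mul, show z7 * z7 = 1 by decide +kernel, map_one]))
  have hvv : v' * v' = 1 := h.iota_eq_one (by
    rw [map_mul]; exact semi_sq hv (by rw [← map_mul, show v7 * v7 = 1 by decide +kernel, map_one]))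
  have hz1 : z' ≠ 1 := fun e => semi_ne hz (fun e' => absurd (h.iota_eq_one e') (by decide +kernel))
    (by rw [e, map_one])
  have hv1 : v' ≠ 1 := fun e => semi_ne hv (fun e' => absurd (h.iota_eq_one e') (by decide +kernel))
    (by rw [e, map_one])
  have hzv : z' * v' = v' * z' := h.comm_iff.1 (semi_comm hz hv (h.comm_iff.2 (by decide +kernel)))
  have hne : v' ≠ z' := fun e => absurd (h.inj (semi_inj hv hz (by rw [e]))) (by decide +kernel)
  obtain ⟨c, c4, c5, cz, cv⟩ := conj_pair hzz hz1 zs z4 z5 hvv hv1 vs v4 v5 hzv hne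
  have hcs := comm_s7_of c4 c5
  have cz' : SemiconjBy (ι c)⁻¹ (ι z') (ι z7) := (cz.map ι).inv_symm_left
  have cv' : SemiconjBy (ι c)⁻¹ (ι v') (ι v7) := (cv.map ι).inv_symm_left
  have cs' : SemiconjBy (ι c)⁻¹ (ι s7) (ι s7) := SemiconjBy.inv_symm_left (h.comm_iff.2 hcs)
  have ct' : SemiconjBy (ι c)⁻¹ t t := SemiconjBy.inv_symm_left (h.comm' c)
  exact ⟨(ι c)⁻¹ * m, (ct'.mul_right cs').mul_left m1, cs'.mul_left m2, cz'.mul_left hz, cv'.mul_left hv⟩

end Spl

/-- `{e₁, e₂, v, zv}` -/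
def l4 : List (Perm (Fin 7)) := [e7, f7, v7, z7 * v7]

theorem mem_l4 {a : S7} (hz : a * z7 = z7 * a) (hc : a * c7 = c7 * a) (ha : a * a = 1) (h1 : a ≠ 1) (h2 : a ≠ z7) :
    a ∈ l4 :=
  l48_all (P := fun p => p * c7 = c7 * p → p * p = 1 → p ≠ 1 → p ≠ z7 → p ∈ l4) (by decide +kernel) _ (mem_l48 hz)
    hc ha h1 h2

/-- the normal form of `n` -/
theorem nf_aux : l4.all (fun a => l4.all fun b => l48.all fun c => decide (a * b ≠ b * a → c * c = 1 →
    c * c7 = c7 * c7 * c → c * a = a * c → c * b = b * c → l48.any (fun w => decide (w * z7 = z7 * w ∧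
      (w * a = v7 * w ∨ (w * a = e7 * w ∧ w * b = v7 * w)) ∧ (w * c = s7 * w ∨ w * c = (s7 * z7) * w))) = true)) =
    true := by decide +kernel

namespace All

theorem mem_iota (h : All t ι) {x : G} (hx : x * t = t * x) (h2 : x * x = 1) (h1 : x ≠ 1) (hn : ¬ IsConj t x) :
    ∃ a, x = ι a ∧ a * a = 1 ∧ a ≠ 1 := by
  have hxx : ∀ a, (x = ι a ∨ x = t * ι a) → a * a = 1 := by
    rintro a (rfl | rfl)
    · exact h.iota_eq_one (by rw [map_mul, h2])
    · apply h.iota_eq_one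
      rw [map_mul]
      calc ι a * ι a = t * (t * ι a) * ι a := by rw [h.tt_mul]
        _ = t * (ι a * t) * ι a := by rw [h.comm a]
        _ = t * ι a * (t * ι a) := by group
        _ = 1 := h2
  obtain ⟨a, ha⟩ := h.cases hx
  have haa := hxx a ha
  rcases ha with rfl | rfl
  · exact ⟨a, rfl, haa, fun e => h1 (by rw [e, map_one])⟩
  · exfalso
    by_cases e : a = 1
    · apply hn
      rw [e, map_one, mul_one]
    · exact hn (h.yes a haa e)

/-- image of an involution `ι b` under an element `g` with `ι b` in the inverse image of `C(t)` -/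
theorem img (h : All t ι) {g u : G} (hg : SemiconjBy g u t) {b : S7} (hb : b * b = 1) (hb1 : b ≠ 1)
    (hbu : ι b * u = u * ι b) : ∃ a, SemiconjBy g (ι b) (ι a) ∧ a * a = 1 ∧ a ≠ 1 := by
  have h1 : SemiconjBy g (ι b) (g * ι b * g⁻¹) := by
    show g * ι b = g * ι b * g⁻¹ * g
    group
  obtain ⟨a, ha, haa, ha1⟩ := h.mem_iota (semi_comm h1 hg hbu)
    (semi_sq h1 (by rw [← map_mul, hb, map_one])) (semi_ne h1 fun e => hb1 (h.iota_eq_one e))
    (fun hc => h.no b hb hb1 (hc.trans (semi_conj h1).symm))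
  exact ⟨a, ha ▸ h1, haa, ha1⟩

theorem exists_n (h : All t ι) : ∃ n, SemiconjBy n t (t * ι z7) ∧ SemiconjBy n (ι z7) (ι z7) ∧
    (SemiconjBy n (ι v7) (ι v7) ∨ (SemiconjBy n (ι v7) (ι e7) ∧ SemiconjBy n (ι e7) (ι v7))) ∧
    (SemiconjBy n (ι s7) (ι s7) ∨ SemiconjBy n (ι s7) (ι (s7 * z7))) := by
  obtain ⟨n, n1, n2⟩ := h.lemmaG (y := z7) (by decide +kernel) (by decide +kernel)
    (h.yes _ (by decide +kernel) (by decide +kernel)) (h.no _ (by decide +kernel) (by decide +kernel))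
  have hzz : ι z7 * ι z7 = 1 := by rw [← map_mul, show z7 * z7 = 1 by decide +kernel, map_one]
  have n3 : SemiconjBy n (t * ι z7) t := by
    have := n1.mul_right n2
    rwa [mul_assoc, hzz, mul_one] at this
  have cm : ∀ a : S7, a * z7 = z7 * a → ι a * (t * ι z7) = t * ι z7 * ι a := by
    intro a ha
    rw [← mul_assoc, ← h.comm a, mul_assoc, mul_assoc, h.comm_iff.2 ha]
  -- the element of order 3
  obtain ⟨c, hc, hcc⟩ : ∃ c, SemiconjBy n (ι c7) (ι c) ∧ (c = c7 ∨ c = c7 * c7) := by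
    have h1 : SemiconjBy n (ι c7) (n * ι c7 * n⁻¹) := by
      show n * ι c7 = n * ι c7 * n⁻¹ * n
      group
    have h3 := ((h1.mul_right h1).mul_right h1)
    rw [← map_mul, ← map_mul, show c7 * c7 * c7 = 1 by decide +kernel, map_one] at h3
    have h4 : n * ι c7 * n⁻¹ * (n * ι c7 * n⁻¹) * (n * ι c7 * n⁻¹) = 1 := by
      have := h3.eq
      rw [mul_one] at this
      exact mul_eq_right.1 this.symm
    obtain ⟨c, hc, hc3⟩ := h.three (semi_comm h1 n3 (cm c7 (by decide +kernel))) h4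
    rw [hc] at h1
    have h5 : c * z7 = z7 * c := h.comm_iff.1 (semi_comm h1 n2 (h.comm_iff.2 (by decide +kernel)))
    rcases three_z hc3 h5 with h6 | h6 | h6
    · exfalso
      refine semi_ne h1 (fun e => absurd (h.iota_eq_one e) (by decide +kernel)) ?_
      rw [h6, map_one]
    · exact ⟨c, h1, Or.inl h6⟩
    · exact ⟨c, h1, Or.inr h6⟩
  have cc : ∀ a b : S7, SemiconjBy n (ι a) (ι b) → a * c7 = c7 * a → b * c7 = c7 * b := by
    intro a b hab ha
    have h1 : b * c = c * b := h.comm_iff.1 (semi_comm hab hc (h.comm_iff.2 ha))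
    rcases hcc with rfl | rfl
    · exact h1
    · have h2 : c7 = c7 * c7 * (c7 * c7) := by decide +kernel
      rw [h2]
      rw [← mul_assoc, h1, mul_assoc (c7 * c7) b, h1, ← mul_assoc]
  -- the image of an involution of the centralizer of `z` and `c`
  have im4 : ∀ b : S7, b * b = 1 → b ≠ 1 → b ≠ z7 → b * z7 = z7 * b → b * c7 = c7 * b →
      ∃ a, SemiconjBy n (ι b) (ι a) ∧ a ∈ l4 := by
    intro b hb hb1 hbz hz hcb
    obtain ⟨a, ha, haa, ha1⟩ := h.img n3 hb hb1 (cm b hz)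
    refine ⟨a, ha, mem_l4 (h.comm_iff.1 (semi_comm ha n2 (h.comm_iff.2 hz))) (cc b a ha hcb) haa ha1 ?_⟩
    rintro rfl
    exact hbz (h.inj (semi_inj ha n2 rfl))
  obtain ⟨v', hv, lv⟩ := im4 v7 (by decide +kernel) (by decide +kernel) (by decide +kernel) (by decide +kernel)
    (by decide +kernel)
  obtain ⟨e', he, le⟩ := im4 e7 (by decide +kernel) (by decide +kernel) (by decide +kernel) (by decide +kernel)
    (by decide +kernel)
  obtain ⟨s', hs, hss, hs1⟩ := h.img n3 (b := s7) (by decide +kernel) (by decide +kernel) (cm s7 (by decide +kernel))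
  have sz : s' * z7 = z7 * s' := h.comm_iff.1 (semi_comm hs n2 (h.comm_iff.2 (by decide +kernel)))
  have sv : s' * v' = v' * s' := h.comm_iff.1 (semi_comm hs hv (h.comm_iff.2 (by decide +kernel)))
  have se : s' * e' = e' * s' := h.comm_iff.1 (semi_comm hs he (h.comm_iff.2 (by decide +kernel)))
  have ve : v' * e' ≠ e' * v' := by
    intro e
    have := semi_comm hv.inv_symm_left he.inv_symm_left (h.comm_iff.2 e)
    exact absurd (h.comm_iff.1 this) (by decide +kernel)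
  have sc : s' * c7 = c7 * c7 * s' := by
    have h1 : SemiconjBy n (ι (s7 * c7)) (ι (s' * c)) := by
      rw [map_mul, map_mul]; exact hs.mul_right hc
    have h2 : SemiconjBy n (ι (c7 * c7 * s7)) (ι (c * c * s')) := by
      rw [map_mul, map_mul, map_mul, map_mul]; exact (hc.mul_right hc).mul_right hs
    have h3 : s' * c = c * c * s' := by
      apply h.inj
      have h4 := h1.eq
      rw [show s7 * c7 = c7 * c7 * s7 by decide +kernel, h2.eq] at h4
      exact (mul_right_cancel h4).symm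
    rcases hcc with rfl | rfl
    · exact h3
    · have h4 : c7 * c7 * (c7 * c7) = c7 := by decide +kernel
      rw [h4] at h3
      calc s' * c7 = s' * (c7 * c7 * (c7 * c7)) := by rw [h4]
        _ = c7 * c7 * s' := by rw [← mul_assoc, h3, mul_assoc c7 s', h3, ← mul_assoc]
  have key := of_decide_eq_true (List.all_eq_true.1 (List.all_eq_true.1 (List.all_eq_true.1 nf_aux v' lv) e' le)
    s' (mem_l48 sz)) ve hss sc sv se
  obtain ⟨w, -, hw⟩ := List.any_eq_true.1 key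
  obtain ⟨wz, w1, w2⟩ := of_decide_eq_true hw
  have mp : ∀ a b : S7, w * a = b * w → SemiconjBy (ι w) (ι a) (ι b) := by
    intro a b hab
    have : SemiconjBy w a b := hab
    exact this.map ι
  have mt : SemiconjBy (ι w) t t := h.comm' w
  refine ⟨ι w * n, (mt.mul_right (mp _ _ wz)).mul_left n1, (mp _ _ wz).mul_left n2, ?_, ?_⟩
  · rcases w1 with w1 | ⟨w1, w3⟩
    · exact Or.inl ((mp _ _ w1).mul_left hv)
    · exact Or.inr ⟨(mp _ _ w1).mul_left hv, (mp _ _ w3).mul_left he⟩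
  · rcases w2 with w2 | w2
    · exact Or.inl ((mp _ _ w2).mul_left hs)
    · exact Or.inr ((mp _ _ w2).mul_left hs)

theorem semi_q {a b : S7} (h : q7 * a = b * q7) : SemiconjBy (ι q7) (ι a) (ι b) := by
  have : SemiconjBy q7 a b := h
  exact this.map ι

/-- an element mapping `t → t z`, `z → z` maps `e₁` to an element commuting with `c = (4 5 6)` -/
theorem e_ne (h : All t ι) {n : G} (n1 : SemiconjBy n t (t * ι z7)) (n2 : SemiconjBy n (ι z7) (ι z7))
    (n4 : SemiconjBy n (ι e7) (ι (f7 * s7))) : False := by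
  have hzz : ι z7 * ι z7 = 1 := by rw [← map_mul, show z7 * z7 = 1 by decide +kernel, map_one]
  have n3 : SemiconjBy n (t * ι z7) t := by
    have := n1.mul_right n2
    rwa [mul_assoc, hzz, mul_one] at this
  have cm : ∀ a : S7, a * z7 = z7 * a → ι a * (t * ι z7) = t * ι z7 * ι a := by
    intro a ha
    rw [← mul_assoc, ← h.comm a, mul_assoc, mul_assoc, h.comm_iff.2 ha]
  have h1 : SemiconjBy n (ι c7) (n * ι c7 * n⁻¹) := by
    show n * ι c7 = n * ι c7 * n⁻¹ * n
    group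
  have h3 := ((h1.mul_right h1).mul_right h1)
  rw [← map_mul, ← map_mul, show c7 * c7 * c7 = 1 by decide +kernel, map_one] at h3
  have h4 : n * ι c7 * n⁻¹ * (n * ι c7 * n⁻¹) * (n * ι c7 * n⁻¹) = 1 := by
    have := h3.eq
    rw [mul_one] at this
    exact mul_eq_right.1 this.symm
  obtain ⟨c, hc, hc3⟩ := h.three (semi_comm h1 n3 (cm c7 (by decide +kernel))) h4
  rw [hc] at h1
  have h5 : c * z7 = z7 * c := h.comm_iff.1 (semi_comm h1 n2 (h.comm_iff.2 (by decide +kernel)))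
  have h6 : c * (f7 * s7) = (f7 * s7) * c := h.comm_iff.1 (semi_comm h1 n4 (h.comm_iff.2 (by decide +kernel)))
  rcases three_z hc3 h5 with rfl | rfl | rfl
  · refine semi_ne h1 (fun e => absurd (h.iota_eq_one e) (by decide +kernel)) ?_
    rw [map_one]
  · exact absurd h6 (by decide +kernel)
  · exact absurd h6 (by decide +kernel)

/-- **The fusion element** (step (3)). -/
theorem exists_p (h : All t ι) : ∃ p, SemiconjBy p t (t * ι z7) ∧ SemiconjBy p (ι z7) (ι z7) ∧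
    SemiconjBy p (ι v7) (ι v7) ∧ SemiconjBy p (ι s7) (ι s7) := by
  obtain ⟨n, nt, nz, nv, ns⟩ := h.exists_n
  obtain ⟨m, mt, ms, mz, mv⟩ := h.exists_m (h.yes _ (by decide +kernel) (by decide +kernel))
    (h.no _ (by decide +kernel) (by decide +kernel))
  rcases nv with nv | ⟨nv, ne⟩
  · rcases ns with ns | ns
    · exact ⟨n, nt, nz, nv, ns⟩
    · -- `g = m⁻¹ n m` maps `t → t`, `s → s z`
      exfalso
      have g1 : SemiconjBy (m⁻¹ * (n * m)) t t :=
        mt.inv_symm_left.mul_left ((semi_tmul nt ns (by decide +kernel)).mul_left mt)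
      have g2 : SemiconjBy (m⁻¹ * (n * m)) (ι s7) (ι (s7 * z7)) :=
        (semi_mul ms mz rfl rfl).inv_symm_left.mul_left (ns.mul_left ms)
      have h1 := h.conj_of_comm g1.eq g2
      rw [show s7 * z7 = k7 by decide +kernel] at h1
      exact not_conj_sk h1
  · exfalso
    -- the element `ρ : z → v → zv → z` of `C(t) ∩ C(s)`
    have mp : ∀ w a b : S7, w * a = b * w → SemiconjBy (ι w) (ι a) (ι b) := by
      intro w a b hab
      have : SemiconjBy w a b := hab
      exact this.map ι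
    have rt : SemiconjBy (ι (r7 * r7)) t t := h.comm' _
    have rz : SemiconjBy (ι (r7 * r7)) (ι z7) (ι v7) := mp _ _ _ (by decide +kernel)
    have rv : SemiconjBy (ι (r7 * r7)) (ι v7) (ι (z7 * v7)) := mp _ _ _ (by decide +kernel)
    have rs : SemiconjBy (ι (r7 * r7)) (ι s7) (ι s7) := mp _ _ _ (by decide +kernel)
    have nf : SemiconjBy n (ι f7) (ι (z7 * v7)) := semi_mul nz ne (by decide +kernel) rfl
    -- `k = n⁻¹ ρ m n`
    have he : SemiconjBy (n⁻¹ * (ι (r7 * r7) * (m * n))) (ι e7) (ι f7) :=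
      nf.inv_symm_left.mul_left (rv.mul_left (mv.mul_left ne))
    have hz : SemiconjBy (n⁻¹ * (ι (r7 * r7) * (m * n))) (ι z7) (ι e7) :=
      ne.inv_symm_left.mul_left (rz.mul_left (mz.mul_left nz))
    have ht0 : SemiconjBy (ι (r7 * r7) * (m * n)) t (t * ι (s7 * v7)) :=
      (semi_tmul0 rt (semi_mul rs rz rfl rfl)).mul_left ((semi_tmul mt mz rfl).mul_left nt)
    rcases ns with ns | ns
    · -- `s → s`
      have ht : SemiconjBy (n⁻¹ * (ι (r7 * r7) * (m * n))) t (t * ι (s7 * f7)) :=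
        SemiconjBy.mul_left (SemiconjBy.inv_symm_left (semi_tmul nt (semi_mul ns nf rfl rfl)
          (by decide +kernel))) ht0
      have hs : SemiconjBy (n⁻¹ * (ι (r7 * r7) * (m * n))) (ι s7) (ι s7) :=
        ns.inv_symm_left.mul_left (rs.mul_left (ms.mul_left ns))
      generalize n⁻¹ * (ι (r7 * r7) * (m * n)) = k at he hz ht hs
      -- `k' = q² k q²`
      have qt : SemiconjBy (ι (q7 * q7)) t t := h.comm' _
      have q1 : SemiconjBy (ι (q7 * q7)) (ι e7) (ι s7) := mp _ _ _ (by decide +kernel)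
      have q2 : SemiconjBy (ι (q7 * q7)) (ι s7) (ι f7) := mp _ _ _ (by decide +kernel)
      have q3 : SemiconjBy (ι (q7 * q7)) (ι f7) (ι e7) := mp _ _ _ (by decide +kernel)
      have kt : SemiconjBy (ι (q7 * q7) * (k * ι (q7 * q7))) t (t * ι z7) :=
        (semi_tmul0 qt (semi_mul q2 q3 rfl (by decide +kernel))).mul_left (ht.mul_left qt)
      have ke : SemiconjBy (ι (q7 * q7) * (k * ι (q7 * q7))) (ι e7) (ι f7) :=
        q2.mul_left (hs.mul_left q1)
      have kz : SemiconjBy (ι (q7 * q7) * (k * ι (q7 * q7))) (ι z7) (ι z7) :=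
        -- z = e f → s e → s f → f e
        (semi_mul q2 q3 rfl (by decide +kernel)).mul_left
          ((semi_mul hs he rfl rfl).mul_left (semi_mul q1 q3 (by decide +kernel) rfl))
      have kf : SemiconjBy (ι (q7 * q7) * (k * ι (q7 * q7))) (ι f7) (ι e7) :=
        semi_mul kz ke (by decide +kernel) (by decide +kernel)
      generalize ι (q7 * q7) * (k * ι (q7 * q7)) = k' at kt ke kz kf
      have g1 : SemiconjBy (k'⁻¹ * n) t t := kt.inv_symm_left.mul_left nt
      have g2 : SemiconjBy (k'⁻¹ * n) (ι v7) (ι f7) := kf.inv_symm_left.mul_left nv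
      have h1 := sign_conj (h.conj_of_comm g1.eq g2)
      exact absurd h1 (by decide +kernel)
    · -- `s → s z`
      have ht : SemiconjBy (n⁻¹ * (ι (r7 * r7) * (m * n))) t (t * ι (s7 * e7)) :=
        SemiconjBy.mul_left (SemiconjBy.inv_symm_left (semi_tmul nt (semi_mul ns ne rfl rfl)
          (by decide +kernel))) ht0
      have hs : SemiconjBy (n⁻¹ * (ι (r7 * r7) * (m * n))) (ι s7) (ι (s7 * f7)) :=
        (semi_mul ns nf rfl (by decide +kernel : s7 * z7 * (z7 * v7) = s7 * v7)).inv_symm_left.mul_left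
          ((semi_mul rs rz rfl rfl).mul_left ((semi_mul ms mz rfl rfl).mul_left ns))
      generalize n⁻¹ * (ι (r7 * r7) * (m * n)) = k at he hz ht hs
      have qt : SemiconjBy (ι q7) t t := h.comm' _
      have q1 : SemiconjBy (ι q7) (ι e7) (ι f7) := mp _ _ _ (by decide +kernel)
      have q2 : SemiconjBy (ι q7) (ι f7) (ι s7) := mp _ _ _ (by decide +kernel)
      have q3 : SemiconjBy (ι q7) (ι s7) (ι e7) := mp _ _ _ (by decide +kernel)
      have hf : SemiconjBy k (ι f7) (ι z7) := semi_mul hz he (by decide +kernel) (by decide +kernel)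
      have kt : SemiconjBy (ι q7 * (k * ι q7)) t (t * ι z7) :=
        (semi_tmul0 qt (semi_mul q3 q1 rfl (by decide +kernel))).mul_left (ht.mul_left qt)
      have kz : SemiconjBy (ι q7 * (k * ι q7)) (ι z7) (ι z7) :=
        -- e f → f s → z (s f) = s e → e f
        (semi_mul q3 q1 rfl (by decide +kernel)).mul_left
          ((semi_mul hf hs rfl (by decide +kernel)).mul_left (semi_mul q1 q2 (by decide +kernel) rfl))
      have ke : SemiconjBy (ι q7 * (k * ι q7)) (ι e7) (ι (f7 * s7)) := by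
        have h1 : SemiconjBy (ι q7) (ι z7) (ι (f7 * s7)) := mp _ _ _ (by decide +kernel)
        exact h1.mul_left (hf.mul_left q1)
      exact h.e_ne kt kz ke

end All

end Cfsg.Agent.OddHalf.D5.Seven
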