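import Cfsg.Agent.OddHalf.D5.Seven.Frame

/-!
# ODD half, D5, `K = A₇`: facts about `S₇`

`C_{S₇}(z) = D₈ × S₃` as an explicit list of 48 permutations (`mem_l48`); the finite facts are checked on the list.
-/

set_option autoImplicit false
set_option maxRecDepth 100000

namespace Cfsg.Agent.OddHalf.D5.Seven

open Equiv

/-- `e₁ = (0 1)` -/
def e7 : Perm (Fin 7) := swap 0 1
/-- `e₂ = (2 3)` -/
def f7 : Perm (Fin 7) := swap 2 3
/-- the 3-cycle `(4 5 6)` -/
def c7 : Perm (Fin 7) := swap 4 5 * swap 5 6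
/-- `e₁ → e₂ → e₃` -/
def q7 : Perm (Fin 7) := (swap 0 2 * swap 2 4) * (swap 1 3 * swap 3 5)

/-- `D₈` on `{0,1,2,3}` -/
def l8 : List (Perm (Fin 7)) := [1, e7, f7, z7, v7, z7 * v7, e7 * v7, f7 * v7]
/-- `S₃` on `{4,5,6}` -/
def l6 : List (Perm (Fin 7)) := [1, c7, c7 * c7, s7, s7 * c7, s7 * (c7 * c7)]
/-- the centralizer of `z` -/
def l48 : List (Perm (Fin 7)) := l8.flatMap fun a => l6.map fun b => a * b

theorem l48_all {P : Perm (Fin 7) → Prop} [DecidablePred P] (h : l48.all (fun p => decide (P p)) = true) :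
    ∀ p ∈ l48, P p := fun p hp => of_decide_eq_true (List.all_eq_true.1 h p hp)

theorem l8_vals : ∀ a : Fin 7, z7 a ≠ a → ∀ b : Fin 7, z7 b ≠ b → b ≠ a → b ≠ z7 a →
    l8.any (fun p => decide (p 0 = a ∧ p 2 = b)) = true := by decide +kernel

theorem l6_vals : ∀ c : Fin 7, z7 c = c → ∀ d : Fin 7, z7 d = d → d ≠ c → ∀ e : Fin 7, z7 e = e → e ≠ c → e ≠ d →
    l6.any (fun p => decide (p 4 = c ∧ p 5 = d ∧ p 6 = e)) = true := by decide +kernel

theorem l8_fix : l8.all (fun p => decide (p 4 = 4 ∧ p 5 = 5 ∧ p 6 = 6 ∧ p 1 = z7 (p 0) ∧ p 3 = z7 (p 2))) = true := by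
  decide +kernel
theorem l6_fix : l6.all (fun p => decide (p 0 = 0 ∧ p 1 = 1 ∧ p 2 = 2 ∧ p 3 = 3 ∧
    z7 (p 4) = p 4 ∧ z7 (p 5) = p 5 ∧ z7 (p 6) = p 6)) = true := by decide +kernel

theorem z7_0 : z7 0 = 1 := by decide
theorem z7_2 : z7 2 = 3 := by decide
theorem z7_4 : z7 4 = 4 := by decide
theorem z7_5 : z7 5 = 5 := by decide
theorem z7_6 : z7 6 = 6 := by decide

theorem ext7 {g p : Perm (Fin 7)} (h0 : g 0 = p 0) (h1 : g 1 = p 1) (h2 : g 2 = p 2) (h3 : g 3 = p 3)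
    (h4 : g 4 = p 4) (h5 : g 5 = p 5) (h6 : g 6 = p 6) : g = p := by
  ext i
  fin_cases i
  · exact congrArg Fin.val h0
  · exact congrArg Fin.val h1
  · exact congrArg Fin.val h2
  · exact congrArg Fin.val h3
  · exact congrArg Fin.val h4
  · exact congrArg Fin.val h5
  · exact congrArg Fin.val h6

theorem mem_l48 {g : Perm (Fin 7)} (h : g * z7 = z7 * g) : g ∈ l48 := by
  have hp : ∀ i, g (z7 i) = z7 (g i) := fun i => congrFun (congrArg DFunLike.coe h) i
  have hinj := g.injective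
  have h0 : z7 (g 0) ≠ g 0 := by
    rw [← hp]; exact hinj.ne (by decide)
  have h2 : z7 (g 2) ≠ g 2 := by
    rw [← hp]; exact hinj.ne (by decide)
  have h20 : g 2 ≠ g 0 := hinj.ne (by decide)
  have h21 : g 2 ≠ z7 (g 0) := by rw [← hp]; exact hinj.ne (by decide)
  have h4 : z7 (g 4) = g 4 := by rw [← hp, z7_4]
  have h5 : z7 (g 5) = g 5 := by rw [← hp, z7_5]
  have h6 : z7 (g 6) = g 6 := by rw [← hp, z7_6]
  obtain ⟨a, ha, ha'⟩ := List.any_eq_true.1 (l8_vals (g 0) h0 (g 2) h2 h20 h21)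
  obtain ⟨b, hb, hb'⟩ := List.any_eq_true.1 (l6_vals (g 4) h4 (g 5) h5 (hinj.ne (by decide)) (g 6) h6
    (hinj.ne (by decide)) (hinj.ne (by decide)))
  obtain ⟨a0, a2⟩ := of_decide_eq_true ha'
  obtain ⟨b4, b5, b6⟩ := of_decide_eq_true hb'
  obtain ⟨a4, a5, a6, a1, a3⟩ := of_decide_eq_true (List.all_eq_true.1 l8_fix a ha)
  obtain ⟨c0, c1, c2, c3, c4, c5, c6⟩ := of_decide_eq_true (List.all_eq_true.1 l6_fix b hb)
  have key : ∀ i : Fin 7, z7 i = i → a i = i := by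
    intro i
    fin_cases i
    · intro h; exact absurd h (by decide)
    · intro h; exact absurd h (by decide)
    · intro h; exact absurd h (by decide)
    · intro h; exact absurd h (by decide)
    · intro _; exact a4
    · intro _; exact a5
    · intro _; exact a6
  have e1 : g 1 = z7 (g 0) := by rw [← z7_0, hp]
  have e3 : g 3 = z7 (g 2) := by rw [← z7_2, hp]
  have : g = a * b := by
    apply ext7
    · rw [Perm.mul_apply, c0, a0]
    · rw [Perm.mul_apply, c1, a1, a0, e1]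
    · rw [Perm.mul_apply, c2, a2]
    · rw [Perm.mul_apply, c3, a3, a2, e3]
    · rw [Perm.mul_apply, key _ c4, b4]
    · rw [Perm.mul_apply, key _ c5, b5]
    · rw [Perm.mul_apply, key _ c6, b6]
  rw [this]
  exact List.mem_flatMap.2 ⟨a, ha, List.mem_map.2 ⟨b, hb, rfl⟩⟩

/-- elements of order 3 commuting with `z` -/
theorem three_z {g : Perm (Fin 7)} (h3 : g * g * g = 1) (h : g * z7 = z7 * g) : g = 1 ∨ g = c7 ∨ g = c7 * c7 :=
  l48_all (P := fun p => p * p * p = 1 → p = 1 ∨ p = c7 ∨ p = c7 * c7) (by decide +kernel) g (mem_l48 h) h3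

theorem sq_P {g : Perm (Fin 7)} (h : g * z7 = z7 * g) (hs : g * s7 = s7 * g) : g * g = 1 ∨ g * g = z7 :=
  l48_all (P := fun p => p * s7 = s7 * p → p * p = 1 ∨ p * p = z7) (by decide +kernel) g (mem_l48 h) hs

end Cfsg.Agent.OddHalf.D5.Seven
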