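import Cfsg.Agent.OddHalf.D5.Seven.Types
import Cfsg.Agent.OddHalf.D5.Seven.Defs

/-!
# ODD half, D5, `K = A₇`: LEMMA G

`C_G(t) = ⟨t⟩ × ι(S₇)`, `y ∈ S₇` an involution with `t ~ t ι(y)`, `t ≁ ι(y)`. Then some `g` with `t ^ g = t ι(y)`
centralizes `ι(y)`: the type of `y' = ι(y) ^ g⁻¹` is recovered from the group `C(t) ∩ C(y')`.
-/

set_option autoImplicit false
set_option maxRecDepth 100000

namespace Cfsg.Agent.OddHalf.D5.Seven

open Equiv Subgroup

variable {G : Type*} [Group G] {t : G} {ι : S7 →* G}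

theorem semi_conj {g x y : G} (h : SemiconjBy g x y) : IsConj x y :=
  isConj_iff.2 ⟨g, by rw [h.eq, mul_inv_cancel_right]⟩

theorem exists_semi {x y : G} (h : IsConj x y) : ∃ g, SemiconjBy g x y := by
  obtain ⟨g, hg⟩ := isConj_iff.1 h
  exact ⟨g, by rw [SemiconjBy, ← hg, inv_mul_cancel_right]⟩

/-- `C(t) ∩ C(y)` -/
def Ct (t y : G) : Type _ := {g : G // g * t = t * g ∧ g * y = y * g}

/-- conjugation transports `C(t) ∩ C(y)` -/
def Ct.equiv {g t y t' y' : G} (h1 : SemiconjBy g t t') (h2 : SemiconjBy g y y') : Ct t y ≃ Ct t' y' where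
  toFun x := ⟨g * x.1 * g⁻¹, by
      have e : g * t * g⁻¹ = t' := by rw [h1.eq, mul_inv_cancel_right]
      rw [← e]
      calc g * x.1 * g⁻¹ * (g * t * g⁻¹) = g * (x.1 * t) * g⁻¹ := by group
        _ = g * (t * x.1) * g⁻¹ := by rw [x.2.1]
        _ = _ := by group, by
      have e : g * y * g⁻¹ = y' := by rw [h2.eq, mul_inv_cancel_right]
      rw [← e]
      calc g * x.1 * g⁻¹ * (g * y * g⁻¹) = g * (x.1 * y) * g⁻¹ := by group
        _ = g * (y * x.1) * g⁻¹ := by rw [x.2.2]
        _ = _ := by group⟩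
  invFun x := ⟨g⁻¹ * x.1 * g, by
      have e : g⁻¹ * t' * g = t := by rw [mul_assoc, ← h1.eq, inv_mul_cancel_left]
      rw [← e]
      calc g⁻¹ * x.1 * g * (g⁻¹ * t' * g) = g⁻¹ * (x.1 * t') * g := by group
        _ = g⁻¹ * (t' * x.1) * g := by rw [x.2.1]
        _ = _ := by group, by
      have e : g⁻¹ * y' * g = y := by rw [mul_assoc, ← h2.eq, inv_mul_cancel_left]
      rw [← e]
      calc g⁻¹ * x.1 * g * (g⁻¹ * y' * g) = g⁻¹ * (x.1 * y') * g := by group
        _ = g⁻¹ * (y' * x.1) * g := by rw [x.2.2]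
        _ = _ := by group⟩
  left_inv x := Subtype.ext (by group)
  right_inv x := Subtype.ext (by group)

/-- the 3-elements of `C(t) ∩ C(y)` commute -/
def TC (t y : G) : Prop := ∀ a b : G, a * t = t * a → a * y = y * a → a * a * a = 1 →
  b * t = t * b → b * y = y * b → b * b * b = 1 → a * b = b * a

theorem TC.conj {g t y t' y' : G} (h1 : SemiconjBy g t t') (h2 : SemiconjBy g y y') (h : TC t y) : TC t' y' := by
  intro a b h3 h4 h5 h6 h7 h8
  have e1 : g⁻¹ * t' * g = t := by rw [mul_assoc, ← h1.eq, inv_mul_cancel_left]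
  have e2 : g⁻¹ * y' * g = y := by rw [mul_assoc, ← h2.eq, inv_mul_cancel_left]
  have key : ∀ x z : G, x * z = z * x → (g⁻¹ * x * g) * (g⁻¹ * z * g) = (g⁻¹ * z * g) * (g⁻¹ * x * g) := by
    intro x z hxz
    calc (g⁻¹ * x * g) * (g⁻¹ * z * g) = g⁻¹ * (x * z) * g := by group
      _ = g⁻¹ * (z * x) * g := by rw [hxz]
      _ = _ := by group
  have key3 : ∀ x : G, x * x * x = 1 → (g⁻¹ * x * g) * (g⁻¹ * x * g) * (g⁻¹ * x * g) = 1 := by
    intro x hx
    calc (g⁻¹ * x * g) * (g⁻¹ * x * g) * (g⁻¹ * x * g) = g⁻¹ * (x * x * x) * g := by group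
      _ = 1 := by rw [hx]; group
  have h9 := h (g⁻¹ * a * g) (g⁻¹ * b * g) (by rw [← e1]; exact key _ _ h3) (by rw [← e2]; exact key _ _ h4)
    (key3 _ h5) (by rw [← e1]; exact key _ _ h6) (by rw [← e2]; exact key _ _ h7) (key3 _ h8)
  calc a * b = g * ((g⁻¹ * a * g) * (g⁻¹ * b * g)) * g⁻¹ := by group
    _ = g * ((g⁻¹ * b * g) * (g⁻¹ * a * g)) * g⁻¹ := by rw [h9]
    _ = b * a := by group

namespace Spl

theorem comm_iff (h : Spl t ι) {a b : S7} : ι a * ι b = ι b * ι a ↔ a * b = b * a := by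
  rw [← map_mul, ← map_mul]
  exact h.inj.eq_iff

theorem tt_mul (h : Spl t ι) (x : G) : t * (t * x) = x := by rw [← mul_assoc, h.tt, one_mul]

/-- an element of `C(t) ∩ C(ι a)` -/
noncomputable def toCt (h : Spl t ι) (a : S7) : Bool × centralizer {a} → Ct t (ι a) := fun p =>
  ⟨(if p.1 then t else 1) * ι p.2.1, by
    have hc := h.comm p.2.1
    split_ifs
    · rw [mul_assoc, ← hc]
    · rw [one_mul, hc], by
    have hc := mem_centralizer_singleton_iff.1 p.2.2
    have hc' : ι p.2.1 * ι a = ι a * ι p.2.1 := h.comm_iff.2 hc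
    split_ifs
    · rw [mul_assoc, hc', ← mul_assoc, ← mul_assoc, h.comm a]
    · rw [one_mul, hc']⟩

theorem toCt_bij (h : Spl t ι) (a : S7) : Function.Bijective (h.toCt a) := by
  constructor
  · rintro ⟨i, x⟩ ⟨j, y⟩ e
    have e' : (if i then t else 1) * ι x.1 = (if j then t else 1) * ι y.1 := congrArg Subtype.val e
    rcases i with _ | _ <;> rcases j with _ | _
    · simp only [Bool.false_eq_true, if_false, one_mul] at e'
      rw [Subtype.ext (h.inj e')]
    · simp only [Bool.false_eq_true, if_false, one_mul, if_true] at e'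
      exact absurd e' (h.tne _ _)
    · simp only [Bool.false_eq_true, if_false, one_mul, if_true] at e'
      exact absurd e'.symm (h.tne _ _)
    · simp only [if_true, mul_right_inj] at e'
      rw [Subtype.ext (h.inj e')]
  · rintro ⟨x, hx1, hx2⟩
    rcases h.cent x hx1 with ⟨b, rfl⟩ | ⟨b, rfl⟩
    · refine ⟨(false, ⟨b, mem_centralizer_singleton_iff.2 (h.comm_iff.1 hx2)⟩), Subtype.ext ?_⟩
      show (if false = true then t else 1) * ι b = ι b
      simp
    · have hb : b * a = a * b := by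
        apply h.comm_iff.1
        have h1 : t * (ι b * ι a) = t * (ι a * ι b) := by
          rw [← mul_assoc, hx2, ← mul_assoc, ← mul_assoc, h.comm a]
        exact mul_left_cancel h1
      refine ⟨(true, ⟨b, mem_centralizer_singleton_iff.2 hb⟩), Subtype.ext ?_⟩
      show (if true = true then t else 1) * ι b = t * ι b
      simp

theorem card_Ct (h : Spl t ι) (a : S7) : Nat.card (Ct t (ι a)) = 2 * Nat.card (centralizer {a}) := by
  rw [← Nat.card_congr (Equiv.ofBijective _ (h.toCt_bij a)), Nat.card_prod]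
  congr 1
  rw [Nat.card_eq_fintype_card, Fintype.card_bool]

/-- an element of order 3 of `C(t)` lies in `ι(S₇)` -/
theorem three (h : Spl t ι) {x : G} (hx : x * t = t * x) (h3 : x * x * x = 1) : ∃ a, x = ι a ∧ a * a * a = 1 := by
  rcases h.cent x hx with ⟨a, rfl⟩ | ⟨a, rfl⟩
  · refine ⟨a, rfl, ?_⟩
    apply h.iota_eq_one
    rw [map_mul, map_mul, h3]
  · exfalso
    have h1 : t * ι a * (t * ι a) * (t * ι a) = t * ι (a * a * a) := by
      rw [map_mul, map_mul]
      calc t * ι a * (t * ι a) * (t * ι a) = t * (ι a * t) * ι a * (t * ι a) := by group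
        _ = t * (t * ι a) * ι a * (t * ι a) := by rw [h.comm a]
        _ = ι a * (ι a * t) * ι a := by rw [h.tt_mul]; group
        _ = ι a * (t * ι a) * ι a := by rw [h.comm a]
        _ = (ι a * t) * ι a * ι a := by group
        _ = t * ι a * ι a * ι a := by rw [h.comm a]
        _ = _ := by group
    rw [h1] at h3
    have h2 : ι (a * a * a) = t := by
      calc ι (a * a * a) = t * (t * ι (a * a * a)) := (h.tt_mul _).symm
        _ = t := by rw [h3, mul_one]
    exact h.ne _ h2

theorem tc_iff (h : Spl t ι) (y : S7) : TC t (ι y) ↔ ∀ a b : S7, a * y = y * a → a * a * a = 1 →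
    b * y = y * b → b * b * b = 1 → a * b = b * a := by
  constructor
  · intro hT a b h1 h2 h3 h4
    have := hT (ι a) (ι b) (h.comm' a) (h.comm_iff.2 h1) (by rw [← map_mul, ← map_mul, h2, map_one])
      (h.comm' b) (h.comm_iff.2 h3) (by rw [← map_mul, ← map_mul, h4, map_one])
    exact h.comm_iff.1 this
  · intro hT a b h1 h2 h3 h4 h5 h6
    obtain ⟨a', rfl, ha⟩ := h.three h1 h3
    obtain ⟨b', rfl, hb⟩ := h.three h4 h6
    exact h.comm_iff.2 (hT a' b' (h.comm_iff.1 h2) ha (h.comm_iff.1 h5) hb)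

theorem tc_z (h : Spl t ι) : TC t (ι z7) := by
  rw [h.tc_iff]
  intro a b h1 h2 h3 h4
  rcases three_z h2 h1 with rfl | rfl | rfl <;> rcases three_z h4 h3 with rfl | rfl | rfl <;> decide +kernel

theorem not_tc_k (h : Spl t ι) : ¬ TC t (ι k7) := by
  rw [h.tc_iff]
  intro hT
  exact absurd (hT q7 (e7 * q7 * e7) (by decide +kernel) (by decide +kernel) (by decide +kernel) (by decide +kernel))
    (by decide +kernel)

theorem iota_conj {a b : S7} (hab : IsConj a b) : IsConj (ι a) (ι b) := by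
  obtain ⟨c, hc⟩ := exists_semi hab
  exact semi_conj (hc.map ι)

/-- the type of `a` is determined by the group `C(t) ∩ C(ι a)` -/
theorem type_inv (h : Spl t ι) {a y : S7} (ha : a * a = 1) (ha1 : a ≠ 1) (hy : y * y = 1) (hy1 : y ≠ 1)
    (h1 : Nat.card (Ct t (ι a)) = Nat.card (Ct t (ι y))) (h3 : TC t (ι a) ↔ TC t (ι y)) : IsConj a y := by
  rw [h.card_Ct, h.card_Ct] at h1
  have hcc : Nat.card (centralizer {a}) = Nat.card (centralizer {y}) := by omega
  have tcc : ∀ u v : S7, IsConj u v → (TC t (ι u) ↔ TC t (ι v)) := by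
    intro u v huv
    obtain ⟨c, hc⟩ := exists_semi huv
    have hc' : SemiconjBy (ι c) (ι u) (ι v) := hc.map ι
    have ht' : SemiconjBy (ι c) t t := h.comm' c
    exact ⟨fun h => h.conj ht' hc', fun h => h.conj ht'.inv_symm_left hc'.inv_symm_left⟩
  have ccc : ∀ u v : S7, IsConj u v → Nat.card (centralizer {u}) = Nat.card (centralizer {v}) := by
    intro u v huv
    rw [Perm.nat_card_centralizer, Perm.nat_card_centralizer, Perm.isConj_iff_cycleType_eq.1 huv]
  rcases types ha ha1 with h4 | h4 | h4 <;> rcases types hy hy1 with h5 | h5 | h5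
  · exact h4.symm.trans h5
  · rw [← ccc _ _ h4, ← ccc _ _ h5, card_cent_s7, card_cent_z7] at hcc
    omega
  · rw [← ccc _ _ h4, ← ccc _ _ h5, card_cent_s7, card_cent_k7] at hcc
    omega
  · rw [← ccc _ _ h4, ← ccc _ _ h5, card_cent_s7, card_cent_z7] at hcc
    omega
  · exact h4.symm.trans h5
  · exact absurd ((tcc _ _ h5).2 (h3.1 ((tcc _ _ h4).1 h.tc_z))) h.not_tc_k
  · rw [← ccc _ _ h4, ← ccc _ _ h5, card_cent_s7, card_cent_k7] at hcc
    omega
  · exact absurd ((tcc _ _ h4).2 (h3.2 ((tcc _ _ h5).1 h.tc_z))) h.not_tc_k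
  · exact h4.symm.trans h5

/-- **LEMMA G.** -/
theorem lemmaG (h : Spl t ι) {y : S7} (hy : y * y = 1) (hy1 : y ≠ 1) (hc : IsConj t (t * ι y))
    (hn : ¬ IsConj t (ι y)) : ∃ g, SemiconjBy g t (t * ι y) ∧ SemiconjBy g (ι y) (ι y) := by
  obtain ⟨g, hg⟩ := exists_semi hc
  have hgy : SemiconjBy g (g⁻¹ * ι y * g) (ι y) := by
    show g * (g⁻¹ * ι y * g) = ι y * g
    group
  set y' := g⁻¹ * ι y * g with hy'
  have hyy : ι y * ι y = 1 := by rw [← map_mul, hy, map_one]
  have hyy' : y' * y' = 1 := by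
    rw [hy']
    calc g⁻¹ * ι y * g * (g⁻¹ * ι y * g) = g⁻¹ * (ι y * ι y) * g := by group
      _ = 1 := by rw [hyy]; group
  have e1 : t = g⁻¹ * (t * ι y) * g := by rw [mul_assoc, ← hg.eq, inv_mul_cancel_left]
  have hcomm : y' * t = t * y' := by
    have e2 : ι y * (t * ι y) = (t * ι y) * ι y := by rw [← mul_assoc, ← h.comm y]
    calc y' * t = y' * (g⁻¹ * (t * ι y) * g) := by rw [← e1]
      _ = g⁻¹ * (ι y * (t * ι y)) * g := by rw [hy']; group
      _ = (g⁻¹ * (t * ι y) * g) * y' := by rw [e2, hy']; group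
      _ = t * y' := by rw [← e1]
  have hty : SemiconjBy g (t * y') t := by
    have h1 := hg.mul_right hgy
    rwa [mul_assoc, hyy, mul_one] at h1
  obtain ⟨a, ha⟩ := h.cases hcomm
  have haa : a * a = 1 := by
    apply h.iota_eq_one
    rw [map_mul]
    rcases ha with ha | ha
    · rw [← ha, hyy']
    · have : ι a = t * y' := by rw [ha, h.tt_mul]
      rw [this]
      calc t * y' * (t * y') = t * (y' * t) * y' := by group
        _ = t * (t * y') * y' := by rw [hcomm]
        _ = 1 := by rw [h.tt_mul, hyy']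
  have ha1 : a ≠ 1 := by
    rintro rfl
    rw [map_one, mul_one] at ha
    rcases ha with ha | ha
    · rw [ha] at hgy
      apply hy1
      apply h.iota_eq_one
      have h2 := hgy.eq
      rw [mul_one] at h2
      exact (mul_eq_right.1 h2.symm)
    · rw [ha] at hgy
      exact hn (semi_conj hgy)
  have hP : ∀ x : G, x * t = t * x → (x * y' = y' * x ↔ x * ι a = ι a * x) := by
    intro x hx
    rcases ha with ha | ha
    · rw [ha]
    · rw [ha]
      constructor
      · intro h1
        have h2 : t * (x * ι a) = t * (ι a * x) := by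
          calc t * (x * ι a) = (t * x) * ι a := by group
            _ = (x * t) * ι a := by rw [hx]
            _ = x * (t * ι a) := by group
            _ = (t * ι a) * x := h1
            _ = _ := by group
        exact mul_left_cancel h2
      · intro h1
        calc x * (t * ι a) = (x * t) * ι a := by group
          _ = t * (x * ι a) := by rw [hx]; group
          _ = t * (ι a * x) := by rw [h1]
          _ = _ := by group
  have hQ : ∀ x : G, (x * (t * ι y) = (t * ι y) * x ∧ x * ι y = ι y * x) ↔ (x * t = t * x ∧ x * ι y = ι y * x) := by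
    intro x
    constructor
    · rintro ⟨h1, h2⟩
      refine ⟨?_, h2⟩
      have e : t = t * ι y * ι y := by rw [mul_assoc, hyy, mul_one]
      calc x * t = x * (t * ι y) * ι y := by rw [mul_assoc, ← e]
        _ = (t * ι y) * (x * ι y) := by rw [h1]; group
        _ = (t * ι y * ι y) * x := by rw [h2]; group
        _ = t * x := by rw [← e]
    · rintro ⟨h1, h2⟩
      refine ⟨?_, h2⟩
      calc x * (t * ι y) = (x * t) * ι y := by group
        _ = t * (x * ι y) := by rw [h1]; group
        _ = _ := by rw [h2]; group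
  have hconj : IsConj a y := by
    apply h.type_inv haa ha1 hy hy1
    · have e2 : Nat.card (Ct t y') = Nat.card (Ct (t * ι y) (ι y)) := Nat.card_congr (Ct.equiv hg hgy)
      have e3 : Nat.card (Ct t y') = Nat.card (Ct t (ι a)) := by
        apply Nat.card_congr
        exact Equiv.subtypeEquivRight fun x => and_congr_right (hP x)
      have e4 : Nat.card (Ct (t * ι y) (ι y)) = Nat.card (Ct t (ι y)) := by
        apply Nat.card_congr
        exact Equiv.subtypeEquivRight hQ
      rw [← e3, e2, e4]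
    · have e2 : TC t y' ↔ TC (t * ι y) (ι y) :=
        ⟨fun h1 => h1.conj hg hgy, fun h1 => h1.conj hg.inv_symm_left hgy.inv_symm_left⟩
      have e3 : TC t y' ↔ TC t (ι a) := by
        constructor
        · intro hT a b h1 h2 h3 h4 h5 h6
          exact hT a b h1 ((hP a h1).2 h2) h3 h4 ((hP b h4).2 h5) h6
        · intro hT a b h1 h2 h3 h4 h5 h6
          exact hT a b h1 ((hP a h1).1 h2) h3 h4 ((hP b h4).1 h5) h6
      have e4 : TC (t * ι y) (ι y) ↔ TC t (ι y) := by
        constructor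
        · intro hT a b h1 h2 h3 h4 h5 h6
          exact hT a b ((hQ a).2 ⟨h1, h2⟩).1 h2 h3 ((hQ b).2 ⟨h4, h5⟩).1 h5 h6
        · intro hT a b h1 h2 h3 h4 h5 h6
          exact hT a b ((hQ a).1 ⟨h1, h2⟩).1 h2 h3 ((hQ b).1 ⟨h4, h5⟩).1 h5 h6
      rw [← e3, e2, e4]
  rcases ha with ha | ha
  · obtain ⟨c, hcc⟩ := exists_semi hconj.symm
    have hc1 : SemiconjBy (ι c) (ι y) (ι a) := hcc.map ι
    have hc2 : SemiconjBy (ι c) t t := h.comm' c
    exact ⟨g * ι c, hg.mul_left hc2, hgy.mul_left (ha ▸ hc1)⟩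
  · exfalso
    apply hn
    have e5 : t * y' = ι a := by rw [ha, h.tt_mul]
    rw [e5] at hty
    exact (semi_conj hty).symm.trans (iota_conj hconj)

end Spl

end Cfsg.Agent.OddHalf.D5.Seven
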