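import Cfsg.Agent.OddHalf.D5.Seven.PermFacts

/-!
# ODD half, D5, `K = A₇`: the three classes of involutions of `S₇`

`s₇ = (4 5)`, `z₇ = (0 1)(2 3)`, `k₇ = (0 1)(2 3)(4 5)`; centralizers of order 240, 48, 48; classes of sizes 21, 105, 105.
-/

set_option autoImplicit false
set_option maxRecDepth 100000

namespace Cfsg.Agent.OddHalf.D5.Seven

open Equiv Subgroup

/-- `(0 1)(2 3)(4 5)` -/
def k7 : Perm (Fin 7) := e7 * f7 * s7

theorem cyc_inv {a : Perm (Fin 7)} (h : a * a = 1) :
    a.cycleType = Multiset.replicate (Multiset.card a.cycleType) 2 := by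
  have := Fact.mk Nat.prime_two
  exact Perm.cycleType_of_pow_prime_eq_one (by rw [pow_two, h])

theorem cyc_card {a : Perm (Fin 7)} (h : a * a = 1) : Multiset.card a.cycleType * 2 = a.support.card := by
  have h1 := Perm.sum_cycleType a
  rw [cyc_inv h, Multiset.sum_replicate, smul_eq_mul] at h1
  exact h1

theorem cyc_of {a : Perm (Fin 7)} (h : a * a = 1) {k : ℕ} (hk : a.support.card = k * 2) :
    a.cycleType = Multiset.replicate k 2 := by
  have h1 := cyc_card h
  have h2 : Multiset.card a.cycleType = k := by omega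
  rw [cyc_inv h, h2]

theorem cyc_s7 : s7.cycleType = Multiset.replicate 1 2 := cyc_of (by decide +kernel) (by decide +kernel)
theorem cyc_z7 : z7.cycleType = Multiset.replicate 2 2 := cyc_of (by decide +kernel) (by decide +kernel)
theorem cyc_k7 : k7.cycleType = Multiset.replicate 3 2 := cyc_of (by decide +kernel) (by decide +kernel)

/-- the type of an involution -/
theorem types {a : Perm (Fin 7)} (h : a * a = 1) (h1 : a ≠ 1) : IsConj s7 a ∨ IsConj z7 a ∨ IsConj k7 a := by
  have h2 := cyc_card h
  have h3 : a.support.card ≤ 7 := by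
    have := Finset.card_le_univ a.support
    simpa using this
  have h4 : Multiset.card a.cycleType ≠ 0 := by
    intro h5
    exact h1 (Perm.card_cycleType_eq_zero.1 h5)
  have h5 : Multiset.card a.cycleType = 1 ∨ Multiset.card a.cycleType = 2 ∨ Multiset.card a.cycleType = 3 := by
    omega
  rcases h5 with h5 | h5 | h5
  · left
    rw [Perm.isConj_iff_cycleType_eq, cyc_s7, cyc_inv h, h5]
  · right; left
    rw [Perm.isConj_iff_cycleType_eq, cyc_z7, cyc_inv h, h5]
  · right; right
    rw [Perm.isConj_iff_cycleType_eq, cyc_k7, cyc_inv h, h5]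

theorem card_cent {a : Perm (Fin 7)} {k : ℕ} (hk : 0 < k) (h : a.cycleType = Multiset.replicate k 2) :
    Nat.card (centralizer {a}) = (7 - k * 2).factorial * 2 ^ k * k.factorial := by
  rw [Perm.nat_card_centralizer, h, Multiset.sum_replicate, Multiset.prod_replicate, smul_eq_mul,
    Fintype.card_fin]
  have h1 : (Multiset.replicate k 2).toFinset = {2} := by
    rw [Multiset.toFinset_replicate, if_neg hk.ne']
  rw [h1, Finset.prod_singleton, Multiset.count_replicate_self]

theorem card_cent_s7 : Nat.card (centralizer {s7}) = 240 := by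
  rw [card_cent (by norm_num) cyc_s7]; rfl
theorem card_cent_z7 : Nat.card (centralizer {z7}) = 48 := by
  rw [card_cent (by norm_num) cyc_z7]; rfl
theorem card_cent_k7 : Nat.card (centralizer {k7}) = 48 := by
  rw [card_cent (by norm_num) cyc_k7]; rfl

theorem card_conj {a : Perm (Fin 7)} {n : ℕ} (h : Nat.card (centralizer {a}) = n) (hn : 0 < n) :
    Nat.card {b : Perm (Fin 7) // IsConj a b} = 5040 / n := by
  have h1 := Perm.card_isConj_mul_eq a
  rw [← Perm.nat_card_centralizer, h, Fintype.card_fin] at h1
  have h2 : Nat.card {b : Perm (Fin 7) // IsConj a b} * n = 5040 := h1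
  rw [← h2, Nat.mul_div_cancel _ hn]

theorem card_conj_s7 : Nat.card {b : Perm (Fin 7) // IsConj s7 b} = 21 := by
  rw [card_conj card_cent_s7 (by norm_num)]
theorem card_conj_z7 : Nat.card {b : Perm (Fin 7) // IsConj z7 b} = 105 := by
  rw [card_conj card_cent_z7 (by norm_num)]
theorem card_conj_k7 : Nat.card {b : Perm (Fin 7) // IsConj k7 b} = 105 := by
  rw [card_conj card_cent_k7 (by norm_num)]

theorem sign_s7 : Perm.sign s7 = -1 := by decide +kernel
theorem sign_z7 : Perm.sign z7 = 1 := by decide +kernel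
theorem sign_k7 : Perm.sign k7 = -1 := by decide +kernel

theorem sign_conj {a b : Perm (Fin 7)} (h : IsConj a b) : Perm.sign b = Perm.sign a := by
  obtain ⟨c, hc⟩ := isConj_iff.1 h
  rw [← hc, map_mul, map_mul, map_inv, mul_comm, inv_mul_cancel_left]

theorem not_conj_sz : ¬ IsConj s7 z7 := fun h => absurd (sign_conj h) (by rw [sign_s7, sign_z7]; decide)
theorem not_conj_kz : ¬ IsConj k7 z7 := fun h => absurd (sign_conj h) (by rw [sign_k7, sign_z7]; decide)

theorem not_conj_sk : ¬ IsConj s7 k7 := by
  rw [Perm.isConj_iff_cycleType_eq, cyc_s7, cyc_k7]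
  intro h
  have := congrArg Multiset.card h
  rw [Multiset.card_replicate, Multiset.card_replicate] at this
  exact absurd this (by norm_num)

end Cfsg.Agent.OddHalf.D5.Seven
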